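import Mathlib
import Cfsg.Agent.Lib.Helper12.Generation

set_option autoImplicit false

namespace Cfsg.Agent.Lib.Helper6

open SemidirectProduct in
/-- Generation by fixed points of commuting automorphisms of prime order `r`, for a group of order
prime to `r` (the abstract, "holomorph" form of `Helper12.le_gen_of_coprime`). -/
theorem holomorph_gen {N : Type*} [Group N] [Finite N] (r : ℕ) [Fact r.Prime]
    (hcop : (Nat.card N).Coprime r)
    (α β : MulAut N) (hαβ : α * β = β * α) (hα : α ^ r = 1) (hβ : β ^ r = 1) (N₀ : Subgroup N)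
    (h1 : ∀ n : N, α n = n → n ∈ N₀)
    (h2 : ∀ i : ZMod r, ∀ n : N, (α ^ i.val * β) n = n → n ∈ N₀) : N₀ = ⊤ := by
  classical
  let S := N ⋊[MonoidHom.id (MulAut N)] MulAut N
  haveI : Finite S := Finite.of_equiv _ (SemidirectProduct.equivProd (φ := MonoidHom.id (MulAut N))).symm
  let iN : N →* S := inl
  let iA : MulAut N →* S := inr
  have hinj : Function.Injective iN := inl_injective
  set K : Subgroup S := iN.range with hK
  haveI : K.Normal := by
    rw [hK]; show (inl : N →* S).range.Normal
    rw [range_inl_eq_ker_rightHom]; infer_instance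
  have hcardK : Nat.card K = Nat.card N :=
    (Nat.card_congr (MonoidHom.ofInjective hinj).toEquiv).symm
  have hcent : ∀ γ : MulAut N, ∀ s : S, s ∈ K ⊓ Subgroup.centralizer ({iA γ} : Set S) →
      ∃ n : N, iN n = s ∧ γ n = n := by
    intro γ s hs
    obtain ⟨⟨n, rfl⟩, hs2⟩ := hs
    refine ⟨n, rfl, ?_⟩
    have hs2 : iN n ∈ Subgroup.centralizer ({iA γ} : Set S) := hs2
    rw [Subgroup.mem_centralizer_singleton_iff] at hs2
    apply hinj
    have h := inl_aut (φ := MonoidHom.id (MulAut N)) γ n
    simp only [MonoidHom.id_apply] at h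
    show (inl (γ n) : S) = inl n
    rw [h]
    have hs2' : (inr γ : S) * inl n = inl n * inr γ := hs2.symm
    rw [hs2', mul_assoc, ← map_mul, mul_inv_cancel, map_one, mul_one]
  have hle : K ≤ N₀.map iN := by
    apply Helper12.le_gen_of_coprime (p := r) K (by rw [hcardK]; exact hcop) (iA α) (iA β)
    · rw [Subgroup.normalizer_eq_top]; trivial
    · rw [Subgroup.normalizer_eq_top]; trivial
    · rw [← map_mul, ← map_mul, hαβ]
    · rw [← map_pow, hα, map_one]
    · rw [← map_pow, hβ, map_one]
    · intro s hs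
      obtain ⟨n, rfl, hn⟩ := hcent α s hs
      exact Subgroup.mem_map_of_mem _ (h1 n hn)
    · intro i s hs
      rw [← map_pow, ← map_mul] at hs
      obtain ⟨n, rfl, hn⟩ := hcent _ s hs
      exact Subgroup.mem_map_of_mem _ (h2 i n hn)
  rw [eq_top_iff]
  intro n _
  have : iN n ∈ N₀.map iN := hle ⟨n, rfl⟩
  exact (Subgroup.mem_map_iff_mem hinj).mp this

end Cfsg.Agent.Lib.Helper6
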