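import Mathlib
import Cfsg.Prelude.Def_OddOrderLocal
import Cfsg.Agent.Lib.Helper2.Cores

/-!
The largest normal nilpotent Hall subgroup `fittingHall G` (helper6): it is nilpotent and Hall.
-/

set_option autoImplicit false

namespace Cfsg.Agent.Lib.Helper6

open Cfsg

universe u

variable {G : Type u} [Group G]

theorem inj_isNilpotent {A B : Type*} [Group A] [Group B] (f : A →* B)
    (hf : Function.Injective f) (hB : Group.IsNilpotent B) : Group.IsNilpotent A :=
  haveI := hB
  Subgroup.isNilpotent_of_ker_le_center f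
    (by rw [(MonoidHom.ker_eq_bot_iff f).mpr hf]; exact bot_le)

theorem isNilpotent_of_le {K1 K2 : Subgroup G} (h : K1 ≤ K2)
    (h2 : Group.IsNilpotent K2) : Group.IsNilpotent K1 :=
  inj_isNilpotent (Subgroup.inclusion h) (Subgroup.inclusion_injective h) h2

theorem le_fittingHall {N : Subgroup G} (hN : N.Normal) (hn : Group.IsNilpotent N)
    (hc : (Nat.card N).Coprime N.index) : N ≤ fittingHall G :=
  le_sSup ⟨hN, hn, hc⟩

theorem fittingHall_le_fittingSubgroup : fittingHall G ≤ fittingSubgroup G :=
  sSup_le (fun _ hN => Cfsg.Agent.Lib.Helper2.le_fittingSubgroup hN.1 hN.2.1)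

theorem fittingHall_isNilpotent [Finite G] : Group.IsNilpotent (fittingHall G) :=
  isNilpotent_of_le fittingHall_le_fittingSubgroup Cfsg.Agent.Lib.Helper2.fittingSubgroup_isNilpotent

theorem fittingHall_coprime [Finite G] :
    (Nat.card (fittingHall G)).Coprime (fittingHall G).index := by
  apply Nat.coprime_of_dvd
  intro q hq hqcard hqindex
  haveI : Fact q.Prime := ⟨hq⟩
  have hex : ∃ N : Subgroup G, (N.Normal ∧ Group.IsNilpotent N ∧ (Nat.card N).Coprime N.index) ∧
      q ∣ Nat.card N := by
    by_contra hall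
    push Not at hall
    have hle : fittingHall G ≤ pPrimeCore q G := by
      apply sSup_le
      intro N hN
      exact Cfsg.Agent.Lib.Helper2.le_pPrimeCore hN.1
        ((Nat.Prime.coprime_iff_not_dvd hq).mpr (hall N hN)).symm
    have h1 := Cfsg.Agent.Lib.Helper2.pPrimeCore_coprime (G := G) q
    have h2 := Nat.Coprime.coprime_dvd_left (Subgroup.card_dvd_of_le hle) h1
    exact (Nat.Prime.coprime_iff_not_dvd hq).mp h2.symm hqcard
  obtain ⟨N, hN, hqN⟩ := hex
  have h1 : ¬ q ∣ N.index := fun h =>
    (Nat.Prime.coprime_iff_not_dvd hq).mp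
      ((Nat.Coprime.coprime_dvd_right h hN.2.2).symm) hqN
  exact h1 (hqindex.trans (Subgroup.index_dvd_of_le (le_sSup hN)))

end Cfsg.Agent.Lib.Helper6
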