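import Mathlib
import Cfsg.Prelude.Def_Local
import Cfsg.Agent.Lib.Helper2.Cores
import Cfsg.Agent.Lib.Helper3.PSolvable

set_option autoImplicit false

/-! Structure of groups of `p`-length one (helper6): `G = O_{p'}(G) N_G(S)`. -/

namespace Cfsg.Agent.Lib.Helper6

open Cfsg Subgroup

variable {G : Type*} [Group G] [Finite G] {p : ℕ} [Fact p.Prime]

/-- In a group of `p`-length at most one there are normal subgroups `K ≤ V` with `K` a `p'`-group,
`V/K` a `p`-group and `G/V` a `p'`-group. -/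
theorem plength_one_chain (hpl : PLengthLE p 1 G) :
    ∃ K V : Subgroup G, K.Normal ∧ V.Normal ∧ K ≤ V ∧ (Nat.card K).Coprime p ∧
      (∃ m : ℕ, K.relIndex V = p ^ m) ∧ ¬ p ∣ V.index := by
  have hp : p.Prime := Fact.out
  set U₀ : Subgroup G := (upperPSeries p G 0).1 with hU₀
  have hU₀bot : U₀ = ⊥ := rfl
  set K : Subgroup G := (upperPSeries p G 1).1 with hK
  set V : Subgroup G := (upperPSeries p G 2).1 with hV
  haveI hKn : K.Normal := (upperPSeries p G 1).2
  haveI hVn : V.Normal := (upperPSeries p G 2).2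
  have hK1 : K = (pPrimeCore p (G ⧸ U₀)).comap (QuotientGroup.mk' U₀) :=
    Cfsg.Agent.Lib.Helper3.upperPSeries_odd p 0
  have hV1 : V = (pCore p (G ⧸ K)).comap (QuotientGroup.mk' K) :=
    Cfsg.Agent.Lib.Helper3.upperPSeries_even p 0
  have h3 : (⊤ : Subgroup G) = (pPrimeCore p (G ⧸ V)).comap (QuotientGroup.mk' V) := by
    have := Cfsg.Agent.Lib.Helper3.upperPSeries_odd (G := G) p 1
    rw [← this]
    exact hpl.symm
  refine ⟨K, V, hKn, hVn, ?_, ?_, ?_, ?_⟩
  · rw [hV1]
    intro x hx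
    rw [Subgroup.mem_comap]
    have : (QuotientGroup.mk' K) x = 1 := (QuotientGroup.eq_one_iff x).mpr hx
    rw [this]; exact one_mem _
  · have hc := Cfsg.Agent.Lib.Helper3.card_comap_mk'_eq U₀ (pPrimeCore p (G ⧸ U₀))
    rw [← hK1] at hc
    have hU₀card : Nat.card U₀ = 1 := by rw [hU₀bot]; exact Subgroup.card_bot
    rw [hc, hU₀card, one_mul]
    exact Cfsg.Agent.Lib.Helper2.pPrimeCore_coprime p
  · obtain ⟨m, hm⟩ := IsPGroup.iff_card.mp (Cfsg.Agent.Lib.Helper2.pCore_isPGroup (G := G ⧸ K) p)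
    refine ⟨m, ?_⟩
    have hKker : K = (⊥ : Subgroup (G ⧸ K)).comap (QuotientGroup.mk' K) := by
      rw [MonoidHom.comap_bot, QuotientGroup.ker_mk']
    have h1 : K.relIndex V = (⊥ : Subgroup (G ⧸ K)).relIndex (V.map (QuotientGroup.mk' K)) := by
      conv_lhs => rw [hKker]
      exact Subgroup.relIndex_comap _ _ _
    rw [h1, Subgroup.relIndex_bot_left, hV1,
      Subgroup.map_comap_eq_self_of_surjective (QuotientGroup.mk'_surjective K), hm]
  · have htop : pPrimeCore p (G ⧸ V) = ⊤ := by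
      apply Subgroup.comap_injective (QuotientGroup.mk'_surjective V)
      rw [← h3, Subgroup.comap_top]
    have hcop := Cfsg.Agent.Lib.Helper2.pPrimeCore_coprime (G := G ⧸ V) p
    rw [htop, Subgroup.card_top] at hcop
    rw [Subgroup.index_eq_card]
    intro hdvd
    have := Nat.Coprime.eq_one_of_dvd hcop.symm hdvd
    exact hp.one_lt.ne' this

/-- Frattini argument in a group of `p`-length one: `G = K N_G(S)` with `K` a normal `p'`-subgroup. -/
theorem plength_one_frattini (hpl : PLengthLE p 1 G) (S : Sylow p G) :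
    ∃ K : Subgroup G, K.Normal ∧ (Nat.card K).Coprime p ∧
      K ⊔ Subgroup.normalizer ((S : Subgroup G) : Set G) = ⊤ := by
  have hp : p.Prime := Fact.out
  obtain ⟨K, V, hKn, hVn, hKV, hKcop, ⟨m, hm⟩, hVidx⟩ := plength_one_chain hpl
  haveI := hKn
  haveI := hVn
  refine ⟨K, hKn, hKcop, ?_⟩
  -- `S ≤ V`
  have hSV : (S : Subgroup G) ≤ V := by
    intro s hs
    rw [← QuotientGroup.eq_one_iff (N := V)]
    have h1 : orderOf ((QuotientGroup.mk' V) s) ∣ Nat.card (G ⧸ V) := orderOf_dvd_natCard _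
    obtain ⟨k, hk⟩ := (S.isPGroup' ⟨s, hs⟩)
    have hk' : s ^ p ^ k = 1 := by
      simpa only [Subgroup.coe_pow, Subgroup.coe_one] using congrArg Subtype.val hk
    have h2 : orderOf ((QuotientGroup.mk' V) s) ∣ p ^ k := by
      apply orderOf_dvd_of_pow_eq_one
      rw [← map_pow, hk', map_one]
    have hcop : (Nat.card (G ⧸ V)).Coprime (p ^ k) := by
      apply Nat.Coprime.pow_right
      rw [← Subgroup.index_eq_card]
      exact ((Nat.Prime.coprime_iff_not_dvd hp).mpr hVidx).symm
    have h3 : orderOf ((QuotientGroup.mk' V) s) = 1 := Nat.eq_one_of_dvd_coprimes hcop h1 h2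
    exact orderOf_eq_one_iff.mp h3
  -- Frattini
  have hfr := Sylow.normalizer_sup_eq_top (S.subtype hSV)
  have hmap : ((S.subtype hSV : Sylow p V) : Subgroup V).map V.subtype = (S : Subgroup G) := by
    rw [Sylow.coe_subtype]
    exact Subgroup.map_subgroupOf_eq_of_le hSV
  rw [hmap] at hfr
  -- `V = K ⊔ S`
  have hVle : V ≤ K ⊔ (S : Subgroup G) := by
    have hd1 : (K ⊔ (S : Subgroup G)).relIndex V ∣ K.relIndex V :=
      Subgroup.relIndex_dvd_of_le_left V le_sup_left
    have hd2 : (K ⊔ (S : Subgroup G)).relIndex V ∣ (S : Subgroup G).relIndex V :=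
      Subgroup.relIndex_dvd_of_le_left V le_sup_right
    have hnd : ¬ p ∣ (S : Subgroup G).relIndex V := by
      intro h
      exact S.not_dvd_index (h.trans (Subgroup.relIndex_dvd_index_of_le hSV))
    rw [hm] at hd1
    obtain ⟨i, -, hi⟩ := (Nat.dvd_prime_pow hp).mp hd1
    have hi0 : i = 0 := by
      by_contra hne
      apply hnd
      exact dvd_trans (by rw [hi]; exact dvd_pow_self p hne) hd2
    rw [hi0, pow_zero] at hi
    exact Subgroup.relIndex_eq_one.mp hi
  rw [eq_top_iff, ← hfr]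
  apply sup_le
  · exact le_sup_right
  · exact hVle.trans (sup_le le_sup_left (Subgroup.le_normalizer.trans le_sup_right))

/-- Quotient form: a group of `p`-length one has a normal `p'`-subgroup `K` with `O_{p'}(G/K) = 1`
and `O_p(G/K)` of index prime to `p` (so `O_p(G/K)` is the normal Sylow `p`-subgroup of `G/K`). -/
theorem plength_one_quot (hpl : PLengthLE p 1 G) :
    ∃ (K : Subgroup G) (_ : K.Normal), (Nat.card K).Coprime p ∧ pPrimeCore p (G ⧸ K) = ⊥ ∧
      ¬ p ∣ (pCore p (G ⧸ K)).index := by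
  have hp : p.Prime := Fact.out
  set U₀ : Subgroup G := (upperPSeries p G 0).1 with hU₀
  have hU₀bot : U₀ = ⊥ := rfl
  set K : Subgroup G := (upperPSeries p G 1).1 with hK
  set V : Subgroup G := (upperPSeries p G 2).1 with hV
  haveI hU₀n : U₀.Normal := (upperPSeries p G 0).2
  haveI hKn : K.Normal := (upperPSeries p G 1).2
  haveI hVn : V.Normal := (upperPSeries p G 2).2
  have hK1 : K = (pPrimeCore p (G ⧸ U₀)).comap (QuotientGroup.mk' U₀) :=
    Cfsg.Agent.Lib.Helper3.upperPSeries_odd p 0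
  have hV1 : V = (pCore p (G ⧸ K)).comap (QuotientGroup.mk' K) :=
    Cfsg.Agent.Lib.Helper3.upperPSeries_even p 0
  have h3 : (⊤ : Subgroup G) = (pPrimeCore p (G ⧸ V)).comap (QuotientGroup.mk' V) := by
    have := Cfsg.Agent.Lib.Helper3.upperPSeries_odd (G := G) p 1
    rw [← this]
    exact hpl.symm
  refine ⟨K, hKn, ?_, Cfsg.Agent.Lib.Helper3.pPrimeCore_quotient_eq_bot p U₀ K hK1, ?_⟩
  · have hc := Cfsg.Agent.Lib.Helper3.card_comap_mk'_eq U₀ (pPrimeCore p (G ⧸ U₀))
    rw [← hK1] at hc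
    have hU₀card : Nat.card U₀ = 1 := by rw [hU₀bot]; exact Subgroup.card_bot
    rw [hc, hU₀card, one_mul]
    exact Cfsg.Agent.Lib.Helper2.pPrimeCore_coprime p
  · have htop : pPrimeCore p (G ⧸ V) = ⊤ := by
      apply Subgroup.comap_injective (QuotientGroup.mk'_surjective V)
      rw [← h3, Subgroup.comap_top]
    have hcop := Cfsg.Agent.Lib.Helper2.pPrimeCore_coprime (G := G ⧸ V) p
    rw [htop, Subgroup.card_top] at hcop
    have hidx : (pCore p (G ⧸ K)).index = V.index := by
      rw [hV1, Subgroup.index_comap_of_surjective _ (QuotientGroup.mk'_surjective K)]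
    rw [hidx, Subgroup.index_eq_card]
    intro hdvd
    have := Nat.Coprime.eq_one_of_dvd hcop.symm hdvd
    exact hp.one_lt.ne' this

/-- If a normal `p`-subgroup `P` of a finite group has index prime to `p`, it contains every
`p`-subgroup. -/
theorem le_of_normal_of_not_dvd_index (P : Subgroup G) [P.Normal] (hidx : ¬ p ∣ P.index)
    (Q : Subgroup G) (hQ : IsPGroup p Q) : Q ≤ P := by
  have hp : p.Prime := Fact.out
  intro s hs
  rw [← QuotientGroup.eq_one_iff (N := P)]
  have h1 : orderOf ((QuotientGroup.mk' P) s) ∣ Nat.card (G ⧸ P) := orderOf_dvd_natCard _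
  obtain ⟨k, hk⟩ := (hQ ⟨s, hs⟩)
  have hk' : s ^ p ^ k = 1 := by
    simpa only [Subgroup.coe_pow, Subgroup.coe_one] using congrArg Subtype.val hk
  have h2 : orderOf ((QuotientGroup.mk' P) s) ∣ p ^ k := by
    apply orderOf_dvd_of_pow_eq_one
    rw [← map_pow, hk', map_one]
  have hcop : (Nat.card (G ⧸ P)).Coprime (p ^ k) := by
    apply Nat.Coprime.pow_right
    rw [← Subgroup.index_eq_card]
    exact ((Nat.Prime.coprime_iff_not_dvd hp).mpr hidx).symm
  have h3 : orderOf ((QuotientGroup.mk' P) s) = 1 := Nat.eq_one_of_dvd_coprimes hcop h1 h2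
  exact orderOf_eq_one_iff.mp h3

end Cfsg.Agent.Lib.Helper6
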