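import Mathlib
import Cfsg.Agent.S0039
import Cfsg.Agent.Lib.Helper13.FrobStruct
import Cfsg.Agent.Lib.Helper13.FpfThompson

/-!
# Tools for building Frobenius groups (helper6)

* `fk_nilpotent`: a normal subgroup `N` on which an element `b` of prime order acts fixed-point-freely
  is nilpotent (Thompson, via helper13's `fpf_nilpotent_aux`).
* `frobTop`: `K ⊲ G`, `C` a complement acting fixed-point-freely: `C` is a Frobenius complement
  with Frobenius kernel `K`.
* `exists_orderOf_eq_of_dvd`, `exists_orderOf_eq_of_surjective`: element orders.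
* `orderOf_mul_of_primes`: commuting elements of distinct prime orders.
* `exists_mixed_of_nilpotent`: a nilpotent group whose order is divisible by distinct primes `a`, `b`
  has an element of order `a * b`.
* `unique_invol_of_fpf`: a group acting fixed-point-freely has at most one involution.
-/

set_option autoImplicit false
open Cfsg
open scoped Pointwise

universe u

namespace Cfsg.Agent.Lib.Helper6.FrobTools

theorem fk_nilpotent {G : Type u} [Group G] [Finite G] (N : Subgroup G) [hN : N.Normal] (b : G)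
    (p : ℕ) (hp : p.Prime) (hb : orderOf b = p) (hfpf : ∀ x ∈ N, b * x = x * b → x = 1) :
    Group.IsNilpotent N := by
  obtain ⟨φ, hφd⟩ : ∃ φ : N ≃* N, φ = MulAut.conjNormal b := ⟨_, rfl⟩
  have hφa : ∀ x : N, ((φ x : N) : G) = b * x * b⁻¹ := by
    intro x; rw [hφd]; exact MulAut.conjNormal_apply b x
  have hφ : MonoidHom.FixedPointFree (φ : N →* N) := by
    intro x hx
    have h1 : b * (x : G) * b⁻¹ = x := by
      rw [← hφa x]; exact congrArg Subtype.val hx
    have h2 : (x : G) = 1 := hfpf x.1 x.2 (by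
      calc b * (x : G) = b * (x : G) * b⁻¹ * b := by group
        _ = (x : G) * b := by rw [h1])
    exact Subtype.ext h2
  have hiter : ∀ (k : ℕ) (x : N), (((⇑φ)^[k] x : N) : G) = b ^ k * x * (b ^ k)⁻¹ := by
    intro k
    induction k with
    | zero => intro x; simp
    | succ k ih =>
      intro x
      rw [Function.iterate_succ_apply', hφa, ih, pow_succ']
      group
  have hper : (⇑φ)^[p] = id := by
    funext x
    apply Subtype.ext
    rw [hiter, ← hb, pow_orderOf_eq_one]
    simp
  exact Cfsg.Agent.Lib.Helper13.fpf_nilpotent_aux p hp _ N rfl φ hφ hper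

/-- A complement acting fixed-point-freely on a normal subgroup is a Frobenius complement, and the
normal subgroup is the Frobenius kernel. -/
theorem frobTop {G : Type u} [Group G] [Finite G] (K C : Subgroup G) [hKn : K.Normal]
    (hc : Subgroup.IsComplement' K C) (hK : K ≠ ⊥) (hC : C ≠ ⊥)
    (hfpf : ∀ h ∈ C, h ≠ 1 → ∀ x ∈ K, h * x = x * h → x = 1) :
    IsFrobeniusComplement C ∧ frobeniusKernel C = (K : Set G) := by
  have hfpf' : ∀ h ∈ C, h ≠ 1 → K ⊓ Subgroup.centralizer {h} = ⊥ := by
    intro h hh h1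
    rw [eq_bot_iff]
    intro x hx
    rw [Subgroup.mem_bot]
    obtain ⟨hxK, hxC⟩ := Subgroup.mem_inf.mp hx
    exact hfpf h hh h1 x hxK (Subgroup.mem_centralizer_iff.mp hxC h rfl)
  have hFC : IsFrobeniusComplement C := (Cfsg.Agent.S0039.result K C hc hK hC).mpr hfpf'
  refine ⟨hFC, ?_⟩
  obtain ⟨N, hF⟩ := Cfsg.Agent.Lib.Helper13.exists_frobData C hFC
  have hNn := hF.normal
  have hcard : Nat.card N = Nat.card K := by
    have e1 := hF.isCompl.card_mul_card
    have e2 := hc.card_mul_card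
    rw [← e2] at e1
    exact Nat.eq_of_mul_eq_mul_right Nat.card_pos e1
  have hNK : N = K := by
    rcases hF.le_or_le K with h | h
    · exact (Subgroup.eq_of_le_of_card_ge h hcard.le).symm
    · exact Subgroup.eq_of_le_of_card_ge h hcard.ge
  ext x
  rw [← hNK, SetLike.mem_coe, hF.mem x]
  rfl

theorem exists_orderOf_eq_of_dvd {G : Type*} [Group G] [Finite G] (g : G) (m : ℕ)
    (h : m ∣ orderOf g) : ∃ g' : G, orderOf g' = m := by
  obtain ⟨k, hk⟩ := h
  have hpos : 0 < orderOf g := orderOf_pos g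
  have hk0 : k ≠ 0 := by
    rintro rfl
    rw [mul_zero] at hk
    omega
  refine ⟨g ^ k, ?_⟩
  rw [orderOf_pow_of_dvd hk0 ⟨m, by rw [hk, mul_comm]⟩, hk]
  exact Nat.mul_div_cancel m (Nat.pos_of_ne_zero hk0)

theorem exists_orderOf_eq_of_surjective {G Q : Type*} [Group G] [Finite G] [Group Q]
    (f : G →* Q) (hf : Function.Surjective f) (q : Q) : ∃ g : G, orderOf g = orderOf q := by
  obtain ⟨g₀, rfl⟩ := hf q
  exact exists_orderOf_eq_of_dvd g₀ _ (orderOf_map_dvd f g₀)

/-- commuting elements of distinct prime orders -/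
theorem orderOf_mul_of_primes {G : Type*} [Group G] {x y : G} {a b : ℕ} (ha : a.Prime)
    (hb : b.Prime) (hab : a ≠ b) (hx : orderOf x = a) (hy : orderOf y = b) (hc : Commute x y) :
    orderOf (x * y) = a * b := by
  rw [hc.orderOf_mul_eq_mul_orderOf_of_coprime (by rw [hx, hy]; exact (Nat.coprime_primes ha hb).mpr hab),
    hx, hy]

/-- an element of prime order `u` as a power of `x`, when `u ∣ orderOf x` -/
theorem exists_pow_prime_order {G : Type*} [Group G] [Finite G] (x : G) (u : ℕ)
    (hu : u ∣ orderOf x) : ∃ k : ℕ, orderOf (x ^ k) = u := by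
  obtain ⟨k, hk⟩ := hu
  have hpos : 0 < orderOf x := orderOf_pos x
  have hk0 : k ≠ 0 := by
    rintro rfl
    rw [mul_zero] at hk
    omega
  refine ⟨k, ?_⟩
  rw [orderOf_pow_of_dvd hk0 ⟨u, by rw [hk, mul_comm]⟩, hk]
  exact Nat.mul_div_cancel u (Nat.pos_of_ne_zero hk0)

/-- In a finite nilpotent group, elements of prime power orders for distinct primes commute. -/
theorem commute_of_nilpotent_of_prime_pow {N : Type*} [Group N] [Finite N]
    [hn : Group.IsNilpotent N] (p q : ℕ) (hp : p.Prime) (hq : q.Prime) (hpq : p ≠ q)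
    (z w : N) (k l : ℕ) (hz : orderOf z = p ^ k) (hw : orderOf w = q ^ l) : Commute z w := by
  have hnorm : ∀ (p : ℕ) [Fact p.Prime] (P : Sylow p N), (P : Subgroup N).Normal :=
    ((Group.isNilpotent_of_finite_tfae (G := N)).out 0 3).mp hn
  have hmem : ∀ (p : ℕ) [Fact p.Prime] (P : Sylow p N) (z : N) (k : ℕ), orderOf z = p ^ k →
      z ∈ (P : Subgroup N) := by
    intro p _ P z k hz
    have hzp : IsPGroup p (Subgroup.zpowers z) := by
      rw [IsPGroup.iff_card]
      exact ⟨k, by rw [Nat.card_zpowers, hz]⟩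
    obtain ⟨P', hP'⟩ := hzp.exists_le_sylow
    haveI := hnorm p P
    have : P' = P := by
      obtain ⟨g, hg⟩ := MulAction.exists_smul_eq N P P'
      rw [← hg, Sylow.smul_eq_of_normal]
    rw [← this]
    exact hP' (Subgroup.mem_zpowers z)
  haveI : Fact p.Prime := ⟨hp⟩
  haveI : Fact q.Prime := ⟨hq⟩
  obtain P : Sylow p N := default
  obtain R : Sylow q N := default
  haveI := hnorm p P
  haveI := hnorm q R
  exact Subgroup.commute_of_normal_of_disjoint _ _ inferInstance inferInstance
    (IsPGroup.disjoint_of_ne p q hpq _ _ P.2 R.2) z w (hmem p P z k hz) (hmem q R w l hw)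

/-- A finite nilpotent group whose order is divisible by the distinct primes `a`, `b` has an
element of order `a * b`. -/
theorem exists_mixed_of_nilpotent {N : Type*} [Group N] [Finite N] [hn : Group.IsNilpotent N]
    (a b : ℕ) (ha : a.Prime) (hb : b.Prime) (hab : a ≠ b) (had : a ∣ Nat.card N)
    (hbd : b ∣ Nat.card N) : ∃ g : N, orderOf g = a * b := by
  haveI : Fact a.Prime := ⟨ha⟩
  haveI : Fact b.Prime := ⟨hb⟩
  obtain ⟨x, hx⟩ := exists_prime_orderOf_dvd_card' a had
  obtain ⟨y, hy⟩ := exists_prime_orderOf_dvd_card' b hbd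
  refine ⟨x * y, orderOf_mul_of_primes ha hb hab hx hy ?_⟩
  exact commute_of_nilpotent_of_prime_pow a b ha hb hab x y 1 1 (by rw [hx, pow_one])
    (by rw [hy, pow_one])

/-- A group acting fixed-point-freely on a nontrivial normal subgroup has at most one
involution. -/
theorem unique_invol_of_fpf {X : Type u} [Group X] [Finite X] (K E : Subgroup X) [hKn : K.Normal]
    (hK : K ≠ ⊥) (hfpf : ∀ h ∈ E, h ≠ 1 → ∀ x ∈ K, h * x = x * h → x = 1)
    (u₁ u₂ : X) (h₁ : u₁ ∈ E) (h₂ : u₂ ∈ E) (ho₁ : orderOf u₁ = 2) (ho₂ : orderOf u₂ = 2) :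
    u₁ = u₂ := by
  have hinv : ∀ u ∈ E, orderOf u = 2 → ∀ x ∈ K, u * x * u⁻¹ = x⁻¹ := by
    intro u hu ho x hx
    have hu1 : u ≠ 1 := by
      rintro rfl; rw [orderOf_one] at ho; omega
    have hu2 : u ^ 2 = 1 := by rw [← ho]; exact pow_orderOf_eq_one u
    obtain ⟨φ, hφd⟩ : ∃ φ : K ≃* K, φ = MulAut.conjNormal u := ⟨_, rfl⟩
    have hφa : ∀ x : K, ((φ x : K) : X) = u * x * u⁻¹ := by
      intro x; rw [hφd]; exact MulAut.conjNormal_apply u x
    have hφ : MonoidHom.FixedPointFree (φ : K →* K) := by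
      intro x hx
      have h1 : u * (x : X) * u⁻¹ = x := by
        rw [← hφa x]; exact congrArg Subtype.val hx
      have h2 : (x : X) = 1 := hfpf u hu hu1 x.1 x.2 (by
        calc u * (x : X) = u * (x : X) * u⁻¹ * u := by group
          _ = (x : X) * u := by rw [h1])
      exact Subtype.ext h2
    have hinvol : Function.Involutive (φ : K →* K) := by
      intro x
      apply Subtype.ext
      show ((φ (φ x) : K) : X) = x
      rw [hφa, hφa]
      have : u⁻¹ = u := by
        rw [inv_eq_iff_mul_eq_one, ← pow_two]; exact hu2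
      rw [this]
      calc u * (u * (x : X) * u) * u = (u ^ 2) * x * (u ^ 2) := by simp only [pow_two, mul_assoc]
        _ = x := by rw [hu2, one_mul, mul_one]
    have := hφ.coe_eq_inv_of_involutive hinvol
    have h3 := congrFun this ⟨x, hx⟩
    have h4 := congrArg Subtype.val h3
    rw [← hφa ⟨x, hx⟩]
    exact h4
  have hu₂2 : u₂ ^ 2 = 1 := by rw [← ho₂]; exact pow_orderOf_eq_one u₂
  have hu₂inv : u₂⁻¹ = u₂ := by
    rw [inv_eq_iff_mul_eq_one, ← pow_two]; exact hu₂2
  by_contra hne
  have hprod : u₁ * u₂ ≠ 1 := by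
    intro h
    apply hne
    rw [← hu₂inv]
    exact eq_inv_of_mul_eq_one_left h
  obtain ⟨x, hxK, hx1⟩ : ∃ x ∈ K, x ≠ 1 := by
    by_contra hcon
    push Not at hcon
    exact hK ((Subgroup.eq_bot_iff_forall K).mpr hcon)
  apply hx1
  apply hfpf (u₁ * u₂) (E.mul_mem h₁ h₂) hprod x hxK
  have e2 := hinv u₂ h₂ ho₂ x hxK
  have e1 := hinv u₁ h₁ ho₁ x⁻¹ (K.inv_mem hxK)
  rw [inv_inv] at e1
  calc u₁ * u₂ * x = u₁ * (u₂ * x * u₂⁻¹) * u₁⁻¹ * (u₁ * u₂) := by group
    _ = x * (u₁ * u₂) := by rw [e2, e1]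

end Cfsg.Agent.Lib.Helper6.FrobTools
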