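import Mathlib
import Cfsg.Prelude.Def_ChevStructure

/-!
# Sparse polynomial arithmetic for the tabulated Chevalley matrices (helper6)

A small reflection framework: the columns of the matrices `x_r(t)` of a `ChevalleyDatum` are
computed as sparse vectors whose coefficients are integer polynomials in three variables; products
of such matrices are evaluated column by column, and identities between them are decided by kernel
computation on the tables.
-/

set_option autoImplicit false

namespace Cfsg.Agent.Lib.Helper6.ChevSparse

open Cfsg.Lie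

/-! ## Polynomials -/

/-- exponents of the three variables -/
abbrev Mono := ℕ × ℕ × ℕ

/-- polynomials: lists of monomials with integer coefficients -/
abbrev Poly := List (Mono × ℤ)

section eval

variable {F : Type*} [Field F]

/-- evaluation of a monomial -/
def mev (a : F × F × F) (m : Mono) : F := a.1 ^ m.1 * a.2.1 ^ m.2.1 * a.2.2 ^ m.2.2

/-- evaluation of a polynomial -/
def pev (a : F × F × F) (p : Poly) : F := (p.map fun mz => ((mz.2 : ℤ) : F) * mev a mz.1).sum

theorem pev_nil (a : F × F × F) : pev a [] = 0 := rfl

theorem pev_cons (a : F × F × F) (x : Mono × ℤ) (p : Poly) :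
    pev a (x :: p) = ((x.2 : ℤ) : F) * mev a x.1 + pev a p := by
  simp [pev]

/-- addition -/
def padd (p q : Poly) : Poly := p ++ q

theorem pev_add (a : F × F × F) (p q : Poly) : pev a (padd p q) = pev a p + pev a q := by
  simp [pev, padd]

/-- scalar multiplication -/
def psmul (z : ℤ) (p : Poly) : Poly := p.map fun x => (x.1, z * x.2)

theorem pev_smul (a : F × F × F) (z : ℤ) (p : Poly) : pev a (psmul z p) = (z : F) * pev a p := by
  induction p with
  | nil => simp [pev, psmul]
  | cons x p ih =>
    have : psmul z (x :: p) = (x.1, z * x.2) :: psmul z p := rfl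
    rw [this, pev_cons, pev_cons, ih]
    push_cast
    ring

/-- negation -/
def pneg (p : Poly) : Poly := psmul (-1) p

theorem pev_neg (a : F × F × F) (p : Poly) : pev a (pneg p) = - pev a p := by
  rw [pneg, pev_smul]; push_cast; ring

/-- multiplication of monomials -/
def mmul (m m' : Mono) : Mono := (m.1 + m'.1, m.2.1 + m'.2.1, m.2.2 + m'.2.2)

theorem mev_mul (a : F × F × F) (m m' : Mono) : mev a (mmul m m') = mev a m * mev a m' := by
  simp only [mev, mmul, pow_add]; ring

/-- multiplication by a term -/
def tmul (x : Mono × ℤ) (q : Poly) : Poly := q.map fun y => (mmul x.1 y.1, x.2 * y.2)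

theorem pev_tmul (a : F × F × F) (x : Mono × ℤ) (q : Poly) :
    pev a (tmul x q) = ((x.2 : ℤ) : F) * mev a x.1 * pev a q := by
  induction q with
  | nil => simp [pev, tmul]
  | cons y q ih =>
    have : tmul x (y :: q) = (mmul x.1 y.1, x.2 * y.2) :: tmul x q := rfl
    rw [this, pev_cons, pev_cons, ih, mev_mul]
    push_cast
    ring

/-- multiplication -/
def pmul (p q : Poly) : Poly := p.flatMap fun x => tmul x q

theorem pev_mul (a : F × F × F) (p q : Poly) : pev a (pmul p q) = pev a p * pev a q := by
  induction p with
  | nil => simp [pev, pmul]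
  | cons x p ih =>
    have : pmul (x :: p) q = tmul x q ++ pmul p q := rfl
    rw [this]
    have h2 := pev_add a (tmul x q) (pmul p q)
    rw [padd] at h2
    rw [h2, pev_tmul, ih, pev_cons]
    ring

/-- constants -/
def pconst (z : ℤ) : Poly := [((0, 0, 0), z)]

theorem pev_const (a : F × F × F) (z : ℤ) : pev a (pconst z) = (z : F) := by
  simp [pev, pconst, mev]

/-- the constant one -/
def pone : Poly := pconst 1

theorem pev_one (a : F × F × F) : pev a pone = 1 := by
  rw [pone, pev_const]; simp

/-- the variables -/
def pX1 : Poly := [((1, 0, 0), 1)]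
def pX2 : Poly := [((0, 1, 0), 1)]
def pX3 : Poly := [((0, 0, 1), 1)]

theorem pev_X1 (a : F × F × F) : pev a pX1 = a.1 := by simp [pev, pX1, mev]
theorem pev_X2 (a : F × F × F) : pev a pX2 = a.2.1 := by simp [pev, pX2, mev]
theorem pev_X3 (a : F × F × F) : pev a pX3 = a.2.2 := by simp [pev, pX3, mev]

/-- powers -/
def ppow (p : Poly) : ℕ → Poly
  | 0 => pone
  | n + 1 => pmul p (ppow p n)

theorem pev_pow (a : F × F × F) (p : Poly) (n : ℕ) : pev a (ppow p n) = pev a p ^ n := by
  induction n with
  | zero => simp [ppow, pev_one]
  | succ n ih => rw [ppow, pev_mul, ih, pow_succ]; ring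

/-! ### Deciding that a polynomial vanishes -/

/-- insert a term, merging equal monomials -/
def ins (m : Mono) (z : ℤ) : Poly → Poly
  | [] => [(m, z)]
  | y :: l => if m = y.1 then (y.1, z + y.2) :: l else y :: ins m z l

theorem pev_ins (a : F × F × F) (m : Mono) (z : ℤ) (l : Poly) :
    pev a (ins m z l) = (z : F) * mev a m + pev a l := by
  induction l with
  | nil => simp [ins, pev]
  | cons y l ih =>
    rw [ins]
    split_ifs with h
    · rw [pev_cons, pev_cons, h]; push_cast; ring
    · rw [pev_cons, pev_cons, ih]; ring

/-- collect equal monomials -/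
def norm (p : Poly) : Poly := p.foldr (fun x acc => ins x.1 x.2 acc) []

theorem pev_norm (a : F × F × F) (p : Poly) : pev a (norm p) = pev a p := by
  induction p with
  | nil => rfl
  | cons x p ih =>
    have : norm (x :: p) = ins x.1 x.2 (norm p) := rfl
    rw [this, pev_ins, ih, pev_cons]

/-- all coefficients vanish after collecting -/
def isZero (p : Poly) : Bool := (norm p).all fun x => decide (x.2 = 0)

theorem pev_all_zero (a : F × F × F) (p : Poly) (h : (p.all fun x => decide (x.2 = 0)) = true) :
    pev a p = 0 := by
  induction p with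
  | nil => rfl
  | cons x p ih =>
    rw [List.all_cons, Bool.and_eq_true] at h
    rw [pev_cons, ih h.2]
    have := of_decide_eq_true h.1
    rw [this]; simp

theorem pev_of_isZero (a : F × F × F) (p : Poly) (h : isZero p = true) : pev a p = 0 := by
  rw [← pev_norm]
  exact pev_all_zero a _ h

/-- cancel `X₁ X₂` -/
def red (m : Mono) : Mono := (m.1 - min m.1 m.2.1, m.2.1 - min m.1 m.2.1, m.2.2)

theorem mev_red (a : F × F × F) (h : a.1 * a.2.1 = 1) (m : Mono) : mev a (red m) = mev a m := by
  obtain ⟨i, j, k⟩ := m
  simp only [mev, red]
  have key : ∀ n i j : ℕ, n ≤ i → n ≤ j → a.1 ^ (i - n) * a.2.1 ^ (j - n) = a.1 ^ i * a.2.1 ^ j := by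
    intro n i j hi hj
    obtain ⟨i', rfl⟩ := Nat.exists_eq_add_of_le hi
    obtain ⟨j', rfl⟩ := Nat.exists_eq_add_of_le hj
    rw [Nat.add_sub_cancel_left, Nat.add_sub_cancel_left, pow_add, pow_add]
    have : a.1 ^ n * a.2.1 ^ n = 1 := by rw [← mul_pow, h, one_pow]
    calc a.1 ^ i' * a.2.1 ^ j' = (a.1 ^ n * a.2.1 ^ n) * (a.1 ^ i' * a.2.1 ^ j') := by
          rw [this, one_mul]
      _ = a.1 ^ n * a.1 ^ i' * (a.2.1 ^ n * a.2.1 ^ j') := by ring
  rw [key _ _ _ (Nat.min_le_left _ _) (Nat.min_le_right _ _)]

/-- reduce all monomials -/
def pred (p : Poly) : Poly := p.map fun x => (red x.1, x.2)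

theorem pev_pred (a : F × F × F) (h : a.1 * a.2.1 = 1) (p : Poly) : pev a (pred p) = pev a p := by
  induction p with
  | nil => rfl
  | cons x p ih =>
    have : pred (x :: p) = (red x.1, x.2) :: pred p := rfl
    rw [this, pev_cons, pev_cons, ih, mev_red a h]

/-- vanishing modulo `X₁ X₂ = 1` -/
def isZeroR (p : Poly) : Bool := isZero (pred p)

theorem pev_of_isZeroR (a : F × F × F) (h : a.1 * a.2.1 = 1) (p : Poly) (hp : isZeroR p = true) :
    pev a p = 0 := by
  rw [← pev_pred a h]
  exact pev_of_isZero a _ hp

end eval

/-! ## Sparse vectors -/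

/-- sparse vectors: lists of (coded index, coefficient) -/
abbrev SVec := List (ℕ × Poly)

/-- coding of the index set by natural numbers -/
def code (D : ChevalleyDatum) : D.Idx → ℕ
  | Sum.inl i => i.val
  | Sum.inr s => D.rank + s.val

theorem code_inl (D : ChevalleyDatum) (i : Fin D.rank) : code D (Sum.inl i) = i.val := rfl
theorem code_inr (D : ChevalleyDatum) (s : Fin D.nroots) : code D (Sum.inr s) = D.rank + s.val := rfl

theorem code_lt (D : ChevalleyDatum) (x : D.Idx) : code D x < D.rank + D.nroots := by
  rcases x with i | s
  · rw [code_inl]; have := i.isLt; omega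
  · rw [code_inr]; have := s.isLt; omega

theorem code_injective (D : ChevalleyDatum) : Function.Injective (code D) := by
  intro x y h
  rcases x with i | s <;> rcases y with j | u
  · rw [code_inl, code_inl] at h; rw [Fin.ext h]
  · rw [code_inl, code_inr] at h; have := i.isLt; omega
  · rw [code_inl, code_inr] at h; have := j.isLt; omega
  · rw [code_inr, code_inr] at h
    have : s = u := Fin.ext (by omega)
    rw [this]

theorem exists_code (D : ChevalleyDatum) (n : ℕ) (h : n < D.rank + D.nroots) :
    ∃ x : D.Idx, code D x = n := by
  by_cases hn : n < D.rank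
  · exact ⟨Sum.inl ⟨n, hn⟩, rfl⟩
  · refine ⟨Sum.inr ⟨n - D.rank, by omega⟩, ?_⟩
    rw [code_inr]; simp only; omega

section sem

variable {F : Type*} [Field F]

/-- the coefficient of a sparse vector at a coded index -/
def semN (a : F × F × F) (v : SVec) (n : ℕ) : F :=
  (v.map fun x => if x.1 = n then pev a x.2 else 0).sum

/-- the vector represented by a sparse vector -/
def sem (D : ChevalleyDatum) (a : F × F × F) (v : SVec) (row : D.Idx) : F :=
  semN a v (code D row)

theorem sem_inl (D : ChevalleyDatum) (a : F × F × F) (v : SVec) (i : Fin D.rank) :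
    sem D a v (Sum.inl i) = semN a v i.val := rfl

theorem sem_inr (D : ChevalleyDatum) (a : F × F × F) (v : SVec) (s : Fin D.nroots) :
    sem D a v (Sum.inr s) = semN a v (D.rank + s.val) := rfl

theorem semN_nil (a : F × F × F) (n : ℕ) : semN a [] n = 0 := rfl

theorem semN_cons (a : F × F × F) (m : ℕ) (p : Poly) (v : SVec) (n : ℕ) :
    semN a ((m, p) :: v) n = (if m = n then pev a p else 0) + semN a v n := by
  simp [semN]

theorem semN_append (a : F × F × F) (v w : SVec) (n : ℕ) :
    semN a (v ++ w) n = semN a v n + semN a w n := by
  simp [semN]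

/-- scaling a sparse vector by a polynomial -/
def vscale (p : Poly) (v : SVec) : SVec := v.map fun y => (y.1, pmul p y.2)

theorem semN_vscale (a : F × F × F) (p : Poly) (v : SVec) (n : ℕ) :
    semN a (vscale p v) n = pev a p * semN a v n := by
  induction v with
  | nil => simp [semN, vscale]
  | cons y v ih =>
    obtain ⟨m, q⟩ := y
    have : vscale p ((m, q) :: v) = (m, pmul p q) :: vscale p v := rfl
    rw [this, semN_cons, semN_cons, ih, mul_add]
    congr 1
    split_ifs
    · rw [pev_mul]
    · rw [mul_zero]

end sem

/-! ## The columns of `x_r(t)` -/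

/-- all chain terms `(target, power, coefficient)` of `x_r(t).e_s` -/
def chainAll (D : ChevalleyDatum) (r s : ℕ) : List (ℕ × ℕ × ℤ) :=
  ((D.chain.getD r #[]).toList.filter (fun e => e.1 = s)).flatMap fun e =>
    (e.2.toList.zipIdx).map fun q => (q.1.1, q.2 + 1, q.1.2)

/-- the column of `x_r(tp)` with coded index `col` -/
def xCol (D : ChevalleyDatum) (r : ℕ) (tp : Poly) (col : ℕ) : SVec :=
  if col < D.rank then
    [(col, pone), (D.rank + r, psmul (-((D.cartanSR.getD col #[]).getD r 0)) tp)]
  else
    if col - D.rank = r then [(col, pone)]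
    else if col - D.rank = D.negIdx.getD r 0 then
      ((List.range D.rank).map fun i => (i, psmul ((D.coroot.getD r #[]).getD i 0) tp)) ++
        [(col, pone), (D.rank + r, pneg (pmul tp tp))]
    else
      (col, pone) :: (chainAll D r (col - D.rank)).map fun x =>
        (D.rank + x.1, psmul x.2.2 (ppow tp x.2.1))

section bridge

variable {F : Type*} [Field F]

theorem sum_map_filter {α : Type*} (l : List α) (p : α → Bool) (f : α → F) :
    ((l.filter p).map f).sum = (l.map fun x => if p x then f x else 0).sum := by
  induction l with
  | nil => rfl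
  | cons x l ih =>
    rw [List.filter_cons]
    by_cases h : p x
    · simp [h, ih]
    · simp [h, ih]

theorem chainCoeff_sum (D : ChevalleyDatum) (r s u : ℕ) (t : F) :
    ((D.chainCoeff r s u).map fun km => ((km.2 : ℤ) : F) * t ^ km.1).sum
      = ((chainAll D r s).map fun x => if x.1 = u then ((x.2.2 : ℤ) : F) * t ^ x.2.1 else 0).sum := by
  unfold ChevalleyDatum.chainCoeff chainAll
  induction ((D.chain.getD r #[]).toList.filter (fun e => e.1 = s)) with
  | nil => rfl
  | cons e l ih =>
    rw [List.flatMap_cons, List.flatMap_cons, List.map_append, List.map_append, List.sum_append,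
      List.sum_append, ih]
    congr 1
    rw [List.map_map, List.map_map, sum_map_filter]
    congr 1
    apply List.map_congr_left
    intro q _
    simp only [Function.comp]
    by_cases h : q.1.1 = u
    · simp [h]
    · simp [h]

theorem semN_range (a : F × F × F) (f : ℕ → Poly) (k n : ℕ) :
    semN a ((List.range k).map fun i => (i, f i)) n = if n < k then pev a (f n) else 0 := by
  induction k with
  | zero => simp [semN]
  | succ k ih =>
    rw [List.range_succ, List.map_append, semN_append, ih]
    simp only [List.map_cons, List.map_nil, semN_cons, semN_nil, add_zero]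
    by_cases h1 : n < k
    · have h2 : k ≠ n := by omega
      have h3 : n < k + 1 := by omega
      simp [h1, h2, h3]
    · by_cases h2 : k = n
      · have h3 : n < k + 1 := by omega
        subst h2
        simp
      · have h3 : ¬ n < k + 1 := by omega
        simp [h1, h2, h3]

theorem semN_chain_lt (a : F × F × F) (l : List (ℕ × ℕ × ℤ)) (tp : Poly) (k n : ℕ) (hn : n < k) :
    semN a (l.map fun x => (k + x.1, psmul x.2.2 (ppow tp x.2.1))) n = 0 := by
  unfold semN
  apply List.sum_eq_zero
  intro x hx
  rw [List.mem_map] at hx
  obtain ⟨y, hy, rfl⟩ := hx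
  rw [List.mem_map] at hy
  obtain ⟨z, _, rfl⟩ := hy
  have : ¬ (k + z.1 = n) := by omega
  simp only [this, if_false]

theorem semN_chain_ge (a : F × F × F) (l : List (ℕ × ℕ × ℤ)) (tp : Poly) (k u : ℕ) :
    semN a (l.map fun x => (k + x.1, psmul x.2.2 (ppow tp x.2.1))) (k + u)
      = (l.map fun x => if x.1 = u then ((x.2.2 : ℤ) : F) * (pev a tp) ^ x.2.1 else 0).sum := by
  unfold semN
  rw [List.map_map]
  congr 1
  apply List.map_congr_left
  intro x _
  simp only [Function.comp, pev_smul, pev_pow, Nat.add_left_cancel_iff]

/-- the columns computed by `xCol` are the columns of `xMat` -/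
theorem xMat_eq_sem (D : ChevalleyDatum) (a : F × F × F) (r : Fin D.nroots) (tp : Poly)
    (row col : D.Idx) :
    D.xMat F r (pev a tp) row col = sem D a (xCol D r.val tp (code D col)) row := by
  have hr := r.isLt
  rcases col with i | s
  · have hi := i.isLt
    rw [code_inl, xCol, if_pos hi]
    rcases row with i' | u
    · have hi' := i'.isLt
      rw [sem_inl]
      simp only [ChevalleyDatum.xMat, Matrix.of_apply, semN_cons, semN_nil, add_zero,
        pev_one, Fin.ext_iff]
      have h1 : ¬ (D.rank + r.val = i'.val) := by omega
      simp only [h1, if_false, add_zero]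
      by_cases h : i'.val = i.val
      · simp [h]
      · have h' : ¬ i.val = i'.val := fun hh => h hh.symm
        simp [h, h']
    · have hu := u.isLt
      rw [sem_inr]
      simp only [ChevalleyDatum.xMat, Matrix.of_apply, semN_cons, semN_nil, add_zero,
        pev_one, pev_smul, Fin.ext_iff]
      have h1 : ¬ (i.val = D.rank + u.val) := by omega
      simp only [h1, if_false, zero_add, Nat.add_left_cancel_iff]
      by_cases h : u.val = r.val
      · simp [h]
      · have h' : ¬ r.val = u.val := fun hh => h hh.symm
        simp [h, h']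
  · have hs := s.isLt
    have hcs : ¬ (D.rank + s.val < D.rank) := by omega
    have hsub : D.rank + s.val - D.rank = s.val := by omega
    rw [code_inr, xCol, if_neg hcs, hsub]
    by_cases hsr : s = r
    · subst hsr
      rw [if_pos rfl]
      rcases row with i' | u
      · have hi' := i'.isLt
        rw [sem_inl]
        simp only [ChevalleyDatum.xMat, Matrix.of_apply, if_true, semN_cons, semN_nil, add_zero]
        have h1 : ¬ (D.rank + s.val = i'.val) := by omega
        simp only [h1, if_false]
      · have hu := u.isLt
        rw [sem_inr]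
        simp only [ChevalleyDatum.xMat, Matrix.of_apply, if_true, semN_cons, semN_nil, add_zero,
          pev_one, Fin.ext_iff, Nat.add_left_cancel_iff]
        by_cases h : u.val = s.val
        · have h' : s.val = u.val := h.symm
          simp [h]
        · have h' : ¬ s.val = u.val := fun hh => h hh.symm
          simp [h, h']
    · have hsr' : ¬ s.val = r.val := fun hh => hsr (Fin.ext hh)
      have hrs' : ¬ r.val = s.val := fun hh => hsr' hh.symm
      rw [if_neg hsr']
      by_cases hneg : s.val = D.negIdx.getD r.val 0
      · rw [if_pos hneg]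
        rcases row with i' | u
        · have hi' := i'.isLt
          rw [sem_inl]
          simp only [ChevalleyDatum.xMat, Matrix.of_apply, Fin.ext_iff, hsr', if_false, if_pos hneg,
            semN_append, semN_range, semN_cons, semN_nil, add_zero, pev_smul]
          have h1 : ¬ (D.rank + s.val = i'.val) := by omega
          have h2 : ¬ (D.rank + r.val = i'.val) := by omega
          simp only [h1, h2, hi', if_false, if_true, add_zero]
        · have hu := u.isLt
          rw [sem_inr]
          simp only [ChevalleyDatum.xMat, Matrix.of_apply, Fin.ext_iff, hsr', if_false, if_pos hneg,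
            semN_append, semN_range, semN_cons, semN_nil, add_zero, pev_one, pev_neg,
            pev_mul, Nat.add_left_cancel_iff]
          have h1 : ¬ (D.rank + u.val < D.rank) := by omega
          simp only [h1, if_false, zero_add]
          by_cases hus : u.val = s.val
          · have h2 : s.val = u.val := hus.symm
            have h3 : ¬ r.val = u.val := by omega
            simp [hus, h3, hrs']
          · have h2 : ¬ s.val = u.val := fun hh => hus hh.symm
            by_cases hur : u.val = r.val
            · have h3 : r.val = u.val := hur.symm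
              simp [hus, h2, hur, hsr', hrs']
              ring
            · have h3 : ¬ r.val = u.val := fun hh => hur hh.symm
              simp [hus, h2, hur, h3]
      · rw [if_neg hneg]
        rcases row with i' | u
        · have hi' := i'.isLt
          rw [sem_inl]
          simp only [ChevalleyDatum.xMat, Matrix.of_apply, Fin.ext_iff, hsr', if_false, if_neg hneg,
            semN_cons, semN_chain_lt a _ tp D.rank i'.val hi', add_zero]
          have h1 : ¬ (D.rank + s.val = i'.val) := by omega
          simp only [h1, if_false]
        · have hu := u.isLt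
          rw [sem_inr]
          simp only [ChevalleyDatum.xMat, Matrix.of_apply, Fin.ext_iff, hsr', if_false, if_neg hneg,
            semN_cons, semN_chain_ge, pev_one, chainCoeff_sum, Nat.add_left_cancel_iff]
          congr 1
          by_cases hus : u.val = s.val
          · have h2 : s.val = u.val := hus.symm
            simp [hus]
          · have h2 : ¬ s.val = u.val := fun hh => hus hh.symm
            simp [hus, h2]

end bridge

/-! ## Applying matrices to sparse vectors -/

/-- apply `x_r(tp)` to a sparse vector -/
def applyX (D : ChevalleyDatum) (r : ℕ) (tp : Poly) (v : SVec) : SVec :=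
  if r < D.nroots then
    v.flatMap fun x =>
      if x.1 < D.rank + D.nroots then vscale x.2 (xCol D r tp x.1) else []
  else v

/-- the column of a word in root elements -/
def wordCol (D : ChevalleyDatum) (w : List (ℕ × Poly)) (col : ℕ) : SVec :=
  w.foldr (fun x v => applyX D x.1 x.2 v) [(col, pone)]

section apply

variable {F : Type*} [Field F]

theorem sum_ite_code (D : ChevalleyDatum) (n : ℕ) (f : D.Idx → F) (c : F) (x₀ : D.Idx)
    (hx₀ : code D x₀ = n) :
    (∑ col : D.Idx, f col * (if n = code D col then c else 0)) = f x₀ * c := by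
  rw [Finset.sum_eq_single x₀]
  · rw [if_pos hx₀.symm]
  · intro b _ hb
    rw [if_neg, mul_zero]
    intro h
    apply hb
    apply code_injective D
    rw [← h, hx₀]
  · intro h
    exact absurd (Finset.mem_univ x₀) h

theorem sem_applyX (D : ChevalleyDatum) (a : F × F × F) (r : ℕ) (tp : Poly) (v : SVec)
    (row : D.Idx) :
    sem D a (applyX D r tp v) row = ∑ col : D.Idx, D.x F r (pev a tp) row col * sem D a v col := by
  unfold applyX ChevalleyDatum.x
  by_cases hr : r < D.nroots
  · rw [if_pos hr, dif_pos hr]
    induction v with
    | nil => simp [sem, semN]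
    | cons y v ih =>
      obtain ⟨n, p⟩ := y
      rw [List.flatMap_cons]
      unfold sem at ih ⊢
      rw [semN_append, ih]
      simp only [semN_cons, mul_add, Finset.sum_add_distrib]
      congr 1
      by_cases hn : n < D.rank + D.nroots
      · rw [if_pos hn]
        obtain ⟨x₀, hx₀⟩ := exists_code D n hn
        rw [sum_ite_code D n _ _ x₀ hx₀, semN_vscale, ← hx₀]
        have := xMat_eq_sem D a ⟨r, hr⟩ tp row x₀
        unfold sem at this
        rw [this]
        ring
      · rw [if_neg hn, semN_nil]
        symm
        apply Finset.sum_eq_zero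
        intro col _
        have := code_lt D col
        rw [if_neg (by omega), mul_zero]
  · rw [if_neg hr, dif_neg hr]
    simp [Matrix.one_apply]

theorem sem_single (D : ChevalleyDatum) (a : F × F × F) (col row : D.Idx) :
    sem D a [(code D col, pone)] row = (1 : Matrix D.Idx D.Idx F) row col := by
  unfold sem
  rw [semN_cons, semN_nil, add_zero, pev_one, Matrix.one_apply]
  by_cases h : row = col
  · rw [if_pos h, if_pos (by rw [h])]
  · rw [if_neg h, if_neg (fun hh => h (code_injective D hh).symm)]

/-- the columns computed by `wordCol` are the columns of `wordMat` -/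
theorem sem_wordCol (D : ChevalleyDatum) (a : F × F × F) (w : List (ℕ × Poly)) (row col : D.Idx) :
    sem D a (wordCol D w (code D col)) row
      = D.wordMat F (w.map fun x => (x.1, pev a x.2)) row col := by
  induction w generalizing row with
  | nil =>
    simp only [wordCol, List.foldr_nil, List.map_nil, ChevalleyDatum.wordMat, List.prod_nil]
    exact sem_single D a col row
  | cons x w ih =>
    have h1 : wordCol D (x :: w) (code D col) = applyX D x.1 x.2 (wordCol D w (code D col)) := rfl
    rw [h1, sem_applyX]
    simp only [ChevalleyDatum.wordMat, List.map_cons, List.prod_cons, Matrix.mul_apply]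
    apply Finset.sum_congr rfl
    intro k _
    rw [ih k]
    rfl

end apply

/-! ## Comparing sparse vectors -/

/-- insert an entry, merging equal indices -/
def vins (n : ℕ) (p : Poly) : SVec → SVec
  | [] => [(n, p)]
  | y :: l => if n = y.1 then (y.1, padd p y.2) :: l else y :: vins n p l

/-- collect equal indices -/
def vnorm (v : SVec) : SVec := v.foldr (fun x acc => vins x.1 x.2 acc) []

/-- negate a sparse vector -/
def vneg (v : SVec) : SVec := v.map fun x => (x.1, pneg x.2)

/-- equality of the represented vectors -/
def svecEq (v w : SVec) : Bool := (vnorm (v ++ vneg w)).all fun x => isZero x.2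

/-- the same modulo `X₁ X₂ = 1` -/
def svecEqR (v w : SVec) : Bool := (vnorm (v ++ vneg w)).all fun x => isZeroR x.2

section compare

variable {F : Type*} [Field F]

theorem semN_vins (a : F × F × F) (m : ℕ) (p : Poly) (l : SVec) (n : ℕ) :
    semN a (vins m p l) n = (if m = n then pev a p else 0) + semN a l n := by
  induction l with
  | nil => rw [vins, semN_cons]
  | cons y l ih =>
    obtain ⟨k, q⟩ := y
    by_cases h : m = k
    · subst h
      have : vins m p ((m, q) :: l) = (m, padd p q) :: l := by
        rw [vins, if_pos rfl]
      rw [this, semN_cons, semN_cons, pev_add]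
      by_cases hn : m = n
      · simp only [if_pos hn]; ring
      · simp only [if_neg hn]; ring
    · have : vins m p ((k, q) :: l) = (k, q) :: vins m p l := by
        rw [vins, if_neg h]
      rw [this, semN_cons, semN_cons, ih]; ring

theorem semN_vnorm (a : F × F × F) (v : SVec) (n : ℕ) : semN a (vnorm v) n = semN a v n := by
  induction v with
  | nil => rfl
  | cons x v ih =>
    obtain ⟨m, p⟩ := x
    have : vnorm ((m, p) :: v) = vins m p (vnorm v) := rfl
    rw [this, semN_vins, ih, semN_cons]

theorem semN_vneg (a : F × F × F) (v : SVec) (n : ℕ) : semN a (vneg v) n = - semN a v n := by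
  induction v with
  | nil => simp [semN, vneg]
  | cons x v ih =>
    obtain ⟨m, p⟩ := x
    have : vneg ((m, p) :: v) = (m, pneg p) :: vneg v := rfl
    rw [this, semN_cons, semN_cons, ih, pev_neg]
    split_ifs <;> ring

theorem semN_all_zero (a : F × F × F) (v : SVec) (zt : Poly → Bool)
    (hzt : ∀ p, zt p = true → pev a p = 0) (h : (v.all fun x => zt x.2) = true) (n : ℕ) :
    semN a v n = 0 := by
  induction v with
  | nil => rfl
  | cons x v ih =>
    obtain ⟨m, p⟩ := x
    rw [List.all_cons, Bool.and_eq_true] at h
    rw [semN_cons, ih h.2, hzt p h.1]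
    simp

theorem semN_eq_of_check (a : F × F × F) (v w : SVec) (zt : Poly → Bool)
    (hzt : ∀ p, zt p = true → pev a p = 0)
    (h : ((vnorm (v ++ vneg w)).all fun x => zt x.2) = true) (n : ℕ) :
    semN a v n = semN a w n := by
  have h1 := semN_all_zero a _ zt hzt h n
  rw [semN_vnorm, semN_append, semN_vneg] at h1
  linear_combination h1

theorem sem_eq_of_svecEq (D : ChevalleyDatum) (a : F × F × F) (v w : SVec) (h : svecEq v w = true)
    (row : D.Idx) : sem D a v row = sem D a w row :=
  semN_eq_of_check a v w isZero (fun p hp => pev_of_isZero a p hp) h _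

theorem sem_eq_of_svecEqR (D : ChevalleyDatum) (a : F × F × F) (ha : a.1 * a.2.1 = 1) (v w : SVec)
    (h : svecEqR v w = true) (row : D.Idx) : sem D a v row = sem D a w row :=
  semN_eq_of_check a v w isZeroR (fun p hp => pev_of_isZeroR a ha p hp) h _

end compare

/-! ## Relevant columns -/

/-- the coded columns on which `x_r(t)` can differ from the identity -/
def relevantCols (D : ChevalleyDatum) (r : ℕ) : List ℕ :=
  List.range D.rank ++ (D.rank + r) :: (D.rank + D.negIdx.getD r 0) ::
    (D.chain.getD r #[]).toList.map fun e => D.rank + e.1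

theorem chainAll_eq_nil (D : ChevalleyDatum) (r s : ℕ)
    (h : ∀ e ∈ (D.chain.getD r #[]).toList, e.1 ≠ s) : chainAll D r s = [] := by
  unfold chainAll
  rw [List.filter_eq_nil_iff.mpr]
  · rfl
  · intro e he
    simpa using h e he

theorem xCol_of_not_relevant (D : ChevalleyDatum) (r : ℕ) (tp : Poly) (col : ℕ)
    (h : col ∉ relevantCols D r) : xCol D r tp col = [(col, pone)] := by
  unfold relevantCols at h
  simp only [List.mem_append, List.mem_range, List.mem_cons, List.mem_map, not_or, not_exists,
    not_and] at h
  obtain ⟨h1, h2, h3, h4⟩ := h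
  rw [xCol, if_neg h1, if_neg (by omega), if_neg (by omega), chainAll_eq_nil]
  · rfl
  · intro e he hes
    apply h4 e he
    omega

section trivialcol

variable {F : Type*} [Field F]

theorem x_col_of_not_relevant (D : ChevalleyDatum) (r : ℕ) (t : F) (row col : D.Idx)
    (h : code D col ∉ relevantCols D r) : D.x F r t row col = (1 : Matrix D.Idx D.Idx F) row col := by
  unfold ChevalleyDatum.x
  by_cases hr : r < D.nroots
  · rw [dif_pos hr]
    have h1 := xMat_eq_sem D ((t, (0 : F), (0 : F)) : F × F × F) ⟨r, hr⟩ pX1 row col
    rw [pev_X1] at h1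
    simp only at h1
    rw [h1, xCol_of_not_relevant D r pX1 _ h]
    exact sem_single D _ col row
  · rw [dif_neg hr]

theorem mul_col_of_not_relevant (D : ChevalleyDatum) (r : ℕ) (t : F) (A : Matrix D.Idx D.Idx F)
    (row col : D.Idx) (h : code D col ∉ relevantCols D r) :
    (A * D.x F r t) row col = A row col := by
  rw [Matrix.mul_apply, Finset.sum_eq_single col]
  · rw [x_col_of_not_relevant D r t col col h, Matrix.one_apply_eq, mul_one]
  · intro k _ hk
    rw [x_col_of_not_relevant D r t k col h, Matrix.one_apply_ne hk, mul_zero]
  · intro hh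
    exact absurd (Finset.mem_univ col) hh

end trivialcol

/-! ## Additivity of the root elements -/

/-- the table check behind `x_r(t₁) x_r(t₂) = x_r(t₁ + t₂)` for a single root -/
def addCheckR (D : ChevalleyDatum) (r : ℕ) : Prop :=
  ∀ col ∈ relevantCols D r,
    svecEq (wordCol D [(r, pX1), (r, pX2)] col) (xCol D r (padd pX1 pX2) col) = true

instance (D : ChevalleyDatum) (r : ℕ) : Decidable (addCheckR D r) := by
  unfold addCheckR; infer_instance

/-- the table check for all roots in a range -/
def addCheckRange (D : ChevalleyDatum) (lo hi : ℕ) : Prop :=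
  ∀ k < hi - lo, addCheckR D (lo + k)

instance (D : ChevalleyDatum) (lo hi : ℕ) : Decidable (addCheckRange D lo hi) := by
  unfold addCheckRange; infer_instance

theorem addCheckR_of_range (D : ChevalleyDatum) (lo hi : ℕ) (h : addCheckRange D lo hi) (r : ℕ)
    (h1 : lo ≤ r) (h2 : r < hi) : addCheckR D r := by
  have := h (r - lo) (by omega)
  rwa [Nat.add_sub_cancel' h1] at this

section additivity

variable {F : Type*} [Field F]

theorem wordMat_two (D : ChevalleyDatum) (r₁ r₂ : ℕ) (t₁ t₂ : F) :
    D.wordMat F [(r₁, t₁), (r₂, t₂)] = D.x F r₁ t₁ * D.x F r₂ t₂ := by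
  simp [ChevalleyDatum.wordMat]

theorem x_add_of_check (D : ChevalleyDatum) (r : ℕ) (hr : r < D.nroots) (h : addCheckR D r)
    (t₁ t₂ : F) : D.x F r t₁ * D.x F r t₂ = D.x F r (t₁ + t₂) := by
  ext row col
  by_cases hrel : code D col ∈ relevantCols D r
  · rw [← wordMat_two]
    have h1 := sem_wordCol D ((t₁, t₂, (0 : F)) : F × F × F) [(r, pX1), (r, pX2)] row col
    simp only [List.map_cons, List.map_nil, pev_X1, pev_X2] at h1
    rw [← h1, sem_eq_of_svecEq D _ _ _ (h (code D col) hrel) row]
    have h2 := xMat_eq_sem D ((t₁, t₂, (0 : F)) : F × F × F) ⟨r, hr⟩ (padd pX1 pX2) row col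
    rw [pev_add, pev_X1, pev_X2] at h2
    rw [← h2]
    unfold ChevalleyDatum.x
    rw [dif_pos hr]
  · rw [mul_col_of_not_relevant D r t₂ _ row col hrel, x_col_of_not_relevant D r t₁ row col hrel,
      x_col_of_not_relevant D r (t₁ + t₂) row col hrel]

end additivity

end Cfsg.Agent.Lib.Helper6.ChevSparse
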