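import Mathlib
import Cfsg.Agent.Lib.Helper6.ChevSparse

/-!
# Fast table lookups for the Chevalley tables (helper6)

Binary tries replacing the linear-time array and association-list lookups of the tabulated data,
so that kernel evaluation of table checks takes logarithmic time per lookup.
-/

set_option autoImplicit false

namespace Cfsg.Agent.Lib.Helper6.ChevFast

open Cfsg.Lie Cfsg.Agent.Lib.Helper6.ChevSparse

/-- binary trees with lists at the leaves -/
inductive BT (α : Type) where
  | leaf : List α → BT α
  | node : BT α → BT α → BT α

namespace BT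

variable {α : Type}

/-- the complete tree of depth `d` holding a list, split by index -/
def ofList : ℕ → List α → BT α
  | 0, l => leaf l
  | d + 1, l => node (ofList d (l.take (2 ^ d))) (ofList d (l.drop (2 ^ d)))

/-- indexed access -/
def get (dflt : α) : ℕ → BT α → ℕ → α
  | 0, leaf l, i => l.getD i dflt
  | d + 1, node a b, i => if i < 2 ^ d then get dflt d a i else get dflt d b (i - 2 ^ d)
  | 0, node _ _, _ => dflt
  | _ + 1, leaf _, _ => dflt

theorem get_ofList (dflt : α) (d : ℕ) (l : List α) (i : ℕ) :
    get dflt d (ofList d l) i = l.getD i dflt := by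
  induction d generalizing l i with
  | zero => rfl
  | succ d ih =>
    rw [ofList, get]
    split_ifs with h
    · rw [ih]
      simp only [List.getD_eq_getElem?_getD, List.getElem?_take, if_pos h]
    · rw [ih]
      simp only [List.getD_eq_getElem?_getD, List.getElem?_drop]
      congr 2
      omega

/-! ### keyed tries -/

/-- insert a keyed value into a complete tree of depth `d` -/
def insert : ℕ → ℕ → α → BT (ℕ × α) → BT (ℕ × α)
  | 0, k, v, leaf l => leaf ((k, v) :: l)
  | d + 1, k, v, node a b =>
      if k % 2 = 0 then node (insert d (k / 2) v a) b else node a (insert d (k / 2) v b)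
  | 0, _, _, node a b => node a b
  | _ + 1, _, _, leaf l => leaf l

/-- find all values with a given key -/
def find : ℕ → ℕ → BT (ℕ × α) → List α
  | 0, k, leaf l => (l.filter fun x => x.1 = k).map fun x => x.2
  | d + 1, k, node a b => if k % 2 = 0 then find d (k / 2) a else find d (k / 2) b
  | 0, _, node _ _ => []
  | _ + 1, _, leaf _ => []

/-- complete trees of a given depth -/
def Shape : ℕ → BT (ℕ × α) → Prop
  | 0, leaf _ => True
  | d + 1, node a b => Shape d a ∧ Shape d b
  | 0, node _ _ => False
  | _ + 1, leaf _ => False

theorem shape_ofList_nil (d : ℕ) : Shape d (ofList d ([] : List (ℕ × α))) := by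
  induction d with
  | zero => trivial
  | succ d ih =>
    rw [ofList]
    simp only [List.take_nil, List.drop_nil]
    exact ⟨ih, ih⟩

theorem shape_insert (d k : ℕ) (v : α) (t : BT (ℕ × α)) (h : Shape d t) :
    Shape d (insert d k v t) := by
  induction d generalizing k t with
  | zero =>
    cases t with
    | leaf l => trivial
    | node a b => exact h.elim
  | succ d ih =>
    cases t with
    | leaf l => exact h.elim
    | node a b =>
      rw [insert]
      split_ifs
      · exact ⟨ih _ _ h.1, h.2⟩
      · exact ⟨h.1, ih _ _ h.2⟩

theorem find_insert (d k s : ℕ) (v : α) (t : BT (ℕ × α)) (h : Shape d t) :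
    find d s (insert d k v t) = if k = s then v :: find d s t else find d s t := by
  induction d generalizing k s t with
  | zero =>
    cases t with
    | leaf l =>
      rw [insert, find, find, List.filter_cons]
      by_cases hks : k = s
      · simp [hks]
      · simp [hks]
    | node a b => exact h.elim
  | succ d ih =>
    cases t with
    | leaf l => exact h.elim
    | node a b =>
      rw [insert]
      by_cases hk : k % 2 = 0
      · rw [if_pos hk]
        by_cases hs : s % 2 = 0
        · rw [find, find, if_pos hs, if_pos hs, ih _ _ _ h.1]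
          have : k / 2 = s / 2 ↔ k = s := by omega
          simp only [this]
        · rw [find, find, if_neg hs, if_neg hs, if_neg (by omega)]
      · rw [if_neg hk]
        by_cases hs : s % 2 = 0
        · rw [find, find, if_pos hs, if_pos hs, if_neg (by omega)]
        · rw [find, find, if_neg hs, if_neg hs, ih _ _ _ h.2]
          have : k / 2 = s / 2 ↔ k = s := by omega
          simp only [this]

/-- the keyed trie of an association list -/
def ofAssoc (d : ℕ) (l : List (ℕ × α)) : BT (ℕ × α) :=
  l.foldr (fun e t => insert d e.1 e.2 t) (ofList d [])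

theorem shape_ofAssoc (d : ℕ) (l : List (ℕ × α)) : Shape d (ofAssoc d l) := by
  induction l with
  | nil => exact shape_ofList_nil d
  | cons e l ih => exact shape_insert d _ _ _ ih

theorem find_ofAssoc (d : ℕ) (l : List (ℕ × α)) (s : ℕ) :
    find d s (ofAssoc d l) = (l.filter fun x => x.1 = s).map fun x => x.2 := by
  induction l with
  | nil =>
    have : ∀ d : ℕ, find d s (ofList d ([] : List (ℕ × α))) = [] := by
      intro d
      induction d generalizing s with
      | zero => rfl
      | succ d ih =>
        rw [ofList]
        simp only [List.take_nil, List.drop_nil]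
        rw [find]
        split_ifs <;> exact ih _
    exact this d
  | cons e l ih =>
    have h1 : ofAssoc d (e :: l) = insert d e.1 e.2 (ofAssoc d l) := rfl
    rw [h1, find_insert _ _ _ _ _ (shape_ofAssoc d l), ih, List.filter_cons]
    by_cases h : e.1 = s
    · simp [h]
    · simp [h]

end BT

/-! ## Fast data -/

/-- depth of all tries -/
def dpt : ℕ := 8

/-- the tables of a datum, stored in tries -/
structure FD where
  rank : ℕ
  nroots : ℕ
  neg : BT ℕ
  coroot : BT (Array ℤ)
  cartan : List (BT ℤ)
  chain : BT (BT (ℕ × Array (ℕ × ℤ)))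

/-- the fast data of a datum -/
def mkFD (D : ChevalleyDatum) : FD where
  rank := D.rank
  nroots := D.nroots
  neg := BT.ofList dpt D.negIdx.toList
  coroot := BT.ofList dpt D.coroot.toList
  cartan := D.cartanSR.toList.map fun row => BT.ofList dpt row.toList
  chain := BT.ofList dpt (D.chain.toList.map fun row => BT.ofAssoc dpt row.toList)

theorem array_getD {α : Type} (a : Array α) (i : ℕ) (d : α) : a.getD i d = a.toList.getD i d := by
  simp [Array.getD_eq_getD_getElem?, List.getD_eq_getElem?_getD]

theorem neg_mkFD (D : ChevalleyDatum) (r : ℕ) :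
    BT.get 0 dpt (mkFD D).neg r = D.negIdx.getD r 0 := by
  rw [array_getD]
  exact BT.get_ofList _ _ _ _

theorem coroot_mkFD (D : ChevalleyDatum) (r : ℕ) :
    BT.get #[] dpt (mkFD D).coroot r = D.coroot.getD r #[] := by
  rw [array_getD]
  exact BT.get_ofList _ _ _ _

theorem cartan_mkFD (D : ChevalleyDatum) (col r : ℕ) :
    BT.get 0 dpt ((mkFD D).cartan.getD col (BT.ofList dpt [])) r
      = (D.cartanSR.getD col #[]).getD r 0 := by
  have h1 : (mkFD D).cartan.getD col (BT.ofList dpt [])
      = BT.ofList dpt (D.cartanSR.toList.getD col #[]).toList := by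
    show (D.cartanSR.toList.map fun row => BT.ofList dpt row.toList).getD col (BT.ofList dpt [])
      = _
    have := List.getD_map (f := fun row : Array ℤ => BT.ofList dpt row.toList)
      (l := D.cartanSR.toList) (n := col) (d := #[])
    simpa using this
  rw [h1, BT.get_ofList, array_getD, array_getD]

theorem chain_mkFD (D : ChevalleyDatum) (r s : ℕ) :
    BT.find dpt s (BT.get (BT.ofList dpt []) dpt (mkFD D).chain r)
      = ((D.chain.getD r #[]).toList.filter fun e => e.1 = s).map fun e => e.2 := by
  have h1 : BT.get (BT.ofList dpt []) dpt (mkFD D).chain r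
      = BT.ofAssoc dpt (D.chain.toList.getD r #[]).toList := by
    show BT.get (BT.ofList dpt []) dpt
      (BT.ofList dpt (D.chain.toList.map fun row => BT.ofAssoc dpt row.toList)) r = _
    rw [BT.get_ofList]
    have := List.getD_map (f := fun row : Array (ℕ × Array (ℕ × ℤ)) => BT.ofAssoc dpt row.toList)
      (l := D.chain.toList) (n := r) (d := #[])
    simpa [BT.ofAssoc] using this
  rw [h1, BT.find_ofAssoc, array_getD]

/-- fast version of `chainAll` -/
def chainAllF (fd : FD) (r s : ℕ) : List (ℕ × ℕ × ℤ) :=
  (BT.find dpt s (BT.get (BT.ofList dpt []) dpt fd.chain r)).flatMap fun arr =>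
    (arr.toList.zipIdx).map fun q => (q.1.1, q.2 + 1, q.1.2)

theorem chainAllF_mkFD (D : ChevalleyDatum) (r s : ℕ) :
    chainAllF (mkFD D) r s = chainAll D r s := by
  unfold chainAllF chainAll
  rw [chain_mkFD, List.flatMap_map]

/-- fast version of `xCol` -/
def xColF (fd : FD) (r : ℕ) (tp : Poly) (col : ℕ) : SVec :=
  if col < fd.rank then
    [(col, pone),
      (fd.rank + r, psmul (-(BT.get 0 dpt (fd.cartan.getD col (BT.ofList dpt [])) r)) tp)]
  else
    if col - fd.rank = r then [(col, pone)]
    else if col - fd.rank = BT.get 0 dpt fd.neg r then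
      ((List.range fd.rank).map fun i =>
        (i, psmul ((BT.get #[] dpt fd.coroot r).getD i 0) tp)) ++
        [(col, pone), (fd.rank + r, pneg (pmul tp tp))]
    else
      (col, pone) :: (chainAllF fd r (col - fd.rank)).map fun x =>
        (fd.rank + x.1, psmul x.2.2 (ppow tp x.2.1))

theorem xColF_mkFD (D : ChevalleyDatum) (r : ℕ) (tp : Poly) (col : ℕ) :
    xColF (mkFD D) r tp col = xCol D r tp col := by
  unfold xColF xCol
  rw [cartan_mkFD, neg_mkFD, coroot_mkFD, chainAllF_mkFD]
  rfl

/-! ## Generic application -/

/-- apply a matrix given by a column function -/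
def applyG (colf : ℕ → Poly → ℕ → SVec) (n nr : ℕ) (r : ℕ) (tp : Poly) (v : SVec) : SVec :=
  if r < nr then
    v.flatMap fun x => if x.1 < n then vscale x.2 (colf r tp x.1) else []
  else v

/-- the column of a word, for a column function -/
def wordColG (colf : ℕ → Poly → ℕ → SVec) (n nr : ℕ) (w : List (ℕ × Poly)) (col : ℕ) : SVec :=
  w.foldr (fun x v => applyG colf n nr x.1 x.2 v) [(col, pone)]

theorem wordColG_xCol (D : ChevalleyDatum) (w : List (ℕ × Poly)) (col : ℕ) :
    wordColG (xCol D) (D.rank + D.nroots) D.nroots w col = wordCol D w col := by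
  induction w with
  | nil => rfl
  | cons x w ih =>
    have h1 : wordColG (xCol D) (D.rank + D.nroots) D.nroots (x :: w) col
        = applyG (xCol D) (D.rank + D.nroots) D.nroots x.1 x.2
          (wordColG (xCol D) (D.rank + D.nroots) D.nroots w col) := rfl
    have h2 : wordCol D (x :: w) col = applyX D x.1 x.2 (wordCol D w col) := rfl
    rw [h1, h2, ih]
    rfl

/-- fast version of `wordCol` -/
def wordColF (D : ChevalleyDatum) (w : List (ℕ × Poly)) (col : ℕ) : SVec :=
  wordColG (xColF (mkFD D)) (D.rank + D.nroots) D.nroots w col

theorem wordColF_eq (D : ChevalleyDatum) (w : List (ℕ × Poly)) (col : ℕ) :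
    wordColF D w col = wordCol D w col := by
  have h : xColF (mkFD D) = xCol D := by
    funext r tp c
    exact xColF_mkFD D r tp c
  unfold wordColF
  rw [h]
  exact wordColG_xCol D w col

/-! ## Additivity, fast check -/

/-- fast version of `addCheckR` -/
def addCheckRF (D : ChevalleyDatum) (r : ℕ) : Prop :=
  ∀ col ∈ relevantCols D r,
    svecEq (wordColF D [(r, pX1), (r, pX2)] col) (xColF (mkFD D) r (padd pX1 pX2) col) = true

instance (D : ChevalleyDatum) (r : ℕ) : Decidable (addCheckRF D r) := by
  unfold addCheckRF; infer_instance

/-- the fast check for all roots in a list -/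
def addCheckL (D : ChevalleyDatum) (l : List ℕ) : Prop := ∀ r ∈ l, addCheckRF D r

instance (D : ChevalleyDatum) (l : List ℕ) : Decidable (addCheckL D l) := by
  unfold addCheckL; infer_instance

theorem addCheckR_of_fast (D : ChevalleyDatum) (r : ℕ) (h : addCheckRF D r) : addCheckR D r := by
  intro col hcol
  have := h col hcol
  rwa [wordColF_eq, xColF_mkFD] at this

end Cfsg.Agent.Lib.Helper6.ChevFast
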