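import Mathlib
import Cfsg.Agent.Lib.Helper6.ChevFast

/-!
# Matrices described by sparse column functions (helper6)

Products of matrices given by column functions, signed permutation matrices, and equality of such
matrices from equality of columns.
-/

set_option autoImplicit false

namespace Cfsg.Agent.Lib.Helper6.ChevCols

open Cfsg.Lie Cfsg.Agent.Lib.Helper6.ChevSparse Cfsg.Agent.Lib.Helper6.ChevFast

variable {F : Type*} [Field F]

/-- `colf` describes the columns of `A` at the evaluation point `a` -/
def HasCols (D : ChevalleyDatum) (a : F × F × F) (A : Matrix D.Idx D.Idx F) (colf : ℕ → SVec) :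
    Prop :=
  ∀ row col, A row col = sem D a (colf (code D col)) row

/-- apply a matrix given by a column function to a sparse vector -/
def applyCols (n : ℕ) (colf : ℕ → SVec) (v : SVec) : SVec :=
  v.flatMap fun x => if x.1 < n then vscale x.2 (colf x.1) else []

theorem sem_applyCols (D : ChevalleyDatum) (a : F × F × F) (A : Matrix D.Idx D.Idx F)
    (colf : ℕ → SVec) (hA : HasCols D a A colf) (v : SVec) (row : D.Idx) :
    sem D a (applyCols (D.rank + D.nroots) colf v) row = ∑ col : D.Idx, A row col * sem D a v col := by
  unfold applyCols
  induction v with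
  | nil => simp [sem, semN]
  | cons y v ih =>
    obtain ⟨n, p⟩ := y
    rw [List.flatMap_cons]
    unfold sem at ih ⊢
    rw [semN_append, ih]
    simp only [semN_cons, mul_add, Finset.sum_add_distrib]
    congr 1
    by_cases hn : n < D.rank + D.nroots
    · rw [if_pos hn]
      obtain ⟨x₀, hx₀⟩ := exists_code D n hn
      rw [sum_ite_code D n _ _ x₀ hx₀, semN_vscale, ← hx₀]
      have := hA row x₀
      unfold sem at this
      rw [this]
      ring
    · rw [if_neg hn, semN_nil]
      symm
      apply Finset.sum_eq_zero
      intro col _
      have := code_lt D col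
      rw [if_neg (by omega), mul_zero]

theorem HasCols.mul {D : ChevalleyDatum} {a : F × F × F} {A B : Matrix D.Idx D.Idx F}
    {f g : ℕ → SVec} (hA : HasCols D a A f) (hB : HasCols D a B g) :
    HasCols D a (A * B) (fun col => applyCols (D.rank + D.nroots) f (g col)) := by
  intro row col
  rw [Matrix.mul_apply, sem_applyCols D a A f hA]
  apply Finset.sum_congr rfl
  intro k _
  rw [hB k col]

theorem hasCols_x (D : ChevalleyDatum) (a : F × F × F) (r : ℕ) (hr : r < D.nroots) (tp : Poly) :
    HasCols D a (D.x F r (pev a tp)) (xColF (mkFD D) r tp) := by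
  intro row col
  unfold ChevalleyDatum.x
  rw [dif_pos hr, xColF_mkFD]
  exact xMat_eq_sem D a ⟨r, hr⟩ tp row col

theorem hasCols_one (D : ChevalleyDatum) (a : F × F × F) :
    HasCols D a (1 : Matrix D.Idx D.Idx F) (fun col => [(col, pone)]) := by
  intro row col
  exact (sem_single D a col row).symm

theorem eq_of_cols {D : ChevalleyDatum} {a : F × F × F} {A B : Matrix D.Idx D.Idx F}
    {f g : ℕ → SVec} (hA : HasCols D a A f) (hB : HasCols D a B g)
    (h : ∀ col ∈ List.range (D.rank + D.nroots), svecEq (f col) (g col) = true) : A = B := by
  ext row col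
  rw [hA row col, hB row col]
  exact sem_eq_of_svecEq D a _ _ (h _ (List.mem_range.mpr (code_lt D col))) row

/-! ### Signed permutation matrices -/

/-- the column of a signed permutation matrix -/
def pCol (perm : List ℕ) (sgn : List ℤ) (col : ℕ) : SVec :=
  [(perm.getD col 0, pconst (sgn.getD col 0))]

/-- the signed permutation matrix of tables on coded indices -/
def PMat (D : ChevalleyDatum) (perm : List ℕ) (sgn : List ℤ) : Matrix D.Idx D.Idx F :=
  Matrix.of fun row col => sem D ((0, 0, 0) : F × F × F) (pCol perm sgn (code D col)) row

theorem hasCols_P (D : ChevalleyDatum) (a : F × F × F) (perm : List ℕ) (sgn : List ℤ) :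
    HasCols D a (PMat D perm sgn) (pCol perm sgn) := by
  intro row col
  unfold PMat pCol sem
  simp only [Matrix.of_apply, semN_cons, semN_nil, pev_const]

end Cfsg.Agent.Lib.Helper6.ChevCols
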