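import Mathlib
import Cfsg.Agent.Lib.Helper6.ChevCols

/-!
# Conjugation of root elements by table matrices (helper6)

Matrices with constant integer entries given by a table of sparse columns (stored in a trie), the
elements `n_r(1)` as such matrices, and the relation `T x_s(t) = x_{s'}(η t) T` checked column by
column.
-/

set_option autoImplicit false

namespace Cfsg.Agent.Lib.Helper6.ChevConj

open Cfsg.Lie Cfsg.Agent.Lib.Helper6.ChevSparse Cfsg.Agent.Lib.Helper6.ChevFast
  Cfsg.Agent.Lib.Helper6.ChevCols

variable {F : Type*} [Field F]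

/-- a table of sparse integer columns -/
abbrev Tab := List (List (ℕ × ℤ))

/-- the column of a table matrix (the table stored as a trie) -/
def tColB (bt : BT (List (ℕ × ℤ))) (col : ℕ) : SVec :=
  (BT.get [] dpt bt col).map fun x => (x.1, pconst x.2)

/-- the column of a table matrix -/
def tCol (tab : Tab) (col : ℕ) : SVec := tColB (BT.ofList dpt tab) col

theorem semN_const_indep (a b : F × F × F) (l : List (ℕ × ℤ)) (n : ℕ) :
    semN a (l.map fun x => (x.1, pconst x.2)) n = semN b (l.map fun x => (x.1, pconst x.2)) n := by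
  induction l with
  | nil => rfl
  | cons x l ih =>
    simp only [List.map_cons, semN_cons, pev_const, ih]

/-- the matrix of a table -/
def TMat (D : ChevalleyDatum) (tab : Tab) : Matrix D.Idx D.Idx F :=
  Matrix.of fun row col => sem D ((0, 0, 0) : F × F × F) (tCol tab (code D col)) row

theorem hasCols_T (D : ChevalleyDatum) (a : F × F × F) (tab : Tab) :
    HasCols D a (TMat D tab : Matrix D.Idx D.Idx F) (tCol tab) := by
  intro row col
  unfold TMat tCol tColB sem
  simp only [Matrix.of_apply]
  exact semN_const_indep _ _ _ _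

/-- the columns of a word in root elements -/
theorem hasCols_word (D : ChevalleyDatum) (a : F × F × F) (w : List (ℕ × Poly)) :
    HasCols D a (D.wordMat F (w.map fun x => (x.1, pev a x.2))) (wordColF D w) := by
  intro row col
  rw [wordColF_eq]
  exact (sem_wordCol D a w row col).symm

/-- the word of `n_p(1)` -/
def nW (D : ChevalleyDatum) (p : ℕ) : List (ℕ × Poly) :=
  [(p, pone), (D.neg p, pneg pone), (p, pone)]

theorem nMat_eq_word (D : ChevalleyDatum) (a : F × F × F) (p : ℕ) :
    D.nMat F p 1 = D.wordMat F ((nW D p).map fun x => (x.1, pev a x.2)) := by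
  unfold ChevalleyDatum.nMat ChevalleyDatum.nWord nW
  simp only [List.map_cons, List.map_nil, pev_one, pev_neg, inv_one]

/-- the table of `n_p(1)` is correct -/
def nTabCheck (D : ChevalleyDatum) (p : ℕ) (tab : Tab) : Prop :=
  ∀ col ∈ List.range (D.rank + D.nroots), svecEq (wordColF D (nW D p) col) (tCol tab col) = true

instance (D : ChevalleyDatum) (p : ℕ) (tab : Tab) : Decidable (nTabCheck D p tab) := by
  unfold nTabCheck; infer_instance

theorem nMat_eq_T (D : ChevalleyDatum) (p : ℕ) (tab : Tab) (h : nTabCheck D p tab) :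
    D.nMat F p 1 = TMat D tab := by
  rw [nMat_eq_word D ((0, 0, 0) : F × F × F) p]
  exact eq_of_cols (hasCols_word D _ _) (hasCols_T D _ tab) h

/-- `T x_s(X₁) = x_{s'}(η X₁) T`, all columns -/
def tConjCheck (D : ChevalleyDatum) (tab : Tab) (s s' : ℕ) (η : ℤ) : Prop :=
  s' < D.nroots ∧
    ∀ col ∈ List.range (D.rank + D.nroots),
      svecEq (applyCols (D.rank + D.nroots) (tCol tab) (xColF (mkFD D) s pX1 col))
        (applyCols (D.rank + D.nroots) (xColF (mkFD D) s' (psmul η pX1)) (tCol tab col)) = true

instance (D : ChevalleyDatum) (tab : Tab) (s s' : ℕ) (η : ℤ) :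
    Decidable (tConjCheck D tab s s' η) := by
  unfold tConjCheck; infer_instance

theorem tconj_of_check (D : ChevalleyDatum) (tab : Tab) (s s' : ℕ) (η : ℤ)
    (hs : s < D.nroots) (h : tConjCheck D tab s s' η) (t : F) :
    (TMat D tab : Matrix D.Idx D.Idx F) * D.x F s t
      = D.x F s' ((η : F) * t) * TMat D tab := by
  obtain ⟨h1, h3⟩ := h
  have hx1 := hasCols_x D ((t, (0 : F), (0 : F)) : F × F × F) s hs pX1
  rw [pev_X1] at hx1
  have hx2 := hasCols_x D ((t, (0 : F), (0 : F)) : F × F × F) s' h1 (psmul η pX1)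
  rw [pev_smul, pev_X1] at hx2
  exact eq_of_cols ((hasCols_T D _ tab).mul hx1) (hx2.mul (hasCols_T D _ tab)) h3

/-- the statement about `n_p`, for one fundamental root and one root -/
def nConjCheck (D : ChevalleyDatum) (tab : Tab) (i s : ℕ) : Prop :=
  tConjCheck D tab s (D.reflectRoot i s) 1 ∨ tConjCheck D tab s (D.reflectRoot i s) (-1)

instance (D : ChevalleyDatum) (tab : Tab) (i s : ℕ) : Decidable (nConjCheck D tab i s) := by
  unfold nConjCheck; infer_instance

/-- the check for a list of roots -/
def nConjCheckL (D : ChevalleyDatum) (tab : Tab) (i : ℕ) (l : List ℕ) : Prop :=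
  ∀ s ∈ l, nConjCheck D tab i s

instance (D : ChevalleyDatum) (tab : Tab) (i : ℕ) (l : List ℕ) :
    Decidable (nConjCheckL D tab i l) := by
  unfold nConjCheckL; infer_instance

theorem n_conj_of_check (D : ChevalleyDatum) (tab : Tab) (i s : ℕ) (hs : s < D.nroots)
    (ht : nTabCheck D (D.simple i) tab) (h : nConjCheck D tab i s) :
    ∃ η : ℤ, (η = 1 ∨ η = -1) ∧ D.reflectRoot i s < D.nroots ∧
      ∀ t : F, D.nMat F (D.simple i) 1 * D.x F s t
        = D.x F (D.reflectRoot i s) ((η : F) * t) * D.nMat F (D.simple i) 1 := by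
  rw [nMat_eq_T D _ tab ht]
  rcases h with h | h
  · exact ⟨1, Or.inl rfl, h.1, tconj_of_check D tab s _ 1 hs h⟩
  · exact ⟨-1, Or.inr rfl, h.1, tconj_of_check D tab s _ (-1) hs h⟩

end Cfsg.Agent.Lib.Helper6.ChevConj
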