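import Mathlib
import Cfsg.Prelude.Def_ChevStructure
import Cfsg.Agent.Lib.Helper6.ChevFast

/-!
# Representatives of Weyl group elements in Chevalley groups (helper6)

From the additivity of the root elements and the relation `n_p x_s(t) n_p⁻¹ = x_{w_p s}(± t)` for
the fundamental roots `p`: products of the `n_p` along a word conjugate root elements to root
elements, and a word whose root map sends the positive roots onto the negative roots conjugates
`U` onto `V`.
-/

set_option autoImplicit false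

namespace Cfsg.Agent.Lib.Helper6.ChevWeyl

open Cfsg.Lie

variable {F : Type*} [Field F]

/-- the facts about root elements used here -/
structure Hyp (D : ChevalleyDatum) (F : Type*) [Field F] : Prop where
  add : ∀ r, r < D.nroots → ∀ t₁ t₂ : F, D.x F r t₁ * D.x F r t₂ = D.x F r (t₁ + t₂)
  zero : ∀ r, r < D.nroots → D.x F r (0 : F) = 1
  conj : ∀ i s, i < D.rank → s < D.nroots → ∃ η : ℤ, (η = 1 ∨ η = -1) ∧
    D.reflectRoot i s < D.nroots ∧
    ∀ t : F, D.nMat F (D.simple i) 1 * D.x F s t
      = D.x F (D.reflectRoot i s) ((η : F) * t) * D.nMat F (D.simple i) 1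
  simple_lt : ∀ i, i < D.rank → D.simple i < D.nroots

theorem x_of_not_lt (D : ChevalleyDatum) (r : ℕ) (hr : ¬ r < D.nroots) (t : F) :
    D.x F r t = 1 := by
  unfold ChevalleyDatum.x
  rw [dif_neg hr]

theorem Hyp.add' {D : ChevalleyDatum} (h : Hyp D F) (r : ℕ) (t₁ t₂ : F) :
    D.x F r t₁ * D.x F r t₂ = D.x F r (t₁ + t₂) := by
  by_cases hr : r < D.nroots
  · exact h.add r hr t₁ t₂
  · rw [x_of_not_lt D r hr, x_of_not_lt D r hr, x_of_not_lt D r hr, mul_one]

theorem Hyp.zero' {D : ChevalleyDatum} (h : Hyp D F) (r : ℕ) : D.x F r (0 : F) = 1 := by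
  by_cases hr : r < D.nroots
  · exact h.zero r hr
  · exact x_of_not_lt D r hr 0

/-- the root element as an element of the general linear group -/
def xGL {D : ChevalleyDatum} (h : Hyp D F) (r : ℕ) (t : F) : GL D.Idx F :=
  ⟨D.x F r t, D.x F r (-t), by rw [h.add', add_neg_cancel, h.zero'],
    by rw [h.add', neg_add_cancel, h.zero']⟩

theorem xGL_val {D : ChevalleyDatum} (h : Hyp D F) (r : ℕ) (t : F) :
    ((xGL h r t : GL D.Idx F) : Matrix D.Idx D.Idx F) = D.x F r t := rfl

theorem eq_xGL {D : ChevalleyDatum} (h : Hyp D F) (r : ℕ) (t : F) (g : GL D.Idx F)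
    (hg : (g : Matrix D.Idx D.Idx F) = D.x F r t) : g = xGL h r t :=
  Units.ext hg

/-- the element `n_p(1)` for the `i`-th fundamental root -/
def nGL {D : ChevalleyDatum} (h : Hyp D F) (i : ℕ) : GL D.Idx F :=
  xGL h (D.simple i) 1 * xGL h (D.neg (D.simple i)) (-1) * xGL h (D.simple i) 1

theorem nGL_val {D : ChevalleyDatum} (h : Hyp D F) (i : ℕ) :
    ((nGL h i : GL D.Idx F) : Matrix D.Idx D.Idx F) = D.nMat F (D.simple i) 1 := by
  unfold nGL ChevalleyDatum.nMat ChevalleyDatum.nWord ChevalleyDatum.wordMat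
  simp only [Units.val_mul, xGL_val, List.map_cons, List.map_nil, List.prod_cons, List.prod_nil,
    inv_one, mul_one, mul_assoc]

theorem nGL_mem {D : ChevalleyDatum} (h : Hyp D F) (i : ℕ) (hi : i < D.rank) :
    nGL h i ∈ D.monomialSubgroup F :=
  Subgroup.mem_sup_right (Subgroup.subset_closure ⟨D.simple i, h.simple_lt i hi, nGL_val h i⟩)

theorem conj_nGL {D : ChevalleyDatum} (h : Hyp D F) (i s : ℕ) (hi : i < D.rank)
    (hs : s < D.nroots) :
    D.reflectRoot i s < D.nroots ∧ ∃ η : ℤ, (η = 1 ∨ η = -1) ∧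
      ∀ t : F, nGL h i * xGL h s t * (nGL h i)⁻¹ = xGL h (D.reflectRoot i s) ((η : F) * t) := by
  obtain ⟨η, h1, h2, h3⟩ := h.conj i s hi hs
  refine ⟨h2, η, h1, ?_⟩
  intro t
  rw [mul_inv_eq_iff_eq_mul]
  apply Units.ext
  rw [Units.val_mul, Units.val_mul, nGL_val, xGL_val, xGL_val]
  exact h3 t

/-- the product of the `n_p` along a word -/
def wordN {D : ChevalleyDatum} (h : Hyp D F) (w : List ℕ) : GL D.Idx F := (w.map (nGL h)).prod

/-- the root map of a word -/
def rho (D : ChevalleyDatum) (w : List ℕ) (s : ℕ) : ℕ := w.foldr (fun i s => D.reflectRoot i s) s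

theorem wordN_mem {D : ChevalleyDatum} (h : Hyp D F) (w : List ℕ) (hw : ∀ i ∈ w, i < D.rank) :
    wordN h w ∈ D.monomialSubgroup F := by
  unfold wordN
  apply Subgroup.list_prod_mem
  intro x hx
  obtain ⟨i, hi, rfl⟩ := List.mem_map.mp hx
  exact nGL_mem h i (hw i hi)

theorem conj_word {D : ChevalleyDatum} (h : Hyp D F) (w : List ℕ) (hw : ∀ i ∈ w, i < D.rank)
    (s : ℕ) (hs : s < D.nroots) :
    rho D w s < D.nroots ∧ ∃ η : ℤ, (η = 1 ∨ η = -1) ∧
      ∀ t : F, wordN h w * xGL h s t * (wordN h w)⁻¹ = xGL h (rho D w s) ((η : F) * t) := by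
  induction w with
  | nil =>
    refine ⟨hs, 1, Or.inl rfl, ?_⟩
    intro t
    simp [wordN, rho]
  | cons i w ih =>
    obtain ⟨h1, η, h2, h3⟩ := ih (fun j hj => hw j (List.mem_cons_of_mem _ hj))
    obtain ⟨h4, η', h5, h6⟩ := conj_nGL h i (rho D w s) (hw i List.mem_cons_self) h1
    have hr : rho D (i :: w) s = D.reflectRoot i (rho D w s) := rfl
    have hW : wordN h (i :: w) = nGL h i * wordN h w := by
      unfold wordN
      rw [List.map_cons, List.prod_cons]
    refine ⟨by rw [hr]; exact h4, η' * η, ?_, ?_⟩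
    · rcases h2 with rfl | rfl <;> rcases h5 with rfl | rfl <;> simp
    · intro t
      rw [hW, hr]
      have : nGL h i * wordN h w * xGL h s t * (nGL h i * wordN h w)⁻¹
          = nGL h i * (wordN h w * xGL h s t * (wordN h w)⁻¹) * (nGL h i)⁻¹ := by group
      rw [this, h3, h6]
      congr 1
      push_cast
      ring

theorem isPos_lt {D : ChevalleyDatum} {s : ℕ} (h : D.IsPosRoot s) : s < D.nroots := h.1

theorem isNeg_lt {D : ChevalleyDatum} {s : ℕ} (h : D.IsNegRoot s) : s < D.nroots := h.1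

/-- a word whose root map sends the positive roots onto the negative roots conjugates `U` to
`V` -/
theorem map_pos_eq_neg {D : ChevalleyDatum} (h : Hyp D F) (w : List ℕ)
    (hw : ∀ i ∈ w, i < D.rank)
    (h1 : ∀ s, D.IsPosRoot s → D.IsNegRoot (rho D w s))
    (h2 : ∀ s', D.IsNegRoot s' → ∃ s, D.IsPosRoot s ∧ rho D w s = s') :
    (D.posUnipotent F).map (MulAut.conj (wordN h w)).toMonoidHom = D.negUnipotent F := by
  apply le_antisymm
  · rw [Subgroup.map_le_iff_le_comap]
    unfold ChevalleyDatum.posUnipotent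
    rw [Subgroup.closure_le]
    rintro g ⟨r, t, hr, hg⟩
    obtain ⟨_, η, _, h3⟩ := conj_word h w hw r hr.1
    rw [eq_xGL h r t g hg]
    show (MulAut.conj (wordN h w)) (xGL h r t) ∈ D.negUnipotent F
    rw [MulAut.conj_apply, h3]
    exact Subgroup.subset_closure ⟨rho D w r, _, h1 r hr, rfl⟩
  · unfold ChevalleyDatum.negUnipotent
    rw [Subgroup.closure_le]
    rintro g ⟨s', t, hs', hg⟩
    obtain ⟨s, hs, rfl⟩ := h2 s' hs'
    obtain ⟨_, η, hη, h3⟩ := conj_word h w hw s hs.1
    rw [eq_xGL h _ t g hg]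
    refine Subgroup.mem_map.mpr ⟨xGL h s ((η : F) * t), ?_, ?_⟩
    · exact Subgroup.subset_closure ⟨s, _, hs, rfl⟩
    · show (MulAut.conj (wordN h w)) (xGL h s ((η : F) * t)) = _
      rw [MulAut.conj_apply, h3]
      congr 1
      rcases hη with rfl | rfl <;> simp

/-! ### The table check -/

open Cfsg.Agent.Lib.Helper6.ChevFast

theorem mem_posRoots {D : ChevalleyDatum} {s : ℕ} : s ∈ D.posRoots ↔ D.IsPosRoot s := by
  unfold ChevalleyDatum.posRoots
  rw [List.mem_filter, List.mem_range, decide_eq_true_eq]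
  exact ⟨fun h => h.2, fun h => ⟨h.1, h⟩⟩

theorem mem_negRoots {D : ChevalleyDatum} {s : ℕ} : s ∈ D.negRoots ↔ D.IsNegRoot s := by
  unfold ChevalleyDatum.negRoots
  rw [List.mem_filter, List.mem_range, decide_eq_true_eq]
  exact ⟨fun h => h.2, fun h => ⟨h.1, h⟩⟩

/-- strict application: the kernel has to evaluate the argument first -/
def force {α : Type} (n : ℕ) (f : ℕ → α) : α := Nat.rec (f 0) (fun k _ => f (k + 1)) n

theorem force_eq {α : Type} (n : ℕ) (f : ℕ → α) : force n f = f n := by
  cases n <;> rfl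

/-- the tries of the tables of the fundamental reflections -/
def mkTr (tabs : List (List ℕ)) : List (BT ℕ) := tabs.map (BT.ofList dpt)

/-- a fundamental reflection, read off its table -/
def reflGet (tr : List (BT ℕ)) (i s : ℕ) : ℕ := BT.get 0 dpt (tr.getD i (BT.leaf [])) s

/-- the root map of a word, computed from the tables -/
def rhoT (tr : List (BT ℕ)) (w : List ℕ) (s : ℕ) : ℕ :=
  w.foldr (fun i acc => force acc (reflGet tr i)) s

/-- the table of the `i`-th fundamental reflection is correct -/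
def reflTabCheckI (D : ChevalleyDatum) (tabs : List (List ℕ)) (i : ℕ) : Prop :=
  ∀ s ∈ List.range D.nroots,
    D.reflectRoot i s = reflGet (mkTr tabs) i s ∧ D.reflectRoot i s < D.nroots

instance (D : ChevalleyDatum) (tabs : List (List ℕ)) (i : ℕ) :
    Decidable (reflTabCheckI D tabs i) := by
  unfold reflTabCheckI; infer_instance

/-- the tables of the fundamental reflections are correct -/
def reflTabCheck (D : ChevalleyDatum) (tabs : List (List ℕ)) : Prop :=
  ∀ i ∈ List.range D.rank, reflTabCheckI D tabs i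

instance (D : ChevalleyDatum) (tabs : List (List ℕ)) : Decidable (reflTabCheck D tabs) := by
  unfold reflTabCheck; infer_instance

theorem rho_eq_rhoT (D : ChevalleyDatum) (tabs : List (List ℕ)) (hc : reflTabCheck D tabs)
    (w : List ℕ) (hw : ∀ i ∈ w, i < D.rank) (s : ℕ) (hs : s < D.nroots) :
    rho D w s = rhoT (mkTr tabs) w s ∧ rho D w s < D.nroots := by
  induction w with
  | nil => exact ⟨rfl, hs⟩
  | cons i w ih =>
    obtain ⟨h1, h2⟩ := ih (fun j hj => hw j (List.mem_cons_of_mem _ hj))
    have hr : rho D (i :: w) s = D.reflectRoot i (rho D w s) := rfl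
    have hT : rhoT (mkTr tabs) (i :: w) s
        = force (rhoT (mkTr tabs) w s) (reflGet (mkTr tabs) i) := rfl
    obtain ⟨h3, h4⟩ := hc i (List.mem_range.mpr (hw i List.mem_cons_self)) (rho D w s)
      (List.mem_range.mpr h2)
    rw [hr, hT, force_eq, ← h1]
    exact ⟨h3, h4⟩

/-- the table check, part A: the word and the fundamental roots are in range -/
def w0CheckA (D : ChevalleyDatum) (w : List ℕ) : Prop :=
  (∀ i ∈ w, i < D.rank) ∧ (∀ i ∈ List.range D.rank, D.simple i < D.nroots)

instance (D : ChevalleyDatum) (w : List ℕ) : Decidable (w0CheckA D w) := by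
  unfold w0CheckA; infer_instance

/-- the table check, part C: the positive roots are sent to negative roots -/
def w0CheckC (D : ChevalleyDatum) (tabs : List (List ℕ)) (w : List ℕ) : Prop :=
  ∀ s ∈ D.posRoots, force (rhoT (mkTr tabs) w s) (fun x => decide (D.IsNegRoot x)) = true

instance (D : ChevalleyDatum) (tabs : List (List ℕ)) (w : List ℕ) :
    Decidable (w0CheckC D tabs w) := by
  unfold w0CheckC; infer_instance

/-- the table check, part D: every negative root is the image of a positive root -/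
def w0CheckD (D : ChevalleyDatum) (tabs : List (List ℕ)) (w : List ℕ) : Prop :=
  ∀ s' ∈ D.negRoots, force (rhoT (mkTr tabs) w.reverse s')
    (fun y => decide (D.IsPosRoot y) && (rhoT (mkTr tabs) w y == s')) = true

instance (D : ChevalleyDatum) (tabs : List (List ℕ)) (w : List ℕ) :
    Decidable (w0CheckD D tabs w) := by
  unfold w0CheckD; infer_instance

theorem exists_conj_of_check {D : ChevalleyDatum} (h : Hyp D F) (tabs : List (List ℕ))
    (w : List ℕ) (hA : w0CheckA D w) (c2 : reflTabCheck D tabs) (c3 : w0CheckC D tabs w)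
    (c4 : w0CheckD D tabs w) :
    ∃ n ∈ D.monomialSubgroup F,
      (D.posUnipotent F).map (MulAut.conj n).toMonoidHom = D.negUnipotent F := by
  obtain ⟨c1, _⟩ := hA
  refine ⟨wordN h w, wordN_mem h w c1, map_pos_eq_neg h w c1 ?_ ?_⟩
  · intro s hs
    have := c3 s (mem_posRoots.mpr hs)
    rw [force_eq, decide_eq_true_eq] at this
    rw [(rho_eq_rhoT D tabs c2 w c1 s hs.1).1]
    exact this
  · intro s' hs'
    have := c4 s' (mem_negRoots.mpr hs')
    rw [force_eq, Bool.and_eq_true, decide_eq_true_eq, beq_iff_eq] at this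
    obtain ⟨h1, h2⟩ := this
    refine ⟨_, h1, ?_⟩
    rw [(rho_eq_rhoT D tabs c2 w c1 _ h1.1).1]
    exact h2

/-! ### Words in root elements lie in the Chevalley group -/

theorem xGL_mem {D : ChevalleyDatum} (h : Hyp D F) (r : ℕ) (t : F) : xGL h r t ∈ D.group F := by
  by_cases hr : r < D.nroots
  · apply Subgroup.subset_closure
    refine ⟨⟨r, hr⟩, t, ?_⟩
    rw [xGL_val]
    unfold ChevalleyDatum.x
    rw [dif_pos hr]
  · have : xGL h r t = 1 := Units.ext (x_of_not_lt D r hr t)
    rw [this]
    exact one_mem _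

/-- the element of the general linear group of a word -/
def wordGL {D : ChevalleyDatum} (h : Hyp D F) (w : List (ℕ × F)) : GL D.Idx F :=
  (w.map fun p => xGL h p.1 p.2).prod

theorem wordGL_val {D : ChevalleyDatum} (h : Hyp D F) (w : List (ℕ × F)) :
    ((wordGL h w : GL D.Idx F) : Matrix D.Idx D.Idx F) = D.wordMat F w := by
  unfold wordGL ChevalleyDatum.wordMat
  induction w with
  | nil => rfl
  | cons p w ih =>
    rw [List.map_cons, List.prod_cons, List.map_cons, List.prod_cons, Units.val_mul, ih, xGL_val]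

theorem wordGL_mem {D : ChevalleyDatum} (h : Hyp D F) (w : List (ℕ × F)) :
    wordGL h w ∈ D.group F := by
  unfold wordGL
  apply Subgroup.list_prod_mem
  intro x hx
  obtain ⟨p, _, rfl⟩ := List.mem_map.mp hx
  exact xGL_mem h p.1 p.2

theorem mem_group_of_word {D : ChevalleyDatum} (h : Hyp D F) (w : List (ℕ × F)) (g : GL D.Idx F)
    (hg : (g : Matrix D.Idx D.Idx F) = D.wordMat F w) : g ∈ D.group F := by
  have : g = wordGL h w := Units.ext (by rw [hg, wordGL_val])
  rw [this]
  exact wordGL_mem h w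

theorem diagonal_le_group {D : ChevalleyDatum} (h : Hyp D F) :
    D.diagonalSubgroup F ≤ D.group F := by
  unfold ChevalleyDatum.diagonalSubgroup
  rw [Subgroup.closure_le]
  rintro g ⟨r, t, _, _, hg⟩
  exact mem_group_of_word h (D.hWord r t) g hg

theorem monomial_le_group {D : ChevalleyDatum} (h : Hyp D F) :
    D.monomialSubgroup F ≤ D.group F := by
  unfold ChevalleyDatum.monomialSubgroup
  apply sup_le (diagonal_le_group h)
  rw [Subgroup.closure_le]
  rintro g ⟨r, _, hg⟩
  exact mem_group_of_word h (D.nWord r 1) g hg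

theorem posUnipotent_le_group (D : ChevalleyDatum) : D.posUnipotent F ≤ D.group F := by
  unfold ChevalleyDatum.posUnipotent ChevalleyDatum.group
  apply Subgroup.closure_mono
  rintro g ⟨r, t, hr, hg⟩
  refine ⟨⟨r, hr.1⟩, t, ?_⟩
  rw [hg]
  unfold ChevalleyDatum.x
  rw [dif_pos hr.1]

theorem borel_le_group {D : ChevalleyDatum} (h : Hyp D F) : D.borelSubgroup F ≤ D.group F :=
  sup_le (posUnipotent_le_group D) (diagonal_le_group h)

/-- `B ⊔ N = G` from `U ⊔ V = G` and a conjugation of `U` onto `V` inside `N` -/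
theorem borel_sup_monomial {D : ChevalleyDatum} (h : Hyp D F)
    (hUV : D.posUnipotent F ⊔ D.negUnipotent F = D.group F)
    (hn : ∃ n ∈ D.monomialSubgroup F,
      (D.posUnipotent F).map (MulAut.conj n).toMonoidHom = D.negUnipotent F) :
    D.borelSubgroup F ⊔ D.monomialSubgroup F = D.group F := by
  apply le_antisymm (sup_le (borel_le_group h) (monomial_le_group h))
  rw [← hUV]
  obtain ⟨n, hnN, hmap⟩ := hn
  have hU : D.posUnipotent F ≤ D.borelSubgroup F ⊔ D.monomialSubgroup F :=
    le_trans le_sup_left le_sup_left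
  apply sup_le hU
  rw [← hmap]
  rintro v ⟨u, hu, rfl⟩
  show (MulAut.conj n) u ∈ _
  rw [MulAut.conj_apply]
  have hn' : n ∈ D.borelSubgroup F ⊔ D.monomialSubgroup F := Subgroup.mem_sup_right hnN
  exact mul_mem (mul_mem hn' (hU hu)) (inv_mem hn')

end Cfsg.Agent.Lib.Helper6.ChevWeyl
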