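import Mathlib
import Cfsg.Agent.Lib.Helper6.ChevWeyl
import Cfsg.Agent.Lib.Helper6.ChevConj

/-!
# The subgroup `U_p` and its normaliser (helper6)

For a fundamental root `p` the subgroup `U_p` generated by the `X_s`, `s` positive, `s ≠ p`, is
normalised by `X_p` (commutator formula for the pairs `(p, s)`, checked column by column) and by
`n_p`, hence by `X_{-p}`.
-/

set_option autoImplicit false

namespace Cfsg.Agent.Lib.Helper6.ChevNorm

open Cfsg.Lie Cfsg.Agent.Lib.Helper6.ChevSparse Cfsg.Agent.Lib.Helper6.ChevFast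
  Cfsg.Agent.Lib.Helper6.ChevCols Cfsg.Agent.Lib.Helper6.ChevConj Cfsg.Agent.Lib.Helper6.ChevWeyl

variable {F : Type*} [Field F]

/-! ### The commutator formula for one pair of roots, as a table check -/

/-- the terms of the commutator formula with polynomial arguments -/
def commTermsPoly (D : ChevalleyDatum) (r s : ℕ) : List (ℕ × Poly) :=
  (D.commTerms r s).map fun c =>
    (c.1, psmul c.2.1 (pmul (ppow (pneg pX1) c.2.2.1) (ppow pX2 c.2.2.2)))

/-- `x_s(X₂) x_r(X₁) = x_r(X₁) x_s(X₂) ∏ x_{ir+js}(C (-X₁)^i X₂^j)`, all columns -/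
def commFullCheck (D : ChevalleyDatum) (r s : ℕ) : Prop :=
  ∀ col ∈ List.range (D.rank + D.nroots),
    svecEq (wordColF D [(s, pX2), (r, pX1)] col)
      (wordColF D ((r, pX1) :: (s, pX2) :: commTermsPoly D r s) col) = true

instance (D : ChevalleyDatum) (r s : ℕ) : Decidable (commFullCheck D r s) := by
  unfold commFullCheck; infer_instance

theorem comm_of_fullCheck (D : ChevalleyDatum) (r s : ℕ) (hc : commFullCheck D r s) (t u : F) :
    D.x F s u * D.x F r t = D.x F r t * D.x F s u * D.wordMat F (D.commWord F r s t u) := by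
  have h1 := hasCols_word D ((t, u, (0 : F)) : F × F × F) [(s, pX2), (r, pX1)]
  have h2 := hasCols_word D ((t, u, (0 : F)) : F × F × F)
    ((r, pX1) :: (s, pX2) :: commTermsPoly D r s)
  have := eq_of_cols h1 h2 hc
  have e : (commTermsPoly D r s).map (fun x => (x.1, pev ((t, u, (0 : F)) : F × F × F) x.2))
      = D.commWord F r s t u := by
    unfold commTermsPoly ChevalleyDatum.commWord
    rw [List.map_map]
    apply List.map_congr_left
    intro c _
    simp only [Function.comp, pev_smul, pev_mul, pev_pow, pev_neg, pev_X1, pev_X2, mul_assoc]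
  simp only [List.map_cons, List.map_nil, pev_X1, pev_X2, e] at this
  simp only [ChevalleyDatum.wordMat, List.map_cons, List.map_nil, List.prod_cons, List.prod_nil,
    mul_one] at this ⊢
  rw [this, mul_assoc]

/-! ### The subgroup `U_p` -/

/-- the subgroup `U_p` generated by the `X_s`, `s` positive, `s ≠ p` -/
def Up (D : ChevalleyDatum) (F : Type*) [Field F] (p : ℕ) : Subgroup (GL D.Idx F) :=
  Subgroup.closure {g : GL D.Idx F | ∃ (s : ℕ) (t : F), D.IsPosRoot s ∧ s ≠ p ∧
    (g : Matrix D.Idx D.Idx F) = D.x F s t}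

theorem xGL_mem_Up {D : ChevalleyDatum} (h : Hyp D F) (p s : ℕ) (hs : D.IsPosRoot s) (hsp : s ≠ p)
    (t : F) : xGL h s t ∈ Up D F p :=
  Subgroup.subset_closure ⟨s, t, hs, hsp, rfl⟩

/-- a word all of whose roots are positive and different from `p` lies in `U_p` -/
theorem wordGL_mem_Up {D : ChevalleyDatum} (h : Hyp D F) (p : ℕ) (w : List (ℕ × F))
    (hw : ∀ x ∈ w, D.IsPosRoot x.1 ∧ x.1 ≠ p) : wordGL h w ∈ Up D F p := by
  unfold wordGL
  apply Subgroup.list_prod_mem
  intro y hy
  obtain ⟨x, hx, rfl⟩ := List.mem_map.mp hy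
  exact xGL_mem_Up h p x.1 (hw x hx).1 (hw x hx).2 x.2

/-- an element conjugating, together with its inverse, the generators of `U_p` into `U_p`
normalises `U_p` -/
theorem mem_normalizer_of_gens {D : ChevalleyDatum} (h : Hyp D F) (p : ℕ) (g : GL D.Idx F)
    (h1 : ∀ s, D.IsPosRoot s → s ≠ p → ∀ u : F, g * xGL h s u * g⁻¹ ∈ Up D F p)
    (h2 : ∀ s, D.IsPosRoot s → s ≠ p → ∀ u : F, g⁻¹ * xGL h s u * g⁻¹⁻¹ ∈ Up D F p) :
    g ∈ Subgroup.normalizer (Up D F p : Set (GL D.Idx F)) := by
  have key : ∀ (k : GL D.Idx F),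
      (∀ s, D.IsPosRoot s → s ≠ p → ∀ u : F, k * xGL h s u * k⁻¹ ∈ Up D F p) →
      ∀ x ∈ Up D F p, k * x * k⁻¹ ∈ Up D F p := by
    intro k hk x hx
    unfold Up at hx
    induction hx using Subgroup.closure_induction with
    | mem y hy =>
      obtain ⟨s, t, hs, hsp, hy⟩ := hy
      rw [eq_xGL h s t y hy]
      exact hk s hs hsp t
    | one => simp only [mul_one, mul_inv_cancel]; exact one_mem _
    | mul y z _ _ hy hz =>
      have : k * (y * z) * k⁻¹ = (k * y * k⁻¹) * (k * z * k⁻¹) := by group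
      rw [this]; exact mul_mem hy hz
    | inv y _ hy =>
      have : k * y⁻¹ * k⁻¹ = (k * y * k⁻¹)⁻¹ := by group
      rw [this]; exact inv_mem hy
  rw [Subgroup.mem_normalizer_iff]
  intro x
  constructor
  · exact key g h1 x
  · intro hx
    have := key g⁻¹ h2 _ hx
    have e : g⁻¹ * (g * x * g⁻¹) * g⁻¹⁻¹ = x := by group
    rwa [e] at this

/-- the check for a fundamental root `p = p_i` and a root `s`: if `s` is positive and not `p`,
the commutator formula holds for `(p, s)` and all its terms are positive roots other than `p` -/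
def normCheck (D : ChevalleyDatum) (i s : ℕ) : Prop :=
  D.IsPosRoot s → s ≠ D.simple i →
    (commFullCheck D (D.simple i) s ∧
      ∀ c ∈ D.commTerms (D.simple i) s, D.IsPosRoot c.1 ∧ c.1 ≠ D.simple i)

instance (D : ChevalleyDatum) (i s : ℕ) : Decidable (normCheck D i s) := by
  unfold normCheck; infer_instance

/-- the check for a list of roots -/
def normCheckL (D : ChevalleyDatum) (i : ℕ) (l : List ℕ) : Prop := ∀ s ∈ l, normCheck D i s

instance (D : ChevalleyDatum) (i : ℕ) (l : List ℕ) : Decidable (normCheckL D i l) := by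
  unfold normCheckL; infer_instance

theorem conj_x_mem_Up {D : ChevalleyDatum} (h : Hyp D F) (i : ℕ)
    (hc : ∀ s, s < D.nroots → normCheck D i s) (t : F) (s : ℕ) (hs : D.IsPosRoot s)
    (hsp : s ≠ D.simple i) (u : F) :
    xGL h (D.simple i) t * xGL h s u * (xGL h (D.simple i) t)⁻¹ ∈ Up D F (D.simple i) := by
  obtain ⟨c1, c2⟩ := hc s hs.1 hs hsp
  have e := comm_of_fullCheck (F := F) D (D.simple i) s c1 (-t) u
  -- x_s(u) x_p(-t) = x_p(-t) x_s(u) W
  have hW : wordGL h (D.commWord F (D.simple i) s (-t) u) ∈ Up D F (D.simple i) := by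
    apply wordGL_mem_Up
    intro x hx
    unfold ChevalleyDatum.commWord at hx
    obtain ⟨c, hc', rfl⟩ := List.mem_map.mp hx
    exact c2 c hc'
  have e' : xGL h s u * xGL h (D.simple i) (-t)
      = xGL h (D.simple i) (-t) * xGL h s u * wordGL h (D.commWord F (D.simple i) s (-t) u) := by
    apply Units.ext
    simp only [Units.val_mul, xGL_val, wordGL_val]
    exact e
  have hinv : (xGL h (D.simple i) t)⁻¹ = xGL h (D.simple i) (-t) := by
    rw [inv_eq_iff_mul_eq_one]
    apply Units.ext
    rw [Units.val_mul, xGL_val, xGL_val, h.add', add_neg_cancel, h.zero']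
    rfl
  have : xGL h (D.simple i) t * xGL h s u * (xGL h (D.simple i) t)⁻¹
      = xGL h s u * wordGL h (D.commWord F (D.simple i) s (-t) u) := by
    rw [hinv]
    have h3 : xGL h (D.simple i) t * xGL h (D.simple i) (-t) = 1 := by
      rw [← hinv]; exact mul_inv_cancel _
    calc xGL h (D.simple i) t * xGL h s u * xGL h (D.simple i) (-t)
        = xGL h (D.simple i) t * (xGL h s u * xGL h (D.simple i) (-t)) := by group
      _ = xGL h (D.simple i) t * (xGL h (D.simple i) (-t) * xGL h s u
            * wordGL h (D.commWord F (D.simple i) s (-t) u)) := by rw [e']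
      _ = (xGL h (D.simple i) t * xGL h (D.simple i) (-t)) * xGL h s u
            * wordGL h (D.commWord F (D.simple i) s (-t) u) := by group
      _ = xGL h s u * wordGL h (D.commWord F (D.simple i) s (-t) u) := by rw [h3, one_mul]
  rw [this]
  exact mul_mem (xGL_mem_Up h _ s hs hsp u) hW

theorem xGL_simple_mem_normalizer {D : ChevalleyDatum} (h : Hyp D F) (i : ℕ)
    (hc : ∀ s, s < D.nroots → normCheck D i s) (t : F) :
    xGL h (D.simple i) t ∈ Subgroup.normalizer (Up D F (D.simple i) : Set (GL D.Idx F)) := by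
  have hinv : (xGL h (D.simple i) t)⁻¹ = xGL h (D.simple i) (-t) := by
    rw [inv_eq_iff_mul_eq_one]
    apply Units.ext
    rw [Units.val_mul, xGL_val, xGL_val, h.add', add_neg_cancel, h.zero']
    rfl
  apply mem_normalizer_of_gens h
  · intro s hs hsp u
    exact conj_x_mem_Up h i hc t s hs hsp u
  · intro s hs hsp u
    rw [hinv]
    exact conj_x_mem_Up h i hc (-t) s hs hsp u

/-! ### The element `n_p` normalises `U_p` -/

/-- the fundamental reflection permutes the positive roots other than `p`, is an involution, and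
exchanges `p` and `-p` -/
def reflCheck (D : ChevalleyDatum) (i : ℕ) : Prop :=
  (∀ s ∈ List.range D.nroots, D.IsPosRoot s → s ≠ D.simple i →
    (D.IsPosRoot (D.reflectRoot i s) ∧ D.reflectRoot i s ≠ D.simple i)) ∧
  (∀ s ∈ List.range D.nroots, D.reflectRoot i (D.reflectRoot i s) = s) ∧
  D.reflectRoot i (D.simple i) = D.neg (D.simple i) ∧ D.simple i < D.nroots

instance (D : ChevalleyDatum) (i : ℕ) : Decidable (reflCheck D i) := by
  unfold reflCheck; infer_instance

theorem nGL_mem_normalizer {D : ChevalleyDatum} (h : Hyp D F) (i : ℕ) (hi : i < D.rank)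
    (hr : reflCheck D i) :
    nGL h i ∈ Subgroup.normalizer (Up D F (D.simple i) : Set (GL D.Idx F)) := by
  obtain ⟨r1, r2, _, _⟩ := hr
  apply mem_normalizer_of_gens h
  · intro s hs hsp u
    obtain ⟨_, η, _, h3⟩ := conj_nGL h i s hi hs.1
    rw [h3]
    obtain ⟨q1, q2⟩ := r1 s (List.mem_range.mpr hs.1) hs hsp
    exact xGL_mem_Up h _ _ q1 q2 _
  · intro s hs hsp u
    obtain ⟨q1, q2⟩ := r1 s (List.mem_range.mpr hs.1) hs hsp
    obtain ⟨_, η, hη, h3⟩ := conj_nGL h i (D.reflectRoot i s) hi q1.1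
    rw [r2 s (List.mem_range.mpr hs.1)] at h3
    have h4 := h3 ((η : F) * u)
    have e : (η : F) * ((η : F) * u) = u := by
      rcases hη with rfl | rfl <;> simp
    rw [e] at h4
    rw [← h4]
    have : (nGL h i)⁻¹ * (nGL h i * xGL h (D.reflectRoot i s) ((η : F) * u) * (nGL h i)⁻¹)
        * (nGL h i)⁻¹⁻¹ = xGL h (D.reflectRoot i s) ((η : F) * u) := by group
    rw [this]
    exact xGL_mem_Up h _ _ q1 q2 _

/-- the first half of the statement: `X_p` and `X_{-p}` normalise `U_p` -/
theorem rootSubgroups_le_normalizer {D : ChevalleyDatum} (h : Hyp D F) (i : ℕ) (hi : i < D.rank)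
    (hc : ∀ s, s < D.nroots → normCheck D i s) (hr : reflCheck D i) :
    D.rootSubgroup F (D.simple i) ⊔ D.rootSubgroup F (D.neg (D.simple i))
      ≤ Subgroup.normalizer (Up D F (D.simple i) : Set (GL D.Idx F)) := by
  apply sup_le
  · unfold ChevalleyDatum.rootSubgroup
    rw [Subgroup.closure_le]
    rintro g ⟨t, hg⟩
    rw [eq_xGL h _ t g hg]
    exact xGL_simple_mem_normalizer h i hc t
  · unfold ChevalleyDatum.rootSubgroup
    rw [Subgroup.closure_le]
    rintro g ⟨t, hg⟩
    rw [eq_xGL h _ t g hg]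
    obtain ⟨_, _, r3, r4⟩ := hr
    obtain ⟨_, η, hη, h3⟩ := conj_nGL h i (D.simple i) hi r4
    have h4 := h3 ((η : F) * t)
    have e : (η : F) * ((η : F) * t) = t := by
      rcases hη with rfl | rfl <;> simp
    rw [e, r3] at h4
    rw [← h4]
    have hn := nGL_mem_normalizer h i hi ⟨‹_›, ‹_›, r3, r4⟩
    exact mul_mem (mul_mem hn (xGL_simple_mem_normalizer h i hc _)) (inv_mem hn)

/-- the second half of the statement: `U = U_p ⊔ X_p` -/
theorem Up_sup_rootSubgroup {D : ChevalleyDatum} (i : ℕ)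
    (hp : D.IsPosRoot (D.simple i)) :
    Up D F (D.simple i) ⊔ D.rootSubgroup F (D.simple i) = D.posUnipotent F := by
  apply le_antisymm
  · apply sup_le
    · unfold Up ChevalleyDatum.posUnipotent
      apply Subgroup.closure_mono
      rintro g ⟨s, t, hs, _, hg⟩
      exact ⟨s, t, hs, hg⟩
    · unfold ChevalleyDatum.rootSubgroup ChevalleyDatum.posUnipotent
      apply Subgroup.closure_mono
      rintro g ⟨t, hg⟩
      exact ⟨_, t, hp, hg⟩
  · unfold ChevalleyDatum.posUnipotent
    rw [Subgroup.closure_le]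
    rintro g ⟨s, t, hs, hg⟩
    by_cases hsp : s = D.simple i
    · apply Subgroup.mem_sup_right
      apply Subgroup.subset_closure
      exact ⟨t, by rw [hg, hsp]⟩
    · apply Subgroup.mem_sup_left
      exact Subgroup.subset_closure ⟨s, t, hs, hsp, hg⟩

end Cfsg.Agent.Lib.Helper6.ChevNorm
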