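import Mathlib
import Cfsg.Agent.Lib.Helper6.ChevWeyl
import Cfsg.Agent.Lib.Helper6.ChevConj

/-!
# Root elements in the derived subgroup of a Chevalley group (helper6)

Two kinds of certificates that `x_s(v)` lies in the derived subgroup of the Chevalley group: a
single-term commutator relation `x_b(u) x_a(t) = x_a(t) x_b(u) x_s(k t u)` with `k` invertible in
the field, and a torus element `h` with `h x_s(t) h⁻¹ = x_s(χ t)`, `χ ≠ 1`.
-/

set_option autoImplicit false

namespace Cfsg.Agent.Lib.Helper6.ChevPerfect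

open Cfsg.Lie Cfsg.Agent.Lib.Helper6.ChevSparse Cfsg.Agent.Lib.Helper6.ChevFast
  Cfsg.Agent.Lib.Helper6.ChevCols Cfsg.Agent.Lib.Helper6.ChevConj Cfsg.Agent.Lib.Helper6.ChevWeyl

variable {F : Type*} [Field F]

open scoped commutatorElement

/-- the root element as an element of the Chevalley group -/
def xG {D : ChevalleyDatum} (h : Hyp D F) (r : ℕ) (t : F) : ↥(D.group F) :=
  ⟨xGL h r t, xGL_mem h r t⟩

theorem xGL_mul {D : ChevalleyDatum} (h : Hyp D F) (r : ℕ) (t u : F) :
    xGL h r t * xGL h r u = xGL h r (t + u) :=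
  Units.ext (by rw [Units.val_mul, xGL_val, xGL_val, xGL_val, h.add'])

theorem xGL_inv {D : ChevalleyDatum} (h : Hyp D F) (r : ℕ) (t : F) :
    (xGL h r t)⁻¹ = xGL h r (-t) := by
  rw [inv_eq_iff_mul_eq_one, xGL_mul, add_neg_cancel]
  exact Units.ext (h.zero' r)

theorem mem_comm_of_eq {D : ChevalleyDatum} (g : ↥(D.group F)) (x y : ↥(D.group F))
    (hg : (g : GL D.Idx F) = (x : GL D.Idx F) * y * (x : GL D.Idx F)⁻¹ * (y : GL D.Idx F)⁻¹) :
    g ∈ commutator ↥(D.group F) := by
  have : g = ⁅x, y⁆ := by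
    apply Subtype.ext
    rw [hg, commutatorElement_def]
    rfl
  rw [this, commutator_def]
  exact Subgroup.commutator_mem_commutator (Subgroup.mem_top _) (Subgroup.mem_top _)

/-- a single-term commutator relation puts `x_s(v)` into the derived subgroup -/
theorem comm_cert {D : ChevalleyDatum} (h : Hyp D F) (a b s : ℕ) (k : ℤ) (hk : (k : F) ≠ 0)
    (hid : ∀ t u : F, D.x F b u * D.x F a t = D.x F a t * D.x F b u * D.x F s ((k : F) * (t * u)))
    (v : F) : xG h s v ∈ commutator ↥(D.group F) := by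
  apply mem_comm_of_eq (xG h s v) (xG h b (-1)) (xG h a (-((k : F)⁻¹ * v)))
  show xGL h s v = xGL h b (-1) * xGL h a (-((k : F)⁻¹ * v)) * (xGL h b (-1))⁻¹
    * (xGL h a (-((k : F)⁻¹ * v)))⁻¹
  have e : xGL h b 1 * xGL h a ((k : F)⁻¹ * v) = xGL h a ((k : F)⁻¹ * v) * xGL h b 1 * xGL h s v := by
    apply Units.ext
    simp only [Units.val_mul, xGL_val]
    rw [hid ((k : F)⁻¹ * v) 1]
    congr 2
    field_simp
  have hX : xGL h b (-1) = (xGL h b 1)⁻¹ := (xGL_inv h b 1).symm
  have hY : xGL h a (-((k : F)⁻¹ * v)) = (xGL h a ((k : F)⁻¹ * v))⁻¹ := (xGL_inv h a _).symm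
  rw [hX, hY]
  have : xGL h s v = (xGL h a ((k : F)⁻¹ * v) * xGL h b 1)⁻¹
      * (xGL h b 1 * xGL h a ((k : F)⁻¹ * v)) := by
    rw [e]; group
  rw [this]
  group

/-- a torus element acting non-trivially on `X_s` puts `x_s(v)` into the derived subgroup -/
theorem torus_cert {D : ChevalleyDatum} (h : Hyp D F) (r s : ℕ) (c χ : F) (hχ : χ ≠ 1)
    (hid : ∀ t : F, D.hMat F r c * D.x F s t = D.x F s (χ * t) * D.hMat F r c)
    (v : F) : xG h s v ∈ commutator ↥(D.group F) := by
  have hχ' : χ - 1 ≠ 0 := sub_ne_zero.mpr hχ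
  let hh : ↥(D.group F) := ⟨wordGL h (D.hWord r c), wordGL_mem h _⟩
  apply mem_comm_of_eq (xG h s v) hh (xG h s ((χ - 1)⁻¹ * v))
  show xGL h s v = wordGL h (D.hWord r c) * xGL h s ((χ - 1)⁻¹ * v) * (wordGL h (D.hWord r c))⁻¹
    * (xGL h s ((χ - 1)⁻¹ * v))⁻¹
  have e : wordGL h (D.hWord r c) * xGL h s ((χ - 1)⁻¹ * v)
      = xGL h s (χ * ((χ - 1)⁻¹ * v)) * wordGL h (D.hWord r c) := by
    apply Units.ext
    simp only [Units.val_mul, xGL_val, wordGL_val]
    exact hid _
  rw [e, mul_assoc (xGL h s _), mul_inv_cancel, mul_one, xGL_inv, xGL_mul]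
  congr 1
  field_simp
  ring

/-- the Chevalley group is perfect as soon as all root elements are in the derived subgroup -/
theorem perfect_of_gens {D : ChevalleyDatum} (h : Hyp D F)
    (hall : ∀ s, s < D.nroots → ∀ v : F, xG h s v ∈ commutator ↥(D.group F)) :
    commutator ↥(D.group F) = ⊤ := by
  rw [eq_top_iff]
  intro x _
  obtain ⟨g, hg⟩ := x
  refine Subgroup.closure_induction
    (p := fun g hg => (⟨g, hg⟩ : ↥(D.group F)) ∈ commutator ↥(D.group F)) ?_ ?_ ?_ ?_ hg
  · intro x hx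
    obtain ⟨r, t, hx'⟩ := hx
    have : x = xGL h r.val t := by
      apply Units.ext
      rw [hx', xGL_val]
      unfold ChevalleyDatum.x
      rw [dif_pos r.isLt]
    subst this
    exact hall r.val r.isLt t
  · exact one_mem _
  · intro x y hx hy ihx ihy
    exact mul_mem ihx ihy
  · intro x hx ihx
    exact inv_mem ihx

/-! ### The table check of a commutator relation -/

/-- `x_b(X₂) x_a(X₁) = x_a(X₁) x_b(X₂) x_s(k X₁ X₂)`, all columns -/
def commCheck (D : ChevalleyDatum) (a b s : ℕ) (k : ℤ) : Prop :=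
  ∀ col ∈ List.range (D.rank + D.nroots),
    svecEq (wordColF D [(b, pX2), (a, pX1)] col)
      (wordColF D [(a, pX1), (b, pX2), (s, psmul k (pmul pX1 pX2))] col) = true

instance (D : ChevalleyDatum) (a b s : ℕ) (k : ℤ) : Decidable (commCheck D a b s k) := by
  unfold commCheck; infer_instance

theorem comm_of_check (D : ChevalleyDatum) (a b s : ℕ) (k : ℤ) (hc : commCheck D a b s k)
    (t u : F) :
    D.x F b u * D.x F a t = D.x F a t * D.x F b u * D.x F s ((k : F) * (t * u)) := by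
  have h1 := hasCols_word D ((t, u, (0 : F)) : F × F × F) [(b, pX2), (a, pX1)]
  have h2 := hasCols_word D ((t, u, (0 : F)) : F × F × F)
    [(a, pX1), (b, pX2), (s, psmul k (pmul pX1 pX2))]
  have := eq_of_cols h1 h2 hc
  simp only [List.map_cons, List.map_nil, pev_X1, pev_X2, pev_smul, pev_mul,
    ChevalleyDatum.wordMat, List.prod_cons, List.prod_nil, mul_one] at this
  rw [this, mul_assoc]

/-! ### Certificates read off a table -/

/-- the commutator certificate of the root `s`: roots `a`, `b` and a coefficient `k` of absolute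
value `m` -/
def certCheck (D : ChevalleyDatum) (m : ℤ) (cert : List (ℕ × ℕ × ℤ)) (s : ℕ) : Prop :=
  ((cert.getD s (0, 0, 0)).2.2 = m ∨ (cert.getD s (0, 0, 0)).2.2 = -m) ∧
    commCheck D (cert.getD s (0, 0, 0)).1 (cert.getD s (0, 0, 0)).2.1 s (cert.getD s (0, 0, 0)).2.2

instance (D : ChevalleyDatum) (m : ℤ) (cert : List (ℕ × ℕ × ℤ)) (s : ℕ) :
    Decidable (certCheck D m cert s) := by
  unfold certCheck; infer_instance

/-- the certificates of a list of roots -/
def certCheckL (D : ChevalleyDatum) (m : ℤ) (cert : List (ℕ × ℕ × ℤ)) (l : List ℕ) : Prop :=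
  ∀ s ∈ l, certCheck D m cert s

instance (D : ChevalleyDatum) (m : ℤ) (cert : List (ℕ × ℕ × ℤ)) (l : List ℕ) :
    Decidable (certCheckL D m cert l) := by
  unfold certCheckL; infer_instance

theorem mem_of_certCheck {D : ChevalleyDatum} (h : Hyp D F) (m : ℤ) (hm : (m : F) ≠ 0)
    (cert : List (ℕ × ℕ × ℤ)) (s : ℕ) (hc : certCheck D m cert s) (v : F) :
    xG h s v ∈ commutator ↥(D.group F) := by
  obtain ⟨h1, h2⟩ := hc
  refine comm_cert h _ _ s _ ?_ (comm_of_check D _ _ s _ h2) v
  rcases h1 with h1 | h1 <;> rw [h1]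
  · exact hm
  · push_cast
    exact neg_ne_zero.mpr hm

/-! ### Torus certificates from Cartan integers -/

/-- the relation `h_p(c) x_s(t) = x_s(c^{A_{p,s}} t) h_p(c)` for the fundamental roots `p` -/
def TorusRel (D : ChevalleyDatum) (F : Type*) [Field F] : Prop :=
  ∀ i s, i < D.rank → s < D.nroots → ∀ c : F, c ≠ 0 → ∀ t : F,
    D.hMat F (D.simple i) c * D.x F s t = D.x F s (c ^ (D.cartan i s) * t) * D.hMat F (D.simple i) c

theorem torus_of_cartan {D : ChevalleyDatum} (h : Hyp D F) (hT : TorusRel D F) (i s : ℕ)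
    (hi : i < D.rank) (hs : s < D.nroots) (c : F) (hc0 : c ≠ 0) (hc : c ^ (D.cartan i s) ≠ 1)
    (v : F) : xG h s v ∈ commutator ↥(D.group F) :=
  torus_cert h (D.simple i) s c _ hc (hT i s hi hs c hc0) v

/-- some Cartan integer of `s` has absolute value `m` -/
def cartanHas (D : ChevalleyDatum) (m : ℤ) (s : ℕ) : Prop :=
  ∃ i ∈ List.range D.rank, D.cartan i s = m ∨ D.cartan i s = -m

instance (D : ChevalleyDatum) (m : ℤ) (s : ℕ) : Decidable (cartanHas D m s) := by
  unfold cartanHas; infer_instance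

theorem mem_of_cartanHas {D : ChevalleyDatum} (h : Hyp D F) (hT : TorusRel D F) (s : ℕ)
    (hs : s < D.nroots) (m : ℕ) (hc : cartanHas D (m : ℤ) s) (a : F) (ha0 : a ≠ 0)
    (ham : a ^ m ≠ 1) (v : F) : xG h s v ∈ commutator ↥(D.group F) := by
  obtain ⟨i, hi, hA⟩ := hc
  have hi' := List.mem_range.mp hi
  apply torus_of_cartan h hT i s hi' hs a ha0 _ v
  rcases hA with hA | hA <;> rw [hA]
  · rw [zpow_natCast]; exact ham
  · rw [zpow_neg, zpow_natCast]
    intro h1
    exact ham (inv_eq_one.mp h1)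

theorem sq_eq_one_cases (a : F) (ha1 : a ≠ 1) (h2 : a ^ 2 = 1) : a = -1 := by
  have : (a - 1) * (a + 1) = 0 := by ring_nf; rw [h2]; ring
  rcases mul_eq_zero.mp this with h | h
  · exact absurd (sub_eq_zero.mp h) ha1
  · exact eq_neg_of_add_eq_zero_left h

/-- roots with a Cartan integer `±1`, or with Cartan integers `±2` and `±3` -/
theorem mem_of_class {D : ChevalleyDatum} (h : Hyp D F) (hT : TorusRel D F) (s : ℕ)
    (hs : s < D.nroots) (hc : cartanHas D 1 s ∨ (cartanHas D 2 s ∧ cartanHas D 3 s))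
    (a : F) (ha0 : a ≠ 0) (ha1 : a ≠ 1) (v : F) : xG h s v ∈ commutator ↥(D.group F) := by
  rcases hc with hc | ⟨hc2, hc3⟩
  · exact mem_of_cartanHas h hT s hs 1 (by exact_mod_cast hc) a ha0 (by rwa [pow_one]) v
  · by_cases h2 : a ^ 2 = 1
    · have ha := sq_eq_one_cases a ha1 h2
      refine mem_of_cartanHas h hT s hs 3 (by exact_mod_cast hc3) a ha0 ?_ v
      have : a ^ 3 = a := by
        calc a ^ 3 = a ^ 2 * a := by ring
          _ = a := by rw [h2, one_mul]
      rw [this]
      exact ha1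
    · exact mem_of_cartanHas h hT s hs 2 (by exact_mod_cast hc2) a ha0 h2 v

/-- roots with a Cartan integer `±1`, or with a Cartan integer `±2` and a commutator certificate
with coefficient `±2` -/
theorem mem_of_class' {D : ChevalleyDatum} (h : Hyp D F) (hT : TorusRel D F) (s : ℕ)
    (hs : s < D.nroots) (cert : List (ℕ × ℕ × ℤ))
    (hc : cartanHas D 1 s ∨ (cartanHas D 2 s ∧ certCheck D 2 cert s))
    (a : F) (ha0 : a ≠ 0) (ha1 : a ≠ 1) (v : F) : xG h s v ∈ commutator ↥(D.group F) := by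
  rcases hc with hc | ⟨hc2, hc3⟩
  · exact mem_of_cartanHas h hT s hs 1 (by exact_mod_cast hc) a ha0 (by rwa [pow_one]) v
  · by_cases h2 : a ^ 2 = 1
    · have ha := sq_eq_one_cases a ha1 h2
      have h20 : ((2 : ℤ) : F) ≠ 0 := by
        push_cast
        intro h0
        apply ha1
        rw [ha]
        have : (1 : F) + 1 = 0 := by rw [← h0]; norm_num
        exact (eq_neg_of_add_eq_zero_left this).symm
      exact mem_of_certCheck h 2 h20 cert s hc3 v
    · exact mem_of_cartanHas h hT s hs 2 (by exact_mod_cast hc2) a ha0 h2 v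

end Cfsg.Agent.Lib.Helper6.ChevPerfect
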