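import Mathlib
import Cfsg.Prelude.Def_ChevB2
import Cfsg.Agent.Lib.Helper6.ChevWeyl

/-!
# `B₂(2)` acts on six linear forms (helper6)

Over a field `F` with two elements the Chevalley group of type `B₂` permutes six linear forms on
the adjoint module; this gives a surjective homomorphism onto the symmetric group of degree 6.
-/

set_option autoImplicit false

namespace Cfsg.Agent.Lib.Helper6.B2S6

open Cfsg.Lie Cfsg.Agent.Lib.Helper6.ChevWeyl Matrix

/-- the index type of the adjoint module -/
abbrev I : Type := chevB2.Idx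

/-- the six linear forms, as 0-1-rows -/
def ptL : List (List ℕ) :=
  [[0, 1, 0, 0, 0, 1, 1, 0, 0, 0], [0, 1, 0, 0, 0, 1, 1, 0, 0, 1], [0, 1, 1, 0, 0, 0, 0, 0, 0, 1],
   [0, 1, 1, 0, 0, 0, 1, 0, 0, 1], [0, 1, 1, 0, 0, 1, 0, 0, 0, 1], [0, 1, 1, 0, 0, 1, 1, 0, 0, 0]]

/-- the position of an index -/
def pos : I → ℕ
  | Sum.inl a => a.val
  | Sum.inr s => 2 + s.val

/-- the six linear forms over `ZMod 2` -/
def pt0 (i : Fin 6) (x : I) : ZMod 2 := (((ptL.getD i.val []).getD (pos x) 0 : ℕ) : ZMod 2)

/-- the permutations of the six forms induced by the `x_r(1)` -/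
def gpL : List (List ℕ) :=
  [[1, 0, 2, 3, 4, 5], [1, 0, 3, 2, 5, 4], [1, 0, 4, 5, 2, 3], [0, 1, 3, 2, 4, 5],
   [0, 1, 4, 3, 2, 5], [5, 4, 3, 2, 1, 0], [5, 3, 4, 1, 2, 0], [5, 1, 2, 3, 4, 0]]

/-- the image of the form `i` under `x_r(t)` -/
def gq (r : Fin 8) (t : ZMod 2) (i : Fin 6) : Fin 6 :=
  if t = 0 then i else ⟨(gpL.getD r.val []).getD i.val 0 % 6, Nat.mod_lt _ (by norm_num)⟩

theorem gq_gq : ∀ (r : Fin 8) (t : ZMod 2) (i : Fin 6), gq r t (gq r t i) = i := by decide

theorem gq_invol (r : Fin 8) (t : ZMod 2) : Function.Involutive (gq r t) := gq_gq r t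

/-- the permutation of the six forms induced by `x_r(t)` -/
def gqPerm (r : Fin 8) (t : ZMod 2) : Equiv.Perm (Fin 6) := (gq_invol r t).toPerm

set_option maxRecDepth 100000 in
theorem table : ∀ (r : Fin 8) (t : ZMod 2) (i : Fin 6),
    pt0 i ᵥ* chevB2.xMat (ZMod 2) r t = pt0 (gq r t i) := by decide +kernel

theorem pt0_injective : Function.Injective pt0 := by decide +kernel

section field

variable {F : Type*} [Field F]

/-- `xMat` commutes with ring homomorphisms -/
theorem xMat_map' {K : Type*} [Field K] (D : ChevalleyDatum) (f : K →+* F) (r : Fin D.nroots)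
    (t : K) : (D.xMat K r t).map f = D.xMat F r (f t) := by
  ext row col
  rw [Matrix.map_apply]
  unfold ChevalleyDatum.xMat
  simp only [Matrix.of_apply]
  rcases col with i | s
  · rcases row with i' | u
    · simp only
      split_ifs <;> simp
    · simp only
      split_ifs <;> simp
  · simp only
    by_cases h1 : s = r
    · simp only [h1, if_true]
      rcases row with i' | u
      · simp
      · simp only
        split_ifs <;> simp
    · simp only [h1, if_false]
      by_cases h2 : s.val = D.negIdx.getD r.val 0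
      · simp only [h2, if_true]
        rcases row with i' | u
        · simp
        · simp only
          split_ifs <;> simp
      · simp only [h2, if_false]
        rcases row with i' | u
        · simp
        · simp only
          rw [map_add, map_list_sum, List.map_map]
          congr 1
          · split_ifs <;> simp
          · congr 1
            apply List.map_congr_left
            intro km _
            simp

variable (c : ZMod 2 →+* F)

/-- the six linear forms over `F` -/
def pt (i : Fin 6) : I → F := fun x => c (pt0 i x)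

theorem pt_injective (hc : Function.Injective c) : Function.Injective (pt c) := by
  intro i j h
  apply pt0_injective
  funext x
  exact hc (congrFun h x)

theorem vecMul_pt (r : Fin chevB2.nroots) (t : ZMod 2) (i : Fin 6) :
    pt c i ᵥ* chevB2.xMat F r (c t) = pt c (gq r t i) := by
  rw [← xMat_map' chevB2 c r t]
  funext x
  have := RingHom.map_vecMul c (chevB2.xMat (ZMod 2) r t) (pt0 i) x
  have ht : pt0 i ᵥ* chevB2.xMat (ZMod 2) r t = pt0 (gq r t i) := table r t i
  rw [ht] at this
  exact this.symm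

theorem xGL_inv_eq' {D : ChevalleyDatum} (h : Hyp D F) (r : ℕ) (t : F) :
    (xGL h r t)⁻¹ = xGL h r (-t) := by
  rw [inv_eq_iff_mul_eq_one]
  apply Units.ext
  rw [Units.val_mul, xGL_val, xGL_val, h.add', add_neg_cancel, h.zero']
  rfl

/-- the specification of the permutation induced by a group element -/
def Spec (g : GL I F) (σ : Equiv.Perm (Fin 6)) : Prop :=
  ∀ i, pt c i ᵥ* ((g⁻¹ : GL I F) : Matrix I I F) = pt c (σ i)

theorem Spec.unique (hc : Function.Injective c) {g : GL I F} {σ τ : Equiv.Perm (Fin 6)}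
    (h1 : Spec c g σ) (h2 : Spec c g τ) : σ = τ := by
  apply Equiv.ext
  intro i
  apply pt_injective c hc
  rw [← h1 i, ← h2 i]

theorem Spec.one : Spec c (1 : GL I F) 1 := by
  intro i
  rw [inv_one, Units.val_one, Matrix.vecMul_one]
  rfl

theorem Spec.mul {g k : GL I F} {σ τ : Equiv.Perm (Fin 6)} (h1 : Spec c g σ) (h2 : Spec c k τ) :
    Spec c (g * k) (σ * τ) := by
  intro i
  rw [_root_.mul_inv_rev, Units.val_mul, ← Matrix.vecMul_vecMul, h2 i, h1 (τ i)]
  rfl

theorem Spec.inv {g : GL I F} {σ : Equiv.Perm (Fin 6)} (h1 : Spec c g σ) : Spec c g⁻¹ σ⁻¹ := by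
  intro i
  rw [inv_inv]
  have := h1 (σ⁻¹ i)
  have e : σ (σ⁻¹ i) = i := by simp
  rw [e] at this
  rw [← this, Matrix.vecMul_vecMul, ← Units.val_mul, inv_mul_cancel, Units.val_one,
    Matrix.vecMul_one]

theorem spec_xGL (h : Hyp chevB2 F) (r : Fin chevB2.nroots) (t' : ZMod 2) (t : F) (ht : c t' = -t) :
    Spec c (xGL h r.val t) (gqPerm r t') := by
  intro i
  rw [xGL_inv_eq' h, xGL_val]
  unfold ChevalleyDatum.x
  rw [dif_pos r.isLt, ← ht]
  exact vecMul_pt c r t' i

theorem exists_perm (h : Hyp chevB2 F) (hc : Function.Surjective c) (g : GL I F)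
    (hg : g ∈ chevB2.group F) : ∃ σ : Equiv.Perm (Fin 6), Spec c g σ := by
  unfold ChevalleyDatum.group at hg
  induction hg using Subgroup.closure_induction with
  | mem x hx =>
    obtain ⟨r, t, hx⟩ := hx
    have hx' : (x : Matrix I I F) = chevB2.x F r.val t := by
      rw [hx]; unfold ChevalleyDatum.x; rw [dif_pos r.isLt]
    rw [eq_xGL h r.val t x hx']
    obtain ⟨t', ht'⟩ := hc (-t)
    exact ⟨gqPerm r t', spec_xGL c h r t' t ht'⟩
  | one => exact ⟨1, Spec.one c⟩
  | mul x y _ _ hx hy =>
    obtain ⟨σ, hσ⟩ := hx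
    obtain ⟨τ, hτ⟩ := hy
    exact ⟨σ * τ, hσ.mul c hτ⟩
  | inv x _ hx =>
    obtain ⟨σ, hσ⟩ := hx
    exact ⟨σ⁻¹, hσ.inv c⟩

/-- the action of the group on the six forms -/
noncomputable def psi (h : Hyp chevB2 F) (hc : Function.Bijective c) :
    ↥(chevB2.group F) →* Equiv.Perm (Fin 6) :=
  MonoidHom.mk' (fun g => Classical.choose (exists_perm c h hc.2 g.1 g.2)) (by
    intro a b
    have ha := Classical.choose_spec (exists_perm c h hc.2 a.1 a.2)
    have hb := Classical.choose_spec (exists_perm c h hc.2 b.1 b.2)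
    have hab := Classical.choose_spec (exists_perm c h hc.2 (a * b).1 (a * b).2)
    exact Spec.unique c hc.1 hab (ha.mul c hb))

theorem psi_spec (h : Hyp chevB2 F) (hc : Function.Bijective c) (g : ↥(chevB2.group F)) :
    Spec c g.1 (psi c h hc g) :=
  Classical.choose_spec (exists_perm c h hc.2 g.1 g.2)

theorem xGL_mem_group (h : Hyp chevB2 F) (r : Fin chevB2.nroots) (t : F) :
    xGL h r.val t ∈ chevB2.group F := by
  apply Subgroup.subset_closure
  refine ⟨r, t, ?_⟩
  rw [xGL_val]
  unfold ChevalleyDatum.x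
  rw [dif_pos r.isLt]

/-- the element `x_r(1)` of the group -/
noncomputable def xg (h : Hyp chevB2 F) (r : Fin chevB2.nroots) : ↥(chevB2.group F) :=
  ⟨xGL h r.val 1, xGL_mem_group h r 1⟩

theorem psi_xg (h : Hyp chevB2 F) (hc : Function.Bijective c) (r : Fin chevB2.nroots) :
    psi c h hc (xg h r) = gqPerm r 1 := by
  obtain ⟨t', ht'⟩ := hc.2 (-1)
  have ht1 : t' = 1 := by
    have h0 : t' ≠ 0 := by
      intro h0
      rw [h0, map_zero] at ht'
      have : (1 : F) = 0 := by
        have := congrArg (fun x => -x) ht'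
        simpa using this.symm
      exact one_ne_zero this
    have key : ∀ t'' : ZMod 2, t'' ≠ 0 → t'' = 1 := by decide
    exact key t' h0
  rw [ht1] at ht'
  exact Spec.unique c hc.1 (psi_spec c h hc _) (spec_xGL c h r 1 1 ht')

/-- a 6-cycle among the induced permutations -/
def sigma0 : Equiv.Perm (Fin 6) := gqPerm 1 1 * gqPerm 5 1 * gqPerm 6 1

theorem sigma0_eq : sigma0 = ([0, 1, 3, 5, 4, 2] : List (Fin 6)).formPerm := by decide

theorem swap_eq : gqPerm 0 1 = Equiv.swap (0 : Fin 6) (sigma0 0) := by decide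

theorem closure_top :
    Subgroup.closure ({sigma0, gqPerm 0 1} : Set (Equiv.Perm (Fin 6))) = ⊤ := by
  rw [swap_eq]
  apply Equiv.Perm.closure_cycle_adjacent_swap
  · rw [sigma0_eq]
    exact List.isCycle_formPerm (by decide) (by decide)
  · rw [sigma0_eq, List.support_formPerm_of_nodup _ (by decide) (by decide)]
    decide

theorem psi_surjective (h : Hyp chevB2 F) (hc : Function.Bijective c) :
    Function.Surjective (psi c h hc) := by
  rw [← MonoidHom.range_eq_top, eq_top_iff, ← closure_top, Subgroup.closure_le]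
  intro σ hσ
  rcases hσ with rfl | rfl
  · refine ⟨xg h (1 : Fin 8) * xg h (5 : Fin 8) * xg h (6 : Fin 8), ?_⟩
    have e1 := psi_xg c h hc (1 : Fin 8)
    have e5 := psi_xg c h hc (5 : Fin 8)
    have e6 := psi_xg c h hc (6 : Fin 8)
    rw [map_mul, map_mul]
    exact congrArg₂ (· * ·) (congrArg₂ (· * ·) e1 e5) e6
  · exact ⟨xg h (0 : Fin 8), psi_xg c h hc (0 : Fin 8)⟩

/-- `B₂(2) ≅ S₆`, given the order of `B₂(2)` -/
theorem nonempty_mulEquiv [Fintype F] (hF : Fintype.card F = 2) (h : Hyp chevB2 F)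
    (hcard : Nat.card ↥(chevB2.group F) = 720) :
    Nonempty (↥(chevB2.group F) ≃* Equiv.Perm (Fin 6)) := by
  let e : ZMod 2 ≃+* F := ZMod.ringEquivOfPrime F Nat.prime_two hF
  have hc : Function.Bijective (e : ZMod 2 →+* F) := e.bijective
  have hfin : Finite ↥(chevB2.group F) := Nat.finite_of_card_ne_zero (by rw [hcard]; norm_num)
  have hbij : Function.Bijective (psi (e : ZMod 2 →+* F) h hc) := by
    rw [Nat.bijective_iff_surjective_and_card]
    refine ⟨psi_surjective _ h hc, ?_⟩
    rw [hcard, Nat.card_eq_fintype_card, Fintype.card_perm, Fintype.card_fin]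
    rfl
  exact ⟨MulEquiv.ofBijective _ hbij⟩

end field

end Cfsg.Agent.Lib.Helper6.B2S6
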