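import Mathlib
import Cfsg.Agent.Lib.Helper6.ChevNorm

/-!
# The commutator formula by transport along the Weyl group (helper6)

The commutator formula for a pair of roots `(r, s)` is transported to the pair
`(w_p r, w_p s)` by conjugation with `n_p`; the signs `η` of `n_p x_s(t) n_p⁻¹ = x_{w_p s}(η t)`
are read off a table, and the transported formula is compared with the tabulated one by an
integer table check. Together with a direct check for one pair in each orbit this gives the
formula for all pairs.
-/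

set_option autoImplicit false

namespace Cfsg.Agent.Lib.Helper6.ChevCommOrbit

open Cfsg.Lie Cfsg.Agent.Lib.Helper6.ChevSparse Cfsg.Agent.Lib.Helper6.ChevFast
  Cfsg.Agent.Lib.Helper6.ChevCols Cfsg.Agent.Lib.Helper6.ChevConj Cfsg.Agent.Lib.Helper6.ChevWeyl
  Cfsg.Agent.Lib.Helper6.ChevNorm

variable {F : Type*} [Field F]

/-! ### Computable signs -/

/-- one column of the check `T x_s(X) = x_{s'}(η X) T` -/
def colOK (D : ChevalleyDatum) (tab : Tab) (s s' : ℕ) (η : ℤ) (col : ℕ) : Bool :=
  svecEq (applyCols (D.rank + D.nroots) (tCol tab) (xColF (mkFD D) s pX1 col))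
    (applyCols (D.rank + D.nroots) (xColF (mkFD D) s' (psmul η pX1)) (tCol tab col))

theorem colOK_of_check (D : ChevalleyDatum) (tab : Tab) (s s' : ℕ) (η : ℤ)
    (h : tConjCheck D tab s s' η) (col : ℕ) (hcol : col < D.rank + D.nroots) :
    colOK D tab s s' η col = true :=
  h.2 col (List.mem_range.mpr hcol)

/-- the sign `η` is the right one: checked on the column of `e_{-s}` -/
def signCheck (D : ChevalleyDatum) (tab : Tab) (i : ℕ) (etas : List ℤ) (s : ℕ) : Prop :=
  (etas.getD s 1 = 1 ∨ etas.getD s 1 = -1) ∧ D.rank + D.neg s < D.rank + D.nroots ∧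
    colOK D tab s (D.reflectRoot i s) (etas.getD s 1) (D.rank + D.neg s) = true ∧
    colOK D tab s (D.reflectRoot i s) (-(etas.getD s 1)) (D.rank + D.neg s) = false

instance (D : ChevalleyDatum) (tab : Tab) (i : ℕ) (etas : List ℤ) (s : ℕ) :
    Decidable (signCheck D tab i etas s) := by
  unfold signCheck; infer_instance

theorem check_of_sign (D : ChevalleyDatum) (tab : Tab) (i : ℕ) (etas : List ℤ) (s : ℕ)
    (hn : nConjCheck D tab i s) (hs : signCheck D tab i etas s) :
    tConjCheck D tab s (D.reflectRoot i s) (etas.getD s 1) := by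
  obtain ⟨h1, h2, h3, h4⟩ := hs
  rcases h1 with h1 | h1
  · rw [h1] at h4 ⊢
    rcases hn with hn | hn
    · exact hn
    · have := colOK_of_check D tab s _ _ hn _ h2
      rw [this] at h4
      exact absurd h4 (by decide)
  · rw [h1] at h4 ⊢
    rw [neg_neg] at h4
    rcases hn with hn | hn
    · have := colOK_of_check D tab s _ _ hn _ h2
      rw [this] at h4
      exact absurd h4 (by decide)
    · exact hn

/-- the conjugation relations for the `i`-th fundamental root with signs from a table -/
def ConjRel (D : ChevalleyDatum) (F : Type*) [Field F] (i : ℕ) (etas : List ℤ) : Prop :=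
  ∀ s, s < D.nroots → D.reflectRoot i s < D.nroots ∧
    (etas.getD s 1 = 1 ∨ etas.getD s 1 = -1) ∧
    ∀ t : F, D.nMat F (D.simple i) 1 * D.x F s t
      = D.x F (D.reflectRoot i s) (((etas.getD s 1 : ℤ) : F) * t) * D.nMat F (D.simple i) 1

theorem conjRel_of_checks (D : ChevalleyDatum) (tab : Tab) (i : ℕ) (etas : List ℤ)
    (ht : nTabCheck D (D.simple i) tab) (hn : ∀ s, s < D.nroots → nConjCheck D tab i s)
    (hs : ∀ s, s < D.nroots → signCheck D tab i etas s) : ConjRel D F i etas := by
  intro s hs'
  have hc := check_of_sign D tab i etas s (hn s hs') (hs s hs')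
  refine ⟨hc.1, (hs s hs').1, ?_⟩
  intro t
  rw [nMat_eq_T D _ tab ht]
  exact tconj_of_check D tab s _ _ hs' hc t

/-! ### Transport of the commutator formula -/

/-- the commutator formula for the pair `(r, s)`, in the general linear group -/
def CommF {D : ChevalleyDatum} (h : Hyp D F) (r s : ℕ) : Prop :=
  ∀ t u : F, xGL h s u * xGL h r t
    = xGL h r t * xGL h s u * wordGL h (D.commWord F r s t u)

theorem commF_of_fullCheck {D : ChevalleyDatum} (h : Hyp D F) (r s : ℕ)
    (hc : commFullCheck D r s) : CommF h r s := by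
  intro t u
  apply Units.ext
  simp only [Units.val_mul, xGL_val, wordGL_val]
  exact comm_of_fullCheck D r s hc t u

theorem commF_val {D : ChevalleyDatum} (h : Hyp D F) (r s : ℕ) (hc : CommF h r s) (t u : F) :
    D.x F s u * D.x F r t = D.x F r t * D.x F s u * D.wordMat F (D.commWord F r s t u) := by
  have := congrArg (fun g : GL D.Idx F => (g : Matrix D.Idx D.Idx F)) (hc t u)
  simpa only [Units.val_mul, xGL_val, wordGL_val] using this

theorem conj_xGL {D : ChevalleyDatum} (h : Hyp D F) (i : ℕ) (etas : List ℤ)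
    (hrel : ConjRel D F i etas) (s : ℕ) (hs : s < D.nroots) (t : F) :
    nGL h i * xGL h s t * (nGL h i)⁻¹
      = xGL h (D.reflectRoot i s) (((etas.getD s 1 : ℤ) : F) * t) := by
  rw [mul_inv_eq_iff_eq_mul]
  apply Units.ext
  rw [Units.val_mul, Units.val_mul, nGL_val, xGL_val, xGL_val]
  exact (hrel s hs).2.2 t

theorem conj_wordGL {D : ChevalleyDatum} (h : Hyp D F) (i : ℕ) (etas : List ℤ)
    (hrel : ConjRel D F i etas) (w : List (ℕ × F)) (hw : ∀ x ∈ w, x.1 < D.nroots) :
    nGL h i * wordGL h w * (nGL h i)⁻¹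
      = wordGL h (w.map fun x => (D.reflectRoot i x.1, ((etas.getD x.1 1 : ℤ) : F) * x.2)) := by
  induction w with
  | nil => simp [wordGL]
  | cons x w ih =>
    have e1 : wordGL h (x :: w) = xGL h x.1 x.2 * wordGL h w := by
      unfold wordGL; rw [List.map_cons, List.prod_cons]
    have e2 : wordGL h ((x :: w).map fun x => (D.reflectRoot i x.1,
          ((etas.getD x.1 1 : ℤ) : F) * x.2))
        = xGL h (D.reflectRoot i x.1) (((etas.getD x.1 1 : ℤ) : F) * x.2)
          * wordGL h (w.map fun x => (D.reflectRoot i x.1, ((etas.getD x.1 1 : ℤ) : F) * x.2)) := by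
      unfold wordGL; rw [List.map_cons, List.map_cons, List.prod_cons]
    rw [e1, e2, ← ih (fun y hy => hw y (List.mem_cons_of_mem _ hy)),
      ← conj_xGL h i etas hrel x.1 (hw x List.mem_cons_self) x.2]
    group

/-- the integer table check comparing the transported formula with the tabulated one -/
def stepOK (D : ChevalleyDatum) (i : ℕ) (etas : List ℤ) (r s : ℕ) : Prop :=
  (∀ c ∈ D.commTerms r s, c.1 < D.nroots) ∧
  D.commTerms (D.reflectRoot i r) (D.reflectRoot i s)
    = (D.commTerms r s).map fun c =>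
        (D.reflectRoot i c.1,
          etas.getD c.1 1 * c.2.1 * etas.getD r 1 ^ c.2.2.1 * etas.getD s 1 ^ c.2.2.2,
          c.2.2.1, c.2.2.2)

instance (D : ChevalleyDatum) (i : ℕ) (etas : List ℤ) (r s : ℕ) :
    Decidable (stepOK D i etas r s) := by
  unfold stepOK; infer_instance

theorem sq_cast_eq_one (η : ℤ) (hη : η = 1 ∨ η = -1) : ((η : ℤ) : F) * (η : F) = 1 := by
  rcases hη with rfl | rfl <;> simp

theorem commF_step {D : ChevalleyDatum} (h : Hyp D F) (i : ℕ) (etas : List ℤ)
    (hrel : ConjRel D F i etas) (r s : ℕ) (hr : r < D.nroots) (hs : s < D.nroots)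
    (hok : stepOK D i etas r s) (hP : CommF h r s) :
    CommF h (D.reflectRoot i r) (D.reflectRoot i s) := by
  intro t u
  obtain ⟨hlt, hterms⟩ := hok
  have hηr := (hrel r hr).2.1
  have hηs := (hrel s hs).2.1
  set ηr : F := ((etas.getD r 1 : ℤ) : F) with hηr'
  set ηs : F := ((etas.getD s 1 : ℤ) : F) with hηs'
  have e1 : xGL h (D.reflectRoot i s) u = nGL h i * xGL h s (ηs * u) * (nGL h i)⁻¹ := by
    rw [conj_xGL h i etas hrel s hs, ← mul_assoc, sq_cast_eq_one _ hηs, one_mul]
  have e2 : xGL h (D.reflectRoot i r) t = nGL h i * xGL h r (ηr * t) * (nGL h i)⁻¹ := by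
    rw [conj_xGL h i etas hrel r hr, ← mul_assoc, sq_cast_eq_one _ hηr, one_mul]
  have hw : ∀ x ∈ D.commWord F r s (ηr * t) (ηs * u), x.1 < D.nroots := by
    intro x hx
    unfold ChevalleyDatum.commWord at hx
    obtain ⟨c, hc, rfl⟩ := List.mem_map.mp hx
    exact hlt c hc
  have e3 : wordGL h (D.commWord F (D.reflectRoot i r) (D.reflectRoot i s) t u)
      = nGL h i * wordGL h (D.commWord F r s (ηr * t) (ηs * u)) * (nGL h i)⁻¹ := by
    rw [conj_wordGL h i etas hrel _ hw]
    congr 1
    unfold ChevalleyDatum.commWord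
    rw [hterms, List.map_map, List.map_map]
    apply List.map_congr_left
    intro c _
    simp only [Function.comp]
    congr 1
    push_cast
    ring
  rw [e1, e2, e3]
  have := hP (ηr * t) (ηs * u)
  calc nGL h i * xGL h s (ηs * u) * (nGL h i)⁻¹ * (nGL h i * xGL h r (ηr * t) * (nGL h i)⁻¹)
      = nGL h i * (xGL h s (ηs * u) * xGL h r (ηr * t)) * (nGL h i)⁻¹ := by group
    _ = nGL h i * (xGL h r (ηr * t) * xGL h s (ηs * u)
          * wordGL h (D.commWord F r s (ηr * t) (ηs * u))) * (nGL h i)⁻¹ := by rw [this]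
    _ = _ := by group

/-! ### Induction along the orbit structure -/

/-- table lookup -/
def look (tab : List (List ℕ)) (r s : ℕ) : ℕ := (tab.getD r []).getD s 0

/-- the pair `(r, s)` is obtained from an earlier pair by the reflection coded in `e` -/
def entryStep (D : ChevalleyDatum) (etasAll : List (List ℤ)) (dep : List (List ℕ)) (r s e : ℕ) :
    Prop :=
  (e - 1) % 16 < D.rank ∧ (e - 1) / 16 / D.nroots < D.nroots ∧
    (e - 1) / 16 % D.nroots ≠ (e - 1) / 16 / D.nroots ∧
    (e - 1) / 16 % D.nroots ≠ D.neg ((e - 1) / 16 / D.nroots) ∧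
    look dep ((e - 1) / 16 / D.nroots) ((e - 1) / 16 % D.nroots) < look dep r s ∧
    D.reflectRoot ((e - 1) % 16) ((e - 1) / 16 / D.nroots) = r ∧
    D.reflectRoot ((e - 1) % 16) ((e - 1) / 16 % D.nroots) = s ∧
    stepOK D ((e - 1) % 16) (etasAll.getD ((e - 1) % 16) []) ((e - 1) / 16 / D.nroots)
      ((e - 1) / 16 % D.nroots)

instance (D : ChevalleyDatum) (etasAll : List (List ℤ)) (dep : List (List ℕ)) (r s e : ℕ) :
    Decidable (entryStep D etasAll dep r s e) := by
  unfold entryStep; infer_instance

/-- the certificate entry of the pair `(r, s)` is correct -/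
def entryOK (D : ChevalleyDatum) (etasAll : List (List ℤ)) (par dep : List (List ℕ)) (r s : ℕ) :
    Prop :=
  s = r ∨ s = D.neg r ∨
    (look par r s = 0 ∧ commFullCheck D r s) ∨
    (look par r s ≠ 0 ∧ entryStep D etasAll dep r s (look par r s))

instance (D : ChevalleyDatum) (etasAll : List (List ℤ)) (par dep : List (List ℕ)) (r s : ℕ) :
    Decidable (entryOK D etasAll par dep r s) := by
  unfold entryOK; infer_instance

/-- the certificate entries of a list of roots `r` (all `s`) -/
def entryOKL (D : ChevalleyDatum) (etasAll : List (List ℤ)) (par dep : List (List ℕ))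
    (l : List ℕ) : Prop :=
  ∀ r ∈ l, ∀ s ∈ List.range D.nroots, entryOK D etasAll par dep r s

instance (D : ChevalleyDatum) (etasAll : List (List ℤ)) (par dep : List (List ℕ)) (l : List ℕ) :
    Decidable (entryOKL D etasAll par dep l) := by
  unfold entryOKL; infer_instance

theorem commF_all {D : ChevalleyDatum} (h : Hyp D F) (etasAll : List (List ℤ))
    (hrel : ∀ i, i < D.rank → ConjRel D F i (etasAll.getD i []))
    (par dep : List (List ℕ))
    (hall : ∀ r, r < D.nroots → ∀ s, s < D.nroots → entryOK D etasAll par dep r s) :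
    ∀ (d r s : ℕ), look dep r s = d → r < D.nroots → s < D.nroots → s ≠ r → s ≠ D.neg r →
      CommF h r s := by
  intro d
  induction d using Nat.strong_induction_on with
  | _ d ih =>
    intro r s hd hr hs hsr hsn
    rcases hall r hr s hs with h1 | h1 | ⟨_, h1⟩ | ⟨_, h1⟩
    · exact absurd h1 hsr
    · exact absurd h1 hsn
    · exact commF_of_fullCheck h r s h1
    · obtain ⟨c1, c2, c3, c4, c5, c6, c7, c8⟩ := h1
      have hs0 : (look par r s - 1) / 16 % D.nroots < D.nroots :=
        Nat.mod_lt _ (Nat.lt_of_le_of_lt (Nat.zero_le _) hr)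
      have hP := ih _ (by rw [← hd]; exact c5) _ _ rfl c2 hs0 c3 c4
      have := commF_step h _ _ (hrel _ c1) _ _ c2 hs0 c8 hP
      rwa [c6, c7] at this

theorem comm_formula_of_certificate {D : ChevalleyDatum} (h : Hyp D F) (etasAll : List (List ℤ))
    (hrel : ∀ i, i < D.rank → ConjRel D F i (etasAll.getD i []))
    (par dep : List (List ℕ))
    (hall : ∀ r, r < D.nroots → ∀ s, s < D.nroots → entryOK D etasAll par dep r s)
    (r s : ℕ) (hr : r < D.nroots) (hs : s < D.nroots) (hsr : s ≠ r) (hsn : s ≠ D.neg r) (t u : F) :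
    D.x F s u * D.x F r t = D.x F r t * D.x F s u * D.wordMat F (D.commWord F r s t u) :=
  commF_val h r s (commF_all h etasAll hrel par dep hall _ r s rfl hr hs hsr hsn) t u

end Cfsg.Agent.Lib.Helper6.ChevCommOrbit
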