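import Mathlib
import Cfsg.Agent.Lib.Helper6.ChevWeyl

/-!
# Subgroups containing `N` and some root subgroups (helper6)

A subgroup of the general linear group containing the monomial subgroup `N` and a root subgroup
`X_s` contains `X_{w s}` for every word `w` in the fundamental reflections; together with
single-term commutator relations this shows that such subgroups contain the Chevalley group.
-/

set_option autoImplicit false

namespace Cfsg.Agent.Lib.Helper6.ChevGenN

open Cfsg.Lie Cfsg.Agent.Lib.Helper6.ChevFast Cfsg.Agent.Lib.Helper6.ChevWeyl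

variable {F : Type*} [Field F]

theorem xGL_mem_rootSubgroup {D : ChevalleyDatum} (h : Hyp D F) (r : ℕ) (t : F) :
    xGL h r t ∈ D.rootSubgroup F r :=
  Subgroup.subset_closure ⟨t, rfl⟩

theorem xGL_mul' {D : ChevalleyDatum} (h : Hyp D F) (r : ℕ) (t u : F) :
    xGL h r t * xGL h r u = xGL h r (t + u) :=
  Units.ext (by rw [Units.val_mul, xGL_val, xGL_val, xGL_val, h.add'])

theorem xGL_inv' {D : ChevalleyDatum} (h : Hyp D F) (r : ℕ) (t : F) :
    (xGL h r t)⁻¹ = xGL h r (-t) := by
  rw [inv_eq_iff_mul_eq_one, xGL_mul', add_neg_cancel]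
  exact Units.ext (h.zero' r)

/-- conjugating a root subgroup inside `M` by a word in the `n_p` -/
theorem rootSubgroup_le_of_word {D : ChevalleyDatum} (h : Hyp D F) (M : Subgroup (GL D.Idx F))
    (hN : D.monomialSubgroup F ≤ M) (s : ℕ) (hs : s < D.nroots) (w : List ℕ)
    (hw : ∀ i ∈ w, i < D.rank) (hX : D.rootSubgroup F s ≤ M) :
    D.rootSubgroup F (rho D w s) ≤ M := by
  unfold ChevalleyDatum.rootSubgroup
  rw [Subgroup.closure_le]
  rintro g ⟨t, hg⟩
  obtain ⟨_, η, hη, h3⟩ := conj_word h w hw s hs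
  have hg' : g = wordN h w * xGL h s ((η : F) * t) * (wordN h w)⁻¹ := by
    rw [h3]
    apply Units.ext
    rw [hg, xGL_val]
    congr 1
    rcases hη with rfl | rfl <;> simp
  rw [hg']
  have hn := hN (wordN_mem h w hw)
  exact mul_mem (mul_mem hn (hX (xGL_mem_rootSubgroup h s _))) (inv_mem hn)

/-- a single-term commutator relation with invertible coefficient -/
theorem rootSubgroup_le_of_comm {D : ChevalleyDatum} (h : Hyp D F) (M : Subgroup (GL D.Idx F))
    (a b s : ℕ) (k : ℤ) (hk : (k : F) ≠ 0)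
    (hid : ∀ t u : F, D.x F b u * D.x F a t = D.x F a t * D.x F b u * D.x F s ((k : F) * (t * u)))
    (ha : D.rootSubgroup F a ≤ M) (hb : D.rootSubgroup F b ≤ M) : D.rootSubgroup F s ≤ M := by
  unfold ChevalleyDatum.rootSubgroup
  rw [Subgroup.closure_le]
  rintro g ⟨v, hg⟩
  have hgx : g = xGL h s v := Units.ext hg
  have e : xGL h b 1 * xGL h a ((k : F)⁻¹ * v) = xGL h a ((k : F)⁻¹ * v) * xGL h b 1 * xGL h s v := by
    apply Units.ext
    simp only [Units.val_mul, xGL_val]
    rw [hid ((k : F)⁻¹ * v) 1]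
    congr 2
    field_simp
  have : xGL h s v = (xGL h a ((k : F)⁻¹ * v) * xGL h b 1)⁻¹
      * (xGL h b 1 * xGL h a ((k : F)⁻¹ * v)) := by
    rw [e]; group
  rw [hgx, this]
  have h1 := ha (xGL_mem_rootSubgroup h a ((k : F)⁻¹ * v))
  have h2 := hb (xGL_mem_rootSubgroup h b 1)
  exact mul_mem (inv_mem (mul_mem h1 h2)) (mul_mem h2 h1)

theorem group_le_of_rootSubgroups {D : ChevalleyDatum} (M : Subgroup (GL D.Idx F))
    (hall : ∀ r, r < D.nroots → D.rootSubgroup F r ≤ M) : D.group F ≤ M := by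
  unfold ChevalleyDatum.group
  rw [Subgroup.closure_le]
  rintro g ⟨r, t, hg⟩
  apply hall r.val r.isLt
  apply Subgroup.subset_closure
  refine ⟨t, ?_⟩
  rw [hg]
  unfold ChevalleyDatum.x
  rw [dif_pos r.isLt]

/-! ### Table checks -/

/-- the word `w` sends the root `src` to the root `dst` -/
def reach (D : ChevalleyDatum) (tabs : List (List ℕ)) (src dst : ℕ) (w : List ℕ) : Prop :=
  (∀ i ∈ w, i < D.rank) ∧ src < D.nroots ∧ rhoT (mkTr tabs) w src = dst

instance (D : ChevalleyDatum) (tabs : List (List ℕ)) (src dst : ℕ) (w : List ℕ) :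
    Decidable (reach D tabs src dst w) := by
  unfold reach; infer_instance

theorem rootSubgroup_le_of_reach {D : ChevalleyDatum} (h : Hyp D F) (M : Subgroup (GL D.Idx F))
    (hN : D.monomialSubgroup F ≤ M) (tabs : List (List ℕ)) (hc : reflTabCheck D tabs)
    (src dst : ℕ) (w : List ℕ) (hr : reach D tabs src dst w)
    (hX : D.rootSubgroup F src ≤ M) : D.rootSubgroup F dst ≤ M := by
  obtain ⟨h1, h2, h3⟩ := hr
  have := rootSubgroup_le_of_word h M hN src h2 w h1 hX
  rwa [(rho_eq_rhoT D tabs hc w h1 src h2).1, h3] at this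

end Cfsg.Agent.Lib.Helper6.ChevGenN
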