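import Mathlib
import Cfsg.Agent.Lib.Helper6.ChevGenN
import Cfsg.Agent.Lib.Helper6.ChevPerfect
import Cfsg.Prelude.Def_ChevAutomorphisms

/-!
# Generation of Chevalley groups by `N` and fundamental root subgroups (helper6)

Criteria, in terms of table checks, for a subgroup containing `N` and one or two fundamental
root subgroups to contain the whole Chevalley group.
-/

set_option autoImplicit false

namespace Cfsg.Agent.Lib.Helper6.ChevGenM

open Cfsg.Lie Cfsg.Agent.Lib.Helper6.ChevFast Cfsg.Agent.Lib.Helper6.ChevWeyl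
  Cfsg.Agent.Lib.Helper6.ChevGenN Cfsg.Agent.Lib.Helper6.ChevPerfect

variable {F : Type*} [Field F]

/-- one root length: all roots are reached from one fundamental root -/
def orbitCheck (D : ChevalleyDatum) (tabs : List (List ℕ)) (i0 : ℕ)
    (toBase fromBase : List (List ℕ)) : Prop :=
  (∀ i ∈ List.range D.rank, reach D tabs (D.simple i) (D.simple i0) (toBase.getD i [])) ∧
    (∀ r ∈ List.range D.nroots, reach D tabs (D.simple i0) r (fromBase.getD r []))

instance (D : ChevalleyDatum) (tabs : List (List ℕ)) (i0 : ℕ) (toBase fromBase : List (List ℕ)) :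
    Decidable (orbitCheck D tabs i0 toBase fromBase) := by
  unfold orbitCheck; infer_instance

theorem group_le_of_orbit {D : ChevalleyDatum} (h : Hyp D F) (M : Subgroup (GL D.Idx F))
    (hN : D.monomialSubgroup F ≤ M) (tabs : List (List ℕ)) (hc : reflTabCheck D tabs) (i0 : ℕ)
    (toBase fromBase : List (List ℕ)) (ho : orbitCheck D tabs i0 toBase fromBase)
    (i : ℕ) (hi : i < D.rank) (hX : D.rootSubgroup F (D.simple i) ≤ M) : D.group F ≤ M := by
  obtain ⟨h1, h2⟩ := ho
  have hb : D.rootSubgroup F (D.simple i0) ≤ M :=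
    rootSubgroup_le_of_reach h M hN tabs hc _ _ _ (h1 i (List.mem_range.mpr hi)) hX
  apply group_le_of_rootSubgroups
  intro r hr
  exact rootSubgroup_le_of_reach h M hN tabs hc _ _ _ (h2 r (List.mem_range.mpr hr)) hb

/-- the fundamental roots are linked to the base roots of their length -/
def simpleCheck (D : ChevalleyDatum) (tabs : List (List ℕ)) (i0 j0 : ℕ) (toBase : List (List ℕ)) :
    Prop :=
  ∀ i ∈ List.range D.rank,
    (D.isLong (D.simple i) = false ∧
        reach D tabs (D.simple i) (D.simple i0) (toBase.getD i [])) ∨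
      (D.isLong (D.simple i) = true ∧
        reach D tabs (D.simple i) (D.simple j0) (toBase.getD i []))

instance (D : ChevalleyDatum) (tabs : List (List ℕ)) (i0 j0 : ℕ) (toBase : List (List ℕ)) :
    Decidable (simpleCheck D tabs i0 j0 toBase) := by
  unfold simpleCheck; infer_instance

/-- two root lengths: every root is reached from one of the two base roots -/
def twoOrbitCheck (D : ChevalleyDatum) (tabs : List (List ℕ)) (i0 j0 : ℕ)
    (fromBase : List (List ℕ)) : Prop :=
  ∀ r ∈ List.range D.nroots, reach D tabs (D.simple i0) r (fromBase.getD r []) ∨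
    reach D tabs (D.simple j0) r (fromBase.getD r [])

instance (D : ChevalleyDatum) (tabs : List (List ℕ)) (i0 j0 : ℕ) (fromBase : List (List ℕ)) :
    Decidable (twoOrbitCheck D tabs i0 j0 fromBase) := by
  unfold twoOrbitCheck; infer_instance

theorem group_le_of_two_orbits {D : ChevalleyDatum} (h : Hyp D F) (M : Subgroup (GL D.Idx F))
    (hN : D.monomialSubgroup F ≤ M) (tabs : List (List ℕ)) (hc : reflTabCheck D tabs)
    (i0 j0 : ℕ) (toBase fromBase : List (List ℕ)) (h1 : simpleCheck D tabs i0 j0 toBase)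
    (h2 : twoOrbitCheck D tabs i0 j0 fromBase) (i j : ℕ) (hi : i < D.rank) (hj : j < D.rank)
    (hshort : D.isLong (D.simple i) = false) (hlong : D.isLong (D.simple j) = true)
    (hXi : D.rootSubgroup F (D.simple i) ≤ M) (hXj : D.rootSubgroup F (D.simple j) ≤ M) :
    D.group F ≤ M := by
  have hbi : D.rootSubgroup F (D.simple i0) ≤ M := by
    rcases h1 i (List.mem_range.mpr hi) with ⟨_, hr⟩ | ⟨hl, _⟩
    · exact rootSubgroup_le_of_reach h M hN tabs hc _ _ _ hr hXi
    · rw [hshort] at hl; exact absurd hl (by decide)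
  have hbj : D.rootSubgroup F (D.simple j0) ≤ M := by
    rcases h1 j (List.mem_range.mpr hj) with ⟨hl, _⟩ | ⟨_, hr⟩
    · rw [hlong] at hl; exact absurd hl (by decide)
    · exact rootSubgroup_le_of_reach h M hN tabs hc _ _ _ hr hXj
  apply group_le_of_rootSubgroups
  intro r hr
  rcases h2 r (List.mem_range.mpr hr) with hr' | hr'
  · exact rootSubgroup_le_of_reach h M hN tabs hc _ _ _ hr' hbi
  · exact rootSubgroup_le_of_reach h M hN tabs hc _ _ _ hr' hbj

/-- two root lengths: every root is reached from the short base root, or is the sum of two such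
roots with a single-term commutator relation of coefficient `± m` -/
def shortOrbitCheck (D : ChevalleyDatum) (tabs : List (List ℕ)) (i0 : ℕ) (fromBase : List (List ℕ))
    (m : ℤ) (certs : List (ℕ × ℕ × ℤ)) : Prop :=
  ∀ r ∈ List.range D.nroots, reach D tabs (D.simple i0) r (fromBase.getD r []) ∨
    (certCheck D m certs r ∧
      reach D tabs (D.simple i0) (certs.getD r (0, 0, 0)).1
        (fromBase.getD (certs.getD r (0, 0, 0)).1 []) ∧
      reach D tabs (D.simple i0) (certs.getD r (0, 0, 0)).2.1
        (fromBase.getD (certs.getD r (0, 0, 0)).2.1 []))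

instance (D : ChevalleyDatum) (tabs : List (List ℕ)) (i0 : ℕ) (fromBase : List (List ℕ))
    (m : ℤ) (certs : List (ℕ × ℕ × ℤ)) : Decidable (shortOrbitCheck D tabs i0 fromBase m certs) := by
  unfold shortOrbitCheck; infer_instance

theorem group_le_of_short_orbit {D : ChevalleyDatum} (h : Hyp D F) (M : Subgroup (GL D.Idx F))
    (hN : D.monomialSubgroup F ≤ M) (tabs : List (List ℕ)) (hc : reflTabCheck D tabs)
    (i0 j0 : ℕ) (toBase fromBase : List (List ℕ)) (m : ℤ) (hm : (m : F) ≠ 0)
    (certs : List (ℕ × ℕ × ℤ)) (h1 : simpleCheck D tabs i0 j0 toBase)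
    (h2 : shortOrbitCheck D tabs i0 fromBase m certs) (i : ℕ) (hi : i < D.rank)
    (hshort : D.isLong (D.simple i) = false)
    (hXi : D.rootSubgroup F (D.simple i) ≤ M) : D.group F ≤ M := by
  have hbi : D.rootSubgroup F (D.simple i0) ≤ M := by
    rcases h1 i (List.mem_range.mpr hi) with ⟨_, hr⟩ | ⟨hl, _⟩
    · exact rootSubgroup_le_of_reach h M hN tabs hc _ _ _ hr hXi
    · rw [hshort] at hl; exact absurd hl (by decide)
  apply group_le_of_rootSubgroups
  intro r hr
  rcases h2 r (List.mem_range.mpr hr) with hr' | ⟨⟨hk, hcc⟩, ha, hb⟩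
  · exact rootSubgroup_le_of_reach h M hN tabs hc _ _ _ hr' hbi
  · have hXa := rootSubgroup_le_of_reach h M hN tabs hc _ _ _ ha hbi
    have hXb := rootSubgroup_le_of_reach h M hN tabs hc _ _ _ hb hbi
    refine rootSubgroup_le_of_comm h M _ _ r _ ?_ (comm_of_check D _ _ r _ hcc) hXa hXb
    rcases hk with hk | hk <;> rw [hk]
    · exact hm
    · push_cast
      exact neg_ne_zero.mpr hm

end Cfsg.Agent.Lib.Helper6.ChevGenM
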