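import Mathlib
import Cfsg.Agent.Lib.Helper6.ChevWeyl
import Cfsg.Prelude.Def_ChevG2
import Cfsg.Prelude.Def_ChevB2
import Cfsg.Prelude.Def_ChevD4
import Cfsg.Prelude.Def_ChevF4
import Cfsg.Prelude.Def_ChevE6
import Cfsg.Prelude.Def_ChevE7
import Cfsg.Prelude.Def_ChevE8

/-!
# Words for the longest Weyl group elements (helper6)

Generated tables of the fundamental reflections, words for the longest element, and the kernel
checks that these words send the positive roots onto the negative roots.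
-/

set_option autoImplicit false

namespace Cfsg.Agent.Lib.Helper6.ChevW0

open Cfsg.Lie Cfsg.Agent.Lib.Helper6.ChevWeyl

/-- a word for the longest element, type G2 -/
def w0G2 : List ℕ := [1, 0, 1, 0, 1, 0]

/-- the tables of the fundamental reflections, type G2 -/
def rtG2 : List (List ℕ) := [[0, 5, 3, 2, 7, 1, 10, 4, 9, 8, 6, 11], [1, 0, 2, 4, 3, 6, 5, 8, 7, 9, 11, 10]]

set_option maxHeartbeats 0 in
set_option maxRecDepth 100000 in
theorem checkA_G2 : w0CheckA chevG2 w0G2 := by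
  decide +kernel

set_option maxHeartbeats 0 in
set_option maxRecDepth 100000 in
theorem rcheck_G2_0 : reflTabCheckI chevG2 rtG2 0 := by
  decide +kernel

set_option maxHeartbeats 0 in
set_option maxRecDepth 100000 in
theorem rcheck_G2_1 : reflTabCheckI chevG2 rtG2 1 := by
  decide +kernel

theorem rcheck_G2 : reflTabCheck chevG2 rtG2 := by
  intro i hi
  have hi' : i < 2 := List.mem_range.mp hi
  interval_cases i
  · exact rcheck_G2_0
  · exact rcheck_G2_1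

set_option maxHeartbeats 0 in
set_option maxRecDepth 100000 in
theorem checkC_G2 : w0CheckC chevG2 rtG2 w0G2 := by
  decide +kernel

set_option maxHeartbeats 0 in
set_option maxRecDepth 100000 in
theorem checkD_G2 : w0CheckD chevG2 rtG2 w0G2 := by
  decide +kernel

/-- a word for the longest element, type B2 -/
def w0B2 : List ℕ := [1, 0, 1, 0]

/-- the tables of the fundamental reflections, type B2 -/
def rtB2 : List (List ℕ) := [[3, 1, 5, 0, 7, 2, 6, 4], [0, 2, 1, 4, 3, 6, 5, 7]]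

set_option maxHeartbeats 0 in
set_option maxRecDepth 100000 in
theorem checkA_B2 : w0CheckA chevB2 w0B2 := by
  decide +kernel

set_option maxHeartbeats 0 in
set_option maxRecDepth 100000 in
theorem rcheck_B2_0 : reflTabCheckI chevB2 rtB2 0 := by
  decide +kernel

set_option maxHeartbeats 0 in
set_option maxRecDepth 100000 in
theorem rcheck_B2_1 : reflTabCheckI chevB2 rtB2 1 := by
  decide +kernel

theorem rcheck_B2 : reflTabCheck chevB2 rtB2 := by
  intro i hi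
  have hi' : i < 2 := List.mem_range.mp hi
  interval_cases i
  · exact rcheck_B2_0
  · exact rcheck_B2_1

set_option maxHeartbeats 0 in
set_option maxRecDepth 100000 in
theorem checkC_B2 : w0CheckC chevB2 rtB2 w0B2 := by
  decide +kernel

set_option maxHeartbeats 0 in
set_option maxRecDepth 100000 in
theorem checkD_B2 : w0CheckD chevB2 rtB2 w0B2 := by
  decide +kernel

/-- a word for the longest element, type D4 -/
def w0D4 : List ℕ := [3, 1, 2, 0, 1, 3, 0, 1, 2, 0, 1, 0]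

/-- the tables of the fundamental reflections, type D4 -/
def rtD4 : List (List ℕ) := [[0, 6, 7, 8, 9, 18, 1, 2, 3, 4, 10, 11, 12, 13, 19, 20, 21, 22, 5, 14, 15, 16, 17, 23], [1, 0, 2, 3, 5, 4, 6, 10, 11, 14, 7, 8, 15, 16, 9, 12, 13, 17, 19, 18, 20, 21, 23, 22], [0, 3, 4, 1, 2, 5, 8, 9, 6, 7, 13, 11, 12, 10, 16, 17, 14, 15, 18, 21, 22, 19, 20, 23], [0, 2, 1, 4, 3, 5, 7, 6, 9, 8, 10, 12, 11, 13, 15, 14, 17, 16, 18, 20, 19, 22, 21, 23]]

set_option maxHeartbeats 0 in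
set_option maxRecDepth 100000 in
theorem checkA_D4 : w0CheckA chevD4 w0D4 := by
  decide +kernel

set_option maxHeartbeats 0 in
set_option maxRecDepth 100000 in
theorem rcheck_D4_0 : reflTabCheckI chevD4 rtD4 0 := by
  decide +kernel

set_option maxHeartbeats 0 in
set_option maxRecDepth 100000 in
theorem rcheck_D4_1 : reflTabCheckI chevD4 rtD4 1 := by
  decide +kernel

set_option maxHeartbeats 0 in
set_option maxRecDepth 100000 in
theorem rcheck_D4_2 : reflTabCheckI chevD4 rtD4 2 := by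
  decide +kernel

set_option maxHeartbeats 0 in
set_option maxRecDepth 100000 in
theorem rcheck_D4_3 : reflTabCheckI chevD4 rtD4 3 := by
  decide +kernel

theorem rcheck_D4 : reflTabCheck chevD4 rtD4 := by
  intro i hi
  have hi' : i < 4 := List.mem_range.mp hi
  interval_cases i
  · exact rcheck_D4_0
  · exact rcheck_D4_1
  · exact rcheck_D4_2
  · exact rcheck_D4_3

set_option maxHeartbeats 0 in
set_option maxRecDepth 100000 in
theorem checkC_D4 : w0CheckC chevD4 rtD4 w0D4 := by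
  decide +kernel

set_option maxHeartbeats 0 in
set_option maxRecDepth 100000 in
theorem checkD_D4 : w0CheckD chevD4 rtD4 w0D4 := by
  decide +kernel

/-- a word for the longest element, type F4 -/
def w0F4 : List ℕ := [3, 2, 1, 2, 0, 1, 2, 3, 2, 1, 2, 0, 1, 2, 3, 2, 1, 2, 0, 1, 2, 0, 1, 0]

/-- the tables of the fundamental reflections, type F4 -/
def rtF4 : List (List ℕ) := [[0, 1, 2, 7, 15, 16, 17, 3, 8, 9, 10, 18, 19, 20, 33, 4, 5, 6, 11, 12, 13, 21, 22, 23, 24, 25, 26, 34, 35, 36, 41, 42, 43, 14, 27, 28, 29, 37, 38, 39, 44, 30, 31, 32, 40, 45, 46, 47], [0, 1, 4, 3, 2, 5, 6, 8, 7, 11, 12, 9, 10, 14, 13, 15, 21, 22, 18, 19, 27, 16, 17, 23, 24, 30, 31, 20, 28, 29, 25, 26, 32, 34, 33, 37, 38, 35, 36, 40, 39, 41, 42, 45, 44, 43, 46, 47], [0, 2, 1, 3, 5, 4, 6, 7, 9, 8, 10, 11, 13, 12, 14, 16, 15, 17, 18, 20, 19, 23, 25, 21, 26, 22, 24, 28, 27, 29, 30, 32, 31, 33, 35, 34, 36, 37, 39, 38, 40, 41, 43, 42, 44, 46,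 45, 47], [1, 0, 2, 3, 4, 6, 5, 7, 8, 10, 9, 12, 11, 13, 14, 15, 17, 16, 19, 18, 20, 22, 21, 24, 23, 26, 25, 27, 29, 28, 31, 30, 32, 33, 34, 36, 35, 38, 37, 39, 40, 42, 41, 43, 44, 45, 47, 46]]

set_option maxHeartbeats 0 in
set_option maxRecDepth 100000 in
theorem checkA_F4 : w0CheckA chevF4 w0F4 := by
  decide +kernel

set_option maxHeartbeats 0 in
set_option maxRecDepth 100000 in
theorem rcheck_F4_0 : reflTabCheckI chevF4 rtF4 0 := by
  decide +kernel

set_option maxHeartbeats 0 in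
set_option maxRecDepth 100000 in
theorem rcheck_F4_1 : reflTabCheckI chevF4 rtF4 1 := by
  decide +kernel

set_option maxHeartbeats 0 in
set_option maxRecDepth 100000 in
theorem rcheck_F4_2 : reflTabCheckI chevF4 rtF4 2 := by
  decide +kernel

set_option maxHeartbeats 0 in
set_option maxRecDepth 100000 in
theorem rcheck_F4_3 : reflTabCheckI chevF4 rtF4 3 := by
  decide +kernel

theorem rcheck_F4 : reflTabCheck chevF4 rtF4 := by
  intro i hi
  have hi' : i < 4 := List.mem_range.mp hi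
  interval_cases i
  · exact rcheck_F4_0
  · exact rcheck_F4_1
  · exact rcheck_F4_2
  · exact rcheck_F4_3

set_option maxHeartbeats 0 in
set_option maxRecDepth 100000 in
theorem checkC_F4 : w0CheckC chevF4 rtF4 w0F4 := by
  decide +kernel

set_option maxHeartbeats 0 in
set_option maxRecDepth 100000 in
theorem checkD_F4 : w0CheckD chevF4 rtF4 w0F4 := by
  decide +kernel

/-- a word for the longest element, type E6 -/
def w0E6 : List ℕ := [0, 2, 3, 4, 5, 1, 3, 4, 2, 3, 0, 2, 1, 3, 4, 5, 1, 3, 4, 2, 3, 0, 2, 1, 3, 4, 2, 3, 0, 2, 1, 3, 0, 2, 1, 0]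

/-- the tables of the fundamental reflections, type E6 -/
def rtE6 : List (List ℕ) := [[0, 1, 2, 3, 4, 16, 17, 18, 19, 20, 21, 26, 27, 28, 29, 56, 5, 6, 7, 8, 9, 10, 22, 23, 24, 25, 11, 12, 13, 14, 30, 31, 32, 33, 34, 35, 36, 37, 38, 39, 40, 41, 57, 58, 59, 60, 46, 47, 48, 49, 61, 62, 63, 64, 65, 66, 15, 42, 43, 44, 45, 50, 51, 52, 53, 54, 55, 67, 68, 69, 70, 71], [1, 0, 2, 3, 4, 5, 6, 7, 11, 12, 13, 8, 9, 10, 14, 15, 16, 17, 18, 26, 27, 28, 30, 31, 32, 46, 19, 20, 21, 29, 22, 23, 24, 33, 34, 35, 36, 37, 38, 47, 48, 49, 42, 50, 51, 52, 25, 39, 40, 41, 43, 44, 45, 53, 54, 55, 56, 57, 61, 62, 63, 58, 59, 60, 64, 65, 66, 67, 68, 69, 71, 70], [0, 1, 5, 6, 7, 2, 3, 4, 8, 9, 10, 11, 12, 13, 15, 14, 16, 17, 18, 22, 23, 24, 19, 20, 21, 25, 30, 31, 32, 42, 26, 27, 28, 33, 34, 35, 36, 37, 38, 43, 44, 45, 29, 39, 40, 41, 46, 50, 51, 52, 47, 48, 49, 53, 54, 55, 57, 56, 58, 59, 60, 61, 62, 63, 67, 68, 69, 64, 65, 66, 70,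 71], [0, 2, 1, 3, 4, 5, 8, 9, 6, 7, 10, 11, 12, 14, 13, 15, 16, 19, 20, 17, 18, 21, 22, 23, 25, 24, 26, 27, 29, 28, 33, 34, 39, 30, 31, 35, 36, 40, 41, 32, 37, 38, 43, 42, 44, 45, 47, 46, 48, 49, 50, 53, 54, 51, 52, 55, 56, 58, 57, 59, 60, 61, 64, 65, 62, 63, 66, 67, 68, 70, 69, 71], [0, 1, 3, 2, 4, 6, 5, 7, 8, 10, 9, 11, 13, 12, 14, 15, 17, 16, 18, 19, 21, 20, 22, 24, 23, 25, 26, 28, 27, 29, 30, 32, 31, 35, 37, 33, 38, 34, 36, 40, 39, 41, 42, 44, 43, 45, 46, 48, 47, 49, 51, 50, 52, 53, 55, 54, 56, 57, 59, 58, 60, 62, 61, 63, 64, 66, 65, 67, 69, 68, 70, 71], [0, 1, 2, 4, 3, 5, 7, 6, 9, 8, 10, 12, 11, 13, 14, 15, 16, 18, 17, 20, 19, 21, 23, 22, 24, 25, 27, 26, 28, 29, 31, 30, 32, 34, 33, 36, 35, 38, 37, 39, 41, 40, 42, 43, 45, 44, 46, 47, 49, 48, 50, 52, 51, 54, 53, 55, 56, 57, 58, 60, 59, 61, 63, 62, 65, 64, 66, 68, 67, 69, 70, 71]]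

set_option maxHeartbeats 0 in
set_option maxRecDepth 100000 in
theorem checkA_E6 : w0CheckA chevE6 w0E6 := by
  decide +kernel

set_option maxHeartbeats 0 in
set_option maxRecDepth 100000 in
theorem rcheck_E6_0 : reflTabCheckI chevE6 rtE6 0 := by
  decide +kernel

set_option maxHeartbeats 0 in
set_option maxRecDepth 100000 in
theorem rcheck_E6_1 : reflTabCheckI chevE6 rtE6 1 := by
  decide +kernel

set_option maxHeartbeats 0 in
set_option maxRecDepth 100000 in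
theorem rcheck_E6_2 : reflTabCheckI chevE6 rtE6 2 := by
  decide +kernel

set_option maxHeartbeats 0 in
set_option maxRecDepth 100000 in
theorem rcheck_E6_3 : reflTabCheckI chevE6 rtE6 3 := by
  decide +kernel

set_option maxHeartbeats 0 in
set_option maxRecDepth 100000 in
theorem rcheck_E6_4 : reflTabCheckI chevE6 rtE6 4 := by
  decide +kernel

set_option maxHeartbeats 0 in
set_option maxRecDepth 100000 in
theorem rcheck_E6_5 : reflTabCheckI chevE6 rtE6 5 := by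
  decide +kernel

theorem rcheck_E6 : reflTabCheck chevE6 rtE6 := by
  intro i hi
  have hi' : i < 6 := List.mem_range.mp hi
  interval_cases i
  · exact rcheck_E6_0
  · exact rcheck_E6_1
  · exact rcheck_E6_2
  · exact rcheck_E6_3
  · exact rcheck_E6_4
  · exact rcheck_E6_5

set_option maxHeartbeats 0 in
set_option maxRecDepth 100000 in
theorem checkC_E6 : w0CheckC chevE6 rtE6 w0E6 := by
  decide +kernel

set_option maxHeartbeats 0 in
set_option maxRecDepth 100000 in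
theorem checkD_E6 : w0CheckD chevE6 rtE6 w0E6 := by
  decide +kernel

/-- a word for the longest element, type E7 -/
def w0E7 : List ℕ := [6, 5, 4, 3, 2, 1, 3, 4, 5, 6, 0, 2, 3, 4, 5, 1, 3, 4, 2, 3, 0, 2, 1, 3, 4, 5, 6, 0, 2, 3, 4, 5, 1, 3, 4, 2, 3, 0, 2, 1, 3, 4, 5, 1, 3, 4, 2, 3, 0, 2, 1, 3, 4, 2, 3, 0, 2, 1, 3, 0, 2, 1, 0]

/-- the tables of the fundamental reflections, type E7 -/
def rtE7 : List (List ℕ) := [[1, 0, 2, 3, 4, 5, 6, 7, 8, 9, 10, 11, 12, 13, 14, 15, 16, 33, 34, 35, 36, 37, 38, 39, 40, 41, 42, 48, 49, 50, 51, 52, 93, 17, 18, 19, 20, 21, 22, 23, 24, 25, 26, 43, 44, 45, 46, 47, 27, 28, 29, 30, 31, 53, 54, 55, 56, 57, 58, 59, 60, 61, 62, 63, 64, 65, 66, 67, 68, 69, 70, 71, 72, 94, 95, 96, 97, 98, 78, 79, 80, 81, 82, 99, 100, 101, 102, 103, 104, 105, 106, 107, 108, 32, 73, 74, 75, 76, 77, 83, 84, 85, 86, 87, 88, 89, 90, 91, 92, 109, 110, 111, 112, 113, 114, 115, 116, 117, 118, 119, 120, 121, 122, 123,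 125, 124], [0, 1, 2, 7, 8, 9, 10, 3, 4, 5, 6, 11, 12, 13, 14, 15, 16, 17, 18, 19, 20, 21, 22, 27, 28, 29, 30, 23, 24, 25, 26, 31, 32, 33, 34, 35, 36, 37, 38, 48, 49, 50, 51, 53, 54, 55, 56, 78, 39, 40, 41, 42, 52, 43, 44, 45, 46, 57, 58, 59, 60, 61, 62, 63, 64, 65, 66, 67, 68, 79, 80, 81, 82, 73, 83, 84, 85, 86, 47, 69, 70, 71, 72, 74, 75, 76, 77, 87, 88, 89, 90, 91, 92, 93, 94, 99, 100, 101, 102, 95, 96, 97, 98, 103, 104, 105, 106, 107, 108, 109, 110, 111, 112, 113, 114, 119, 120, 121, 122, 115, 116, 117, 118, 123, 124, 125], [0, 2, 1, 3, 4, 5, 6, 7, 8, 9, 10, 17, 18, 19, 20, 21, 22, 11, 12, 13, 14, 15, 16, 23, 24, 25, 26, 27, 28, 29, 30, 32, 31, 33, 34, 35, 36, 37, 38, 43, 44, 45, 46, 39, 40, 41, 42, 47, 53, 54, 55, 56, 73, 48, 49, 50, 51, 57, 58, 59, 60, 61, 62, 63, 64, 65, 66, 67, 68, 74, 75, 76, 77, 52, 69, 70, 71, 72, 78, 83, 84, 85, 86, 79, 80, 81, 82, 87, 88, 89, 90, 91, 92, 94, 93, 95, 96, 97, 98, 99,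 100, 101, 102, 109, 110, 111, 112, 113, 114, 103, 104, 105, 106, 107, 108, 115, 116, 117, 118, 119, 120, 121, 122, 124, 123, 125], [0, 1, 3, 2, 4, 5, 6, 7, 11, 12, 13, 8, 9, 10, 14, 15, 16, 17, 18, 19, 23, 24, 25, 20, 21, 22, 26, 27, 28, 29, 31, 30, 32, 33, 34, 35, 39, 40, 41, 36, 37, 38, 42, 43, 44, 45, 47, 46, 48, 49, 50, 52, 51, 57, 58, 59, 69, 53, 54, 55, 60, 61, 62, 63, 64, 65, 70, 71, 72, 56, 66, 67, 68, 74, 73, 75, 76, 77, 79, 78, 80, 81, 82, 83, 87, 88, 89, 84, 85, 86, 90, 91, 92, 93, 95, 94, 96, 97, 98, 99, 103, 104, 105, 100, 101, 102, 106, 107, 108, 109, 110, 111, 115, 116, 117, 112, 113, 114, 118, 119, 120, 121, 123, 122, 124, 125], [0, 1, 2, 4, 3, 5, 6, 8, 7, 9, 10, 11, 14, 15, 12, 13, 16, 17, 20, 21, 18, 19, 22, 23, 24, 26, 25, 27, 28, 30, 29, 31, 32, 33, 36, 37, 34, 35, 38, 39, 40, 42, 41, 43, 44, 46, 45, 47, 48, 49, 51, 50, 52, 53, 54, 56, 55, 60, 61, 66, 57, 58, 62, 63, 67, 68, 59, 64, 65, 70,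 69, 71, 72, 73, 75, 74, 76, 77, 78, 80, 79, 81, 82, 84, 83, 85, 86, 87, 90, 91, 88, 89, 92, 93, 94, 96, 95, 97, 98, 100, 99, 101, 102, 103, 106, 107, 104, 105, 108, 109, 112, 113, 110, 111, 114, 115, 116, 118, 117, 119, 120, 122, 121, 123, 124, 125], [0, 1, 2, 3, 5, 4, 6, 7, 9, 8, 10, 12, 11, 13, 14, 16, 15, 18, 17, 19, 20, 22, 21, 23, 25, 24, 26, 27, 29, 28, 30, 31, 32, 34, 33, 35, 36, 38, 37, 39, 41, 40, 42, 43, 45, 44, 46, 47, 48, 50, 49, 51, 52, 53, 55, 54, 56, 57, 59, 58, 62, 64, 60, 65, 61, 63, 67, 66, 68, 69, 71, 70, 72, 73, 74, 76, 75, 77, 78, 79, 81, 80, 82, 83, 85, 84, 86, 88, 87, 89, 90, 92, 91, 93, 94, 95, 97, 96, 98, 99, 101, 100, 102, 104, 103, 105, 106, 108, 107, 110, 109, 111, 112, 114, 113, 115, 117, 116, 118, 119, 121, 120, 122, 123, 124, 125], [0, 1, 2, 3, 4, 6, 5, 7, 8, 10, 9, 11, 13, 12, 15, 14, 16, 17, 19, 18, 21, 20, 22, 24, 23, 25, 26, 28, 27, 29, 30, 31, 32, 33, 35, 34, 37, 36, 38, 40,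 39, 41, 42, 44, 43, 45, 46, 47, 49, 48, 50, 51, 52, 54, 53, 55, 56, 58, 57, 59, 61, 60, 63, 62, 65, 64, 66, 68, 67, 69, 70, 72, 71, 73, 74, 75, 77, 76, 78, 79, 80, 82, 81, 83, 84, 86, 85, 87, 89, 88, 91, 90, 92, 93, 94, 95, 96, 98, 97, 99, 100, 102, 101, 103, 105, 104, 107, 106, 108, 109, 111, 110, 113, 112, 114, 116, 115, 117, 118, 120, 119, 121, 122, 123, 124, 125]]

set_option maxHeartbeats 0 in
set_option maxRecDepth 100000 in
theorem checkA_E7 : w0CheckA chevE7 w0E7 := by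
  decide +kernel

set_option maxHeartbeats 0 in
set_option maxRecDepth 100000 in
theorem rcheck_E7_0 : reflTabCheckI chevE7 rtE7 0 := by
  decide +kernel

set_option maxHeartbeats 0 in
set_option maxRecDepth 100000 in
theorem rcheck_E7_1 : reflTabCheckI chevE7 rtE7 1 := by
  decide +kernel

set_option maxHeartbeats 0 in
set_option maxRecDepth 100000 in
theorem rcheck_E7_2 : reflTabCheckI chevE7 rtE7 2 := by
  decide +kernel

set_option maxHeartbeats 0 in
set_option maxRecDepth 100000 in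
theorem rcheck_E7_3 : reflTabCheckI chevE7 rtE7 3 := by
  decide +kernel

set_option maxHeartbeats 0 in
set_option maxRecDepth 100000 in
theorem rcheck_E7_4 : reflTabCheckI chevE7 rtE7 4 := by
  decide +kernel

set_option maxHeartbeats 0 in
set_option maxRecDepth 100000 in
theorem rcheck_E7_5 : reflTabCheckI chevE7 rtE7 5 := by
  decide +kernel

set_option maxHeartbeats 0 in
set_option maxRecDepth 100000 in
theorem rcheck_E7_6 : reflTabCheckI chevE7 rtE7 6 := by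
  decide +kernel

theorem rcheck_E7 : reflTabCheck chevE7 rtE7 := by
  intro i hi
  have hi' : i < 7 := List.mem_range.mp hi
  interval_cases i
  · exact rcheck_E7_0
  · exact rcheck_E7_1
  · exact rcheck_E7_2
  · exact rcheck_E7_3
  · exact rcheck_E7_4
  · exact rcheck_E7_5
  · exact rcheck_E7_6

set_option maxHeartbeats 0 in
set_option maxRecDepth 100000 in
theorem checkC_E7 : w0CheckC chevE7 rtE7 w0E7 := by
  decide +kernel

set_option maxHeartbeats 0 in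
set_option maxRecDepth 100000 in
theorem checkD_E7 : w0CheckD chevE7 rtE7 w0E7 := by
  decide +kernel

/-- a word for the longest element, type E8 -/
def w0E8 : List ℕ := [7, 6, 5, 4, 3, 2, 1, 3, 4, 5, 6, 0, 2, 3, 4, 5, 1, 3, 4, 2, 3, 0, 2, 1, 3, 4, 5, 6, 7, 6, 5, 4, 3, 2, 1, 3, 4, 5, 6, 0, 2, 3, 4, 5, 1, 3, 4, 2, 3, 0, 2, 1, 3, 4, 5, 6, 7, 6, 5, 4, 3, 2, 1, 3, 4, 5, 6, 0, 2, 3, 4, 5, 1, 3, 4, 2, 3, 0, 2, 1, 3, 4, 5, 6, 0, 2, 3, 4, 5, 1, 3, 4, 2, 3, 0, 2, 1, 3, 4, 5, 1, 3, 4, 2, 3, 0, 2, 1, 3, 4, 2, 3, 0, 2, 1, 3, 0, 2, 1, 0]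

/-- the tables of the fundamental reflections, type E8 -/
def rtE8 : List (List ℕ) := [[0, 1, 2, 3, 4, 5, 14, 7, 15, 16, 17, 18, 19, 20, 6, 8, 9, 10, 11, 12, 13, 21, 22, 23, 24, 25, 26, 27, 28, 29, 30, 31, 32, 33, 34, 35, 36, 37, 38, 39, 40, 41, 42, 43, 44, 45, 46, 47, 48, 49, 50, 51, 52, 53, 54, 55, 78, 79, 80, 81, 82, 83, 84, 85, 86, 87, 88, 89, 90, 91, 92, 99, 100, 101, 102, 103, 104, 162, 56, 57, 58, 59, 60, 61, 62, 63, 64, 65, 66, 67, 68, 69, 70, 93, 94, 95, 96, 97, 98, 71, 72, 73, 74, 75, 76, 105, 106, 107, 108, 109, 110, 111, 112, 113, 114, 115, 116, 117, 118, 119, 120, 121, 122, 123, 124, 125, 126, 127, 128, 129, 130, 131, 132, 133, 134, 163, 164, 165, 166, 167, 168, 141, 142, 143, 144, 145, 146, 169, 170, 171, 172, 173, 174, 175, 176, 177, 178, 179, 180, 181, 182, 183, 77, 135, 136, 137, 138, 139, 140, 147, 148, 149, 150, 151, 152, 153, 154, 155, 156, 157, 158, 159, 160, 161, 184, 185, 186, 187, 188,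 189, 190, 191, 192, 193, 194, 195, 196, 197, 198, 199, 200, 201, 202, 203, 204, 205, 206, 207, 208, 209, 210, 211, 212, 213, 214, 215, 216, 217, 218, 226, 227, 228, 229, 230, 231, 233, 219, 220, 221, 222, 223, 224, 232, 225, 234, 235, 236, 237, 238, 239], [0, 1, 2, 3, 4, 7, 8, 5, 6, 9, 10, 11, 12, 13, 15, 14, 16, 17, 18, 19, 20, 21, 22, 23, 24, 25, 36, 37, 38, 39, 40, 41, 42, 43, 44, 45, 26, 27, 28, 29, 30, 31, 32, 33, 34, 35, 46, 47, 48, 49, 50, 51, 52, 53, 54, 55, 56, 57, 58, 59, 60, 61, 62, 63, 64, 65, 71, 72, 73, 74, 75, 66, 67, 68, 69, 70, 76, 77, 78, 79, 80, 81, 82, 83, 84, 85, 86, 87, 99, 100, 101, 102, 103, 105, 106, 107, 108, 109, 141, 88, 89, 90, 91, 92, 104, 93, 94, 95, 96, 97, 110, 111, 112, 113, 114, 115, 116, 117, 118, 119, 120, 121, 122, 123, 124, 125, 126, 127, 128, 129, 142, 143, 144, 145, 146, 135, 147, 148, 149, 150, 151, 98, 130, 131, 132, 133, 134, 136, 137, 138, 139, 140, 152, 153, 154, 155,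 156, 157, 158, 159, 160, 161, 162, 163, 169, 170, 171, 172, 173, 164, 165, 166, 167, 168, 174, 175, 176, 177, 178, 179, 180, 181, 182, 183, 184, 185, 186, 187, 188, 189, 190, 191, 192, 193, 204, 205, 206, 207, 208, 209, 210, 211, 212, 213, 194, 195, 196, 197, 198, 199, 200, 201, 202, 203, 214, 215, 216, 217, 218, 219, 220, 221, 222, 223, 225, 224, 226, 227, 228, 229, 230, 233, 234, 231, 232, 235, 236, 237, 238, 239], [0, 1, 2, 3, 4, 6, 5, 8, 7, 9, 10, 11, 12, 13, 14, 15, 21, 22, 23, 24, 25, 16, 17, 18, 19, 20, 26, 27, 28, 29, 30, 31, 32, 33, 34, 35, 36, 37, 38, 39, 40, 41, 42, 43, 44, 45, 56, 57, 58, 59, 60, 61, 62, 63, 64, 65, 46, 47, 48, 49, 50, 51, 52, 53, 54, 55, 66, 67, 68, 69, 70, 71, 72, 73, 74, 75, 77, 76, 78, 79, 80, 81, 82, 83, 84, 85, 86, 87, 93, 94, 95, 96, 97, 88, 89, 90, 91, 92, 98, 105, 106, 107, 108, 109, 135, 99, 100, 101, 102, 103, 110, 111, 112, 113, 114, 115, 116, 117, 118, 119, 120, 121, 122,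 123, 124, 125, 126, 127, 128, 129, 136, 137, 138, 139, 140, 104, 130, 131, 132, 133, 134, 141, 147, 148, 149, 150, 151, 142, 143, 144, 145, 146, 152, 153, 154, 155, 156, 157, 158, 159, 160, 161, 163, 162, 164, 165, 166, 167, 168, 169, 170, 171, 172, 173, 184, 185, 186, 187, 188, 189, 190, 191, 192, 193, 174, 175, 176, 177, 178, 179, 180, 181, 182, 183, 194, 195, 196, 197, 198, 199, 200, 201, 202, 203, 204, 205, 206, 207, 208, 209, 210, 211, 212, 213, 219, 220, 221, 222, 223, 214, 215, 216, 217, 218, 224, 225, 226, 227, 228, 229, 230, 232, 231, 234, 233, 235, 236, 237, 238, 239], [0, 1, 2, 3, 5, 4, 6, 7, 9, 8, 10, 11, 12, 13, 14, 16, 15, 17, 18, 19, 20, 21, 26, 27, 28, 29, 22, 23, 24, 25, 30, 31, 32, 33, 34, 35, 36, 37, 38, 39, 46, 47, 48, 49, 50, 51, 40, 41, 42, 43, 44, 45, 52, 53, 54, 55, 56, 57, 58, 59, 60, 61, 66, 67, 68, 69, 62, 63, 64, 65, 70, 71, 72, 73, 74, 76, 75, 77, 78, 79, 80, 81, 82, 83, 88, 89, 90,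 91, 84, 85, 86, 87, 92, 93, 94, 95, 96, 98, 97, 99, 100, 101, 102, 104, 103, 110, 111, 112, 113, 130, 105, 106, 107, 108, 114, 115, 116, 117, 118, 119, 120, 121, 122, 123, 124, 125, 131, 132, 133, 134, 109, 126, 127, 128, 129, 136, 135, 137, 138, 139, 140, 142, 141, 143, 144, 145, 146, 147, 152, 153, 154, 155, 148, 149, 150, 151, 156, 157, 158, 159, 160, 161, 162, 164, 163, 165, 166, 167, 168, 169, 174, 175, 176, 177, 170, 171, 172, 173, 178, 179, 180, 181, 182, 183, 184, 185, 186, 187, 194, 195, 196, 197, 198, 199, 188, 189, 190, 191, 192, 193, 200, 201, 202, 203, 204, 205, 206, 207, 208, 209, 214, 215, 216, 217, 210, 211, 212, 213, 218, 219, 220, 221, 222, 224, 223, 225, 226, 227, 228, 229, 231, 230, 232, 233, 235, 234, 236, 237, 238, 239], [0, 1, 2, 4, 3, 5, 6, 7, 8, 10, 9, 11, 12, 13, 14, 15, 17, 16, 18, 19, 20, 22, 21, 23, 24, 25, 26, 30, 31, 32, 27, 28, 29, 33, 34, 35, 36, 40, 41, 42, 37, 38, 39, 43, 44,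 45, 46, 47, 48, 52, 53, 54, 49, 50, 51, 55, 56, 57, 58, 62, 63, 64, 59, 60, 61, 65, 66, 67, 68, 70, 69, 71, 72, 73, 75, 74, 76, 77, 78, 79, 80, 84, 85, 86, 81, 82, 83, 87, 88, 89, 90, 92, 91, 93, 94, 95, 97, 96, 98, 99, 100, 101, 103, 102, 104, 105, 106, 107, 109, 108, 114, 115, 116, 126, 110, 111, 112, 117, 118, 119, 120, 121, 122, 127, 128, 129, 113, 123, 124, 125, 131, 130, 132, 133, 134, 135, 137, 136, 138, 139, 140, 141, 143, 142, 144, 145, 146, 148, 147, 149, 150, 151, 152, 156, 157, 158, 153, 154, 155, 159, 160, 161, 162, 163, 165, 164, 166, 167, 168, 170, 169, 171, 172, 173, 174, 178, 179, 180, 175, 176, 177, 181, 182, 183, 184, 188, 189, 190, 185, 186, 187, 191, 192, 193, 194, 195, 196, 200, 201, 202, 197, 198, 199, 203, 204, 205, 206, 210, 211, 212, 207, 208, 209, 213, 214, 215, 216, 218, 217, 219, 220, 221, 223, 222, 224, 225, 226, 227, 228, 230, 229, 231, 232, 233, 234, 236, 235, 237, 238, 239], [0,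 1, 3, 2, 4, 5, 6, 7, 8, 9, 11, 10, 12, 13, 14, 15, 16, 18, 17, 19, 20, 21, 23, 22, 24, 25, 27, 26, 28, 29, 30, 33, 34, 31, 32, 35, 37, 36, 38, 39, 40, 43, 44, 41, 42, 45, 46, 49, 50, 47, 48, 51, 52, 53, 55, 54, 56, 59, 60, 57, 58, 61, 62, 63, 65, 64, 66, 67, 69, 68, 70, 71, 72, 74, 73, 75, 76, 77, 78, 81, 82, 79, 80, 83, 84, 85, 87, 86, 88, 89, 91, 90, 92, 93, 94, 96, 95, 97, 98, 99, 100, 102, 101, 103, 104, 105, 106, 108, 107, 109, 110, 111, 113, 112, 117, 118, 123, 114, 115, 119, 120, 124, 125, 116, 121, 122, 127, 126, 128, 129, 130, 132, 131, 133, 134, 135, 136, 138, 137, 139, 140, 141, 142, 144, 143, 145, 146, 147, 149, 148, 150, 151, 153, 152, 154, 155, 156, 159, 160, 157, 158, 161, 162, 163, 164, 166, 165, 167, 168, 169, 171, 170, 172, 173, 175, 174, 176, 177, 178, 181, 182, 179, 180, 183, 185, 184, 186, 187, 188, 191, 192, 189, 190, 193, 194, 197, 198, 195, 196, 199, 200, 201, 203, 202, 204, 207, 208, 205,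 206, 209, 210, 211, 213, 212, 214, 215, 217, 216, 218, 219, 220, 222, 221, 223, 224, 225, 226, 227, 229, 228, 230, 231, 232, 233, 234, 235, 237, 236, 238, 239], [0, 2, 1, 3, 4, 5, 6, 7, 8, 9, 10, 12, 11, 13, 14, 15, 16, 17, 19, 18, 20, 21, 22, 24, 23, 25, 26, 28, 27, 29, 31, 30, 32, 33, 35, 34, 36, 38, 37, 39, 41, 40, 42, 43, 45, 44, 47, 46, 48, 49, 51, 50, 52, 54, 53, 55, 57, 56, 58, 59, 61, 60, 62, 64, 63, 65, 66, 68, 67, 69, 70, 71, 73, 72, 74, 75, 76, 77, 79, 78, 80, 81, 83, 82, 84, 86, 85, 87, 88, 90, 89, 91, 92, 93, 95, 94, 96, 97, 98, 99, 101, 100, 102, 103, 104, 105, 107, 106, 108, 109, 110, 112, 111, 113, 114, 116, 115, 119, 121, 117, 122, 118, 120, 124, 123, 125, 126, 128, 127, 129, 130, 131, 133, 132, 134, 135, 136, 137, 139, 138, 140, 141, 142, 143, 145, 144, 146, 147, 148, 150, 149, 151, 152, 154, 153, 155, 157, 156, 158, 159, 161, 160, 162, 163, 164, 165, 167, 166, 168, 169, 170, 172, 171, 173, 174,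 176, 175, 177, 179, 178, 180, 181, 183, 182, 184, 186, 185, 187, 189, 188, 190, 191, 193, 192, 195, 194, 196, 197, 199, 198, 200, 202, 201, 203, 205, 204, 206, 207, 209, 208, 210, 212, 211, 213, 214, 216, 215, 217, 218, 219, 221, 220, 222, 223, 224, 225, 226, 228, 227, 229, 230, 231, 232, 233, 234, 235, 236, 238, 237, 239], [1, 0, 2, 3, 4, 5, 6, 7, 8, 9, 10, 11, 13, 12, 14, 15, 16, 17, 18, 20, 19, 21, 22, 23, 25, 24, 26, 27, 29, 28, 30, 32, 31, 34, 33, 35, 36, 37, 39, 38, 40, 42, 41, 44, 43, 45, 46, 48, 47, 50, 49, 51, 53, 52, 54, 55, 56, 58, 57, 60, 59, 61, 63, 62, 64, 65, 67, 66, 68, 69, 70, 72, 71, 73, 74, 75, 76, 77, 78, 80, 79, 82, 81, 83, 85, 84, 86, 87, 89, 88, 90, 91, 92, 94, 93, 95, 96, 97, 98, 100, 99, 101, 102, 103, 104, 106, 105, 107, 108, 109, 111, 110, 112, 113, 115, 114, 116, 118, 117, 120, 119, 122, 121, 123, 125, 124, 126, 127, 129, 128, 130, 131, 132, 134, 133, 135, 136, 137, 138, 140, 139, 141,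 142, 143, 144, 146, 145, 147, 148, 149, 151, 150, 152, 153, 155, 154, 156, 158, 157, 160, 159, 161, 162, 163, 164, 165, 166, 168, 167, 169, 170, 171, 173, 172, 174, 175, 177, 176, 178, 180, 179, 182, 181, 183, 184, 185, 187, 186, 188, 190, 189, 192, 191, 193, 194, 196, 195, 198, 197, 199, 201, 200, 202, 203, 204, 206, 205, 208, 207, 209, 211, 210, 212, 213, 215, 214, 216, 217, 218, 220, 219, 221, 222, 223, 224, 225, 227, 226, 228, 229, 230, 231, 232, 233, 234, 235, 236, 237, 239, 238]]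

set_option maxHeartbeats 0 in
set_option maxRecDepth 100000 in
theorem checkA_E8 : w0CheckA chevE8 w0E8 := by
  decide +kernel

set_option maxHeartbeats 0 in
set_option maxRecDepth 100000 in
theorem rcheck_E8_0 : reflTabCheckI chevE8 rtE8 0 := by
  decide +kernel

set_option maxHeartbeats 0 in
set_option maxRecDepth 100000 in
theorem rcheck_E8_1 : reflTabCheckI chevE8 rtE8 1 := by
  decide +kernel

set_option maxHeartbeats 0 in
set_option maxRecDepth 100000 in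
theorem rcheck_E8_2 : reflTabCheckI chevE8 rtE8 2 := by
  decide +kernel

set_option maxHeartbeats 0 in
set_option maxRecDepth 100000 in
theorem rcheck_E8_3 : reflTabCheckI chevE8 rtE8 3 := by
  decide +kernel

set_option maxHeartbeats 0 in
set_option maxRecDepth 100000 in
theorem rcheck_E8_4 : reflTabCheckI chevE8 rtE8 4 := by
  decide +kernel

set_option maxHeartbeats 0 in
set_option maxRecDepth 100000 in
theorem rcheck_E8_5 : reflTabCheckI chevE8 rtE8 5 := by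
  decide +kernel

set_option maxHeartbeats 0 in
set_option maxRecDepth 100000 in
theorem rcheck_E8_6 : reflTabCheckI chevE8 rtE8 6 := by
  decide +kernel

set_option maxHeartbeats 0 in
set_option maxRecDepth 100000 in
theorem rcheck_E8_7 : reflTabCheckI chevE8 rtE8 7 := by
  decide +kernel

theorem rcheck_E8 : reflTabCheck chevE8 rtE8 := by
  intro i hi
  have hi' : i < 8 := List.mem_range.mp hi
  interval_cases i
  · exact rcheck_E8_0
  · exact rcheck_E8_1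
  · exact rcheck_E8_2
  · exact rcheck_E8_3
  · exact rcheck_E8_4
  · exact rcheck_E8_5
  · exact rcheck_E8_6
  · exact rcheck_E8_7

set_option maxHeartbeats 0 in
set_option maxRecDepth 100000 in
theorem checkC_E8 : w0CheckC chevE8 rtE8 w0E8 := by
  decide +kernel

set_option maxHeartbeats 0 in
set_option maxRecDepth 100000 in
theorem checkD_E8 : w0CheckD chevE8 rtE8 w0E8 := by
  decide +kernel

end Cfsg.Agent.Lib.Helper6.ChevW0
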