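import Mathlib
import Cfsg.Agent.Lib.Helper6.ChevGenM
import Cfsg.Agent.Lib.Helper6.ChevW0

/-!
# Words linking the roots to the fundamental roots (helper6)

Generated tables and kernel checks: words in the fundamental reflections sending a base
fundamental root to every root of the same length, and single-term commutator relations
expressing the long root elements through short ones.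
-/

set_option autoImplicit false

namespace Cfsg.Agent.Lib.Helper6.ChevGenData

open Cfsg.Lie Cfsg.Agent.Lib.Helper6.ChevWeyl Cfsg.Agent.Lib.Helper6.ChevW0
  Cfsg.Agent.Lib.Helper6.ChevGenM Cfsg.Agent.Lib.Helper6.ChevPerfect

/-- words from the fundamental roots to the base root, type D4 -/
def toBaseD4 : List (List ℕ) :=
  [[], [1, 0], [1, 2, 0, 1], [1, 3, 0, 1]]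

/-- words from the base root to all roots, type D4 -/
def fromBaseD4 : List (List ℕ) :=
  [[1, 3, 2, 1, 0], [3, 2, 1, 0], [2, 1, 0], [3, 1, 0], [1, 0], [0], [3, 2, 0, 1, 0], [2, 0, 1, 0], [3, 0, 1, 0], [0, 1, 0], [1, 2, 0, 1, 0], [1, 3, 0, 1, 0], [1, 3, 0, 1], [1, 2, 0, 1], [0, 1], [3, 0, 1], [2, 0, 1], [3, 2, 0, 1], [], [1], [3, 1], [2, 1], [3, 2, 1], [1, 3, 2, 1]]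

set_option maxHeartbeats 0 in
set_option maxRecDepth 100000 in
theorem orbitD4 : orbitCheck chevD4 rtD4 0 toBaseD4 fromBaseD4 := by
  decide +kernel

/-- words from the fundamental roots to the base root, type E6 -/
def toBaseE6 : List (List ℕ) :=
  [[], [2, 3, 0, 2, 1, 3], [2, 0], [2, 3, 0, 2], [2, 3, 4, 0, 2, 3], [2, 3, 4, 5, 0, 2, 3, 4]]

/-- words from the base root to all roots, type E6 -/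
def fromBaseE6 : List (List ℕ) :=
  [[1, 3, 4, 5, 2, 3, 4, 1, 3, 2, 0], [3, 4, 5, 2, 3, 4, 1, 3, 2, 0], [4, 5, 2, 3, 4, 1, 3, 2, 0], [5, 2, 3, 4, 1, 3, 2, 0], [2, 3, 4, 1, 3, 2, 0], [4, 5, 3, 4, 1, 3, 2, 0], [5, 3, 4, 1, 3, 2, 0], [3, 4, 1, 3, 2, 0], [5, 4, 1, 3, 2, 0], [4, 1, 3, 2, 0], [1, 3, 2, 0], [5, 4, 3, 2, 0], [4, 3, 2, 0], [3, 2, 0], [2, 0], [0], [4, 5, 3, 4, 1, 3, 0, 2, 0], [5, 3, 4, 1, 3, 0, 2, 0], [3, 4, 1, 3, 0, 2, 0], [5, 4, 1, 3, 0, 2, 0], [4, 1, 3, 0, 2, 0], [1, 3, 0, 2, 0], [5, 4, 2, 1, 3, 0, 2, 0], [4, 2, 1, 3, 0, 2, 0], [2, 1, 3, 0, 2, 0], [3, 2, 1, 3, 0, 2, 0], [5, 4, 3, 0, 2, 0], [4, 3, 0, 2, 0], [3, 0, 2, 0], [0, 2, 0], [5, 4, 2, 3, 0, 2, 0], [4, 2, 3, 0, 2, 0], [2, 3, 0, 2, 0], [5, 3, 4, 2,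 3, 0, 2, 0], [3, 4, 2, 3, 0, 2, 0], [4, 5, 3, 4, 2, 3, 0, 2, 0], [4, 5, 3, 4, 2, 3, 0, 2], [3, 4, 2, 3, 0, 2], [5, 3, 4, 2, 3, 0, 2], [2, 3, 0, 2], [4, 2, 3, 0, 2], [5, 4, 2, 3, 0, 2], [0, 2], [3, 0, 2], [4, 3, 0, 2], [5, 4, 3, 0, 2], [3, 2, 1, 3, 0, 2], [2, 1, 3, 0, 2], [4, 2, 1, 3, 0, 2], [5, 4, 2, 1, 3, 0, 2], [1, 3, 0, 2], [4, 1, 3, 0, 2], [5, 4, 1, 3, 0, 2], [3, 4, 1, 3, 0, 2], [5, 3, 4, 1, 3, 0, 2], [4, 5, 3, 4, 1, 3, 0, 2], [], [2], [3, 2], [4, 3, 2], [5, 4, 3, 2], [1, 3, 2], [4, 1, 3, 2], [5, 4, 1, 3, 2], [3, 4, 1, 3, 2], [5, 3, 4, 1, 3, 2], [4, 5, 3, 4, 1, 3, 2], [2, 3, 4, 1, 3, 2], [5, 2, 3, 4, 1, 3, 2], [4, 5, 2, 3, 4, 1, 3, 2], [3, 4, 5, 2, 3, 4, 1, 3, 2], [1, 3, 4, 5, 2, 3, 4, 1, 3, 2]]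

set_option maxHeartbeats 0 in
set_option maxRecDepth 100000 in
theorem orbitE6 : orbitCheck chevE6 rtE6 0 toBaseE6 fromBaseE6 := by
  decide +kernel

/-- words from the fundamental roots to the base root, type E7 -/
def toBaseE7 : List (List ℕ) :=
  [[], [2, 3, 0, 2, 1, 3], [2, 0], [2, 3, 0, 2], [2, 3, 4, 0, 2, 3], [2, 3, 4, 5, 0, 2, 3, 4], [2, 3, 4, 5, 6, 0, 2, 3, 4, 5]]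

/-- words from the base root to all roots, type E7 -/
def fromBaseE7 : List (List ℕ) :=
  [[0, 2, 3, 4, 5, 6, 1, 3, 4, 5, 2, 3, 4, 1, 3, 2, 0], [2, 3, 4, 5, 6, 1, 3, 4, 5, 2, 3, 4, 1, 3, 2, 0], [3, 4, 5, 6, 1, 3, 4, 5, 2, 3, 4, 1, 3, 2, 0], [4, 5, 6, 1, 3, 4, 5, 2, 3, 4, 1, 3, 2, 0], [5, 6, 1, 3, 4, 5, 2, 3, 4, 1, 3, 2, 0], [6, 1, 3, 4, 5, 2, 3, 4, 1, 3, 2, 0], [1, 3, 4, 5, 2, 3, 4, 1, 3, 2, 0], [4, 5, 6, 3, 4, 5, 2, 3, 4, 1, 3, 2, 0], [5, 6, 3, 4, 5, 2, 3, 4, 1, 3, 2, 0], [6, 3, 4, 5, 2, 3, 4, 1, 3, 2, 0], [3, 4, 5, 2, 3, 4, 1, 3, 2, 0], [5, 6, 4, 5, 2, 3, 4, 1, 3, 2, 0], [6, 4, 5, 2, 3, 4, 1, 3, 2, 0], [4, 5, 2, 3, 4, 1, 3, 2, 0], [6, 5, 2, 3, 4, 1, 3, 2, 0], [5, 2, 3, 4, 1, 3, 2, 0], [2, 3, 4, 1, 3, 2, 0], [5,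 6, 4, 5, 3, 4, 1, 3, 2, 0], [6, 4, 5, 3, 4, 1, 3, 2, 0], [4, 5, 3, 4, 1, 3, 2, 0], [6, 5, 3, 4, 1, 3, 2, 0], [5, 3, 4, 1, 3, 2, 0], [3, 4, 1, 3, 2, 0], [6, 5, 4, 1, 3, 2, 0], [5, 4, 1, 3, 2, 0], [4, 1, 3, 2, 0], [1, 3, 2, 0], [6, 5, 4, 3, 2, 0], [5, 4, 3, 2, 0], [4, 3, 2, 0], [3, 2, 0], [2, 0], [0], [5, 6, 4, 5, 3, 4, 1, 3, 0, 2, 0], [6, 4, 5, 3, 4, 1, 3, 0, 2, 0], [4, 5, 3, 4, 1, 3, 0, 2, 0], [6, 5, 3, 4, 1, 3, 0, 2, 0], [5, 3, 4, 1, 3, 0, 2, 0], [3, 4, 1, 3, 0, 2, 0], [6, 5, 4, 1, 3, 0, 2, 0], [5, 4, 1, 3, 0, 2, 0], [4, 1, 3, 0, 2, 0], [1, 3, 0, 2, 0], [6, 5, 4, 2, 1, 3, 0, 2, 0], [5, 4, 2, 1, 3, 0, 2, 0], [4, 2, 1, 3, 0, 2, 0], [2, 1, 3, 0, 2, 0], [3, 2, 1, 3, 0, 2, 0], [6, 5, 4, 3, 0, 2, 0], [5, 4, 3, 0, 2, 0],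 [4, 3, 0, 2, 0], [3, 0, 2, 0], [0, 2, 0], [6, 5, 4, 2, 3, 0, 2, 0], [5, 4, 2, 3, 0, 2, 0], [4, 2, 3, 0, 2, 0], [2, 3, 0, 2, 0], [6, 5, 3, 4, 2, 3, 0, 2, 0], [5, 3, 4, 2, 3, 0, 2, 0], [3, 4, 2, 3, 0, 2, 0], [6, 4, 5, 3, 4, 2, 3, 0, 2, 0], [4, 5, 3, 4, 2, 3, 0, 2, 0], [5, 6, 4, 5, 3, 4, 2, 3, 0, 2, 0], [5, 6, 4, 5, 3, 4, 2, 3, 0, 2], [4, 5, 3, 4, 2, 3, 0, 2], [6, 4, 5, 3, 4, 2, 3, 0, 2], [3, 4, 2, 3, 0, 2], [5, 3, 4, 2, 3, 0, 2], [6, 5, 3, 4, 2, 3, 0, 2], [2, 3, 0, 2], [4, 2, 3, 0, 2], [5, 4, 2, 3, 0, 2], [6, 5, 4, 2, 3, 0, 2], [0, 2], [3, 0, 2], [4, 3, 0, 2], [5, 4, 3, 0, 2], [6, 5, 4, 3, 0, 2], [3, 2, 1, 3, 0, 2], [2, 1, 3, 0, 2], [4, 2, 1, 3, 0, 2], [5, 4, 2, 1, 3, 0, 2], [6, 5, 4, 2, 1, 3, 0, 2], [1, 3, 0, 2],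 [4, 1, 3, 0, 2], [5, 4, 1, 3, 0, 2], [6, 5, 4, 1, 3, 0, 2], [3, 4, 1, 3, 0, 2], [5, 3, 4, 1, 3, 0, 2], [6, 5, 3, 4, 1, 3, 0, 2], [4, 5, 3, 4, 1, 3, 0, 2], [6, 4, 5, 3, 4, 1, 3, 0, 2], [5, 6, 4, 5, 3, 4, 1, 3, 0, 2], [], [2], [3, 2], [4, 3, 2], [5, 4, 3, 2], [6, 5, 4, 3, 2], [1, 3, 2], [4, 1, 3, 2], [5, 4, 1, 3, 2], [6, 5, 4, 1, 3, 2], [3, 4, 1, 3, 2], [5, 3, 4, 1, 3, 2], [6, 5, 3, 4, 1, 3, 2], [4, 5, 3, 4, 1, 3, 2], [6, 4, 5, 3, 4, 1, 3, 2], [5, 6, 4, 5, 3, 4, 1, 3, 2], [2, 3, 4, 1, 3, 2], [5, 2, 3, 4, 1, 3, 2], [6, 5, 2, 3, 4, 1, 3, 2], [4, 5, 2, 3, 4, 1, 3, 2], [6, 4, 5, 2, 3, 4, 1, 3, 2], [5, 6, 4, 5, 2, 3, 4, 1, 3, 2], [3, 4, 5, 2, 3, 4, 1, 3, 2], [6, 3, 4, 5, 2, 3, 4, 1, 3, 2], [5, 6, 3, 4, 5, 2, 3, 4, 1, 3,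 2], [4, 5, 6, 3, 4, 5, 2, 3, 4, 1, 3, 2], [1, 3, 4, 5, 2, 3, 4, 1, 3, 2], [6, 1, 3, 4, 5, 2, 3, 4, 1, 3, 2], [5, 6, 1, 3, 4, 5, 2, 3, 4, 1, 3, 2], [4, 5, 6, 1, 3, 4, 5, 2, 3, 4, 1, 3, 2], [3, 4, 5, 6, 1, 3, 4, 5, 2, 3, 4, 1, 3, 2], [2, 3, 4, 5, 6, 1, 3, 4, 5, 2, 3, 4, 1, 3, 2], [0, 2, 3, 4, 5, 6, 1, 3, 4, 5, 2, 3, 4, 1, 3, 2]]

set_option maxHeartbeats 0 in
set_option maxRecDepth 100000 in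
theorem orbitE7 : orbitCheck chevE7 rtE7 0 toBaseE7 fromBaseE7 := by
  decide +kernel

/-- words from the fundamental roots to the base root, type E8 -/
def toBaseE8 : List (List ℕ) :=
  [[], [2, 3, 0, 2, 1, 3], [2, 0], [2, 3, 0, 2], [2, 3, 4, 0, 2, 3], [2, 3, 4, 5, 0, 2, 3, 4], [2, 3, 4, 5, 6, 0, 2, 3, 4, 5], [2, 3, 4, 5, 6, 7, 0, 2, 3, 4, 5, 6]]

/-- words from the base root to all roots, type E8 -/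
def fromBaseE8 : List (List ℕ) :=
  [[7, 6, 5, 4, 3, 2, 1, 3, 4, 5, 6, 7, 0, 2, 3, 4, 5, 6, 1, 3, 4, 5, 2, 3, 4, 1, 3, 2, 0], [6, 5, 4, 3, 2, 1, 3, 4, 5, 6, 7, 0, 2, 3, 4, 5, 6, 1, 3, 4, 5, 2, 3, 4, 1, 3, 2, 0], [5, 4, 3, 2, 1, 3, 4, 5, 6, 7, 0, 2, 3, 4, 5, 6, 1, 3, 4, 5, 2, 3, 4, 1, 3, 2, 0], [4, 3, 2, 1, 3, 4, 5, 6, 7, 0, 2, 3, 4, 5, 6, 1, 3, 4, 5, 2, 3, 4, 1, 3, 2, 0], [3, 2, 1, 3, 4, 5, 6, 7, 0, 2, 3, 4, 5, 6, 1, 3, 4, 5, 2, 3, 4, 1, 3, 2, 0], [2, 1, 3, 4, 5, 6, 7, 0, 2, 3, 4, 5, 6, 1, 3, 4, 5, 2, 3, 4, 1, 3, 2, 0], [1, 3, 4, 5, 6, 7, 0, 2, 3, 4, 5, 6, 1, 3, 4, 5, 2, 3, 4, 1, 3, 2, 0], [2, 3, 4, 5, 6, 7, 0, 2, 3, 4, 5, 6, 1, 3, 4, 5, 2, 3, 4, 1, 3, 2, 0], [3, 4, 5, 6, 7, 0, 2, 3, 4, 5, 6, 1, 3, 4, 5, 2, 3, 4,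 1, 3, 2, 0], [4, 5, 6, 7, 0, 2, 3, 4, 5, 6, 1, 3, 4, 5, 2, 3, 4, 1, 3, 2, 0], [5, 6, 7, 0, 2, 3, 4, 5, 6, 1, 3, 4, 5, 2, 3, 4, 1, 3, 2, 0], [6, 7, 0, 2, 3, 4, 5, 6, 1, 3, 4, 5, 2, 3, 4, 1, 3, 2, 0], [7, 0, 2, 3, 4, 5, 6, 1, 3, 4, 5, 2, 3, 4, 1, 3, 2, 0], [0, 2, 3, 4, 5, 6, 1, 3, 4, 5, 2, 3, 4, 1, 3, 2, 0], [1, 3, 4, 5, 6, 7, 2, 3, 4, 5, 6, 1, 3, 4, 5, 2, 3, 4, 1, 3, 2, 0], [3, 4, 5, 6, 7, 2, 3, 4, 5, 6, 1, 3, 4, 5, 2, 3, 4, 1, 3, 2, 0], [4, 5, 6, 7, 2, 3, 4, 5, 6, 1, 3, 4, 5, 2, 3, 4, 1, 3, 2, 0], [5, 6, 7, 2, 3, 4, 5, 6, 1, 3, 4, 5, 2, 3, 4, 1, 3, 2, 0], [6, 7, 2, 3, 4, 5, 6, 1, 3, 4, 5, 2, 3, 4, 1, 3, 2, 0], [7, 2, 3, 4, 5, 6, 1, 3, 4, 5, 2, 3, 4, 1, 3, 2, 0], [2, 3, 4, 5, 6, 1, 3, 4, 5, 2, 3, 4, 1, 3, 2, 0], [4,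 5, 6, 7, 3, 4, 5, 6, 1, 3, 4, 5, 2, 3, 4, 1, 3, 2, 0], [5, 6, 7, 3, 4, 5, 6, 1, 3, 4, 5, 2, 3, 4, 1, 3, 2, 0], [6, 7, 3, 4, 5, 6, 1, 3, 4, 5, 2, 3, 4, 1, 3, 2, 0], [7, 3, 4, 5, 6, 1, 3, 4, 5, 2, 3, 4, 1, 3, 2, 0], [3, 4, 5, 6, 1, 3, 4, 5, 2, 3, 4, 1, 3, 2, 0], [5, 6, 7, 4, 5, 6, 1, 3, 4, 5, 2, 3, 4, 1, 3, 2, 0], [6, 7, 4, 5, 6, 1, 3, 4, 5, 2, 3, 4, 1, 3, 2, 0], [7, 4, 5, 6, 1, 3, 4, 5, 2, 3, 4, 1, 3, 2, 0], [4, 5, 6, 1, 3, 4, 5, 2, 3, 4, 1, 3, 2, 0], [6, 7, 5, 6, 1, 3, 4, 5, 2, 3, 4, 1, 3, 2, 0], [7, 5, 6, 1, 3, 4, 5, 2, 3, 4, 1, 3, 2, 0], [5, 6, 1, 3, 4, 5, 2, 3, 4, 1, 3, 2, 0], [7, 6, 1, 3, 4, 5, 2, 3, 4, 1, 3, 2, 0], [6, 1, 3, 4, 5, 2, 3, 4, 1, 3, 2, 0], [1, 3, 4, 5, 2, 3, 4, 1, 3, 2, 0], [5, 6, 7, 4, 5, 6, 3,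 4, 5, 2, 3, 4, 1, 3, 2, 0], [6, 7, 4, 5, 6, 3, 4, 5, 2, 3, 4, 1, 3, 2, 0], [7, 4, 5, 6, 3, 4, 5, 2, 3, 4, 1, 3, 2, 0], [4, 5, 6, 3, 4, 5, 2, 3, 4, 1, 3, 2, 0], [6, 7, 5, 6, 3, 4, 5, 2, 3, 4, 1, 3, 2, 0], [7, 5, 6, 3, 4, 5, 2, 3, 4, 1, 3, 2, 0], [5, 6, 3, 4, 5, 2, 3, 4, 1, 3, 2, 0], [7, 6, 3, 4, 5, 2, 3, 4, 1, 3, 2, 0], [6, 3, 4, 5, 2, 3, 4, 1, 3, 2, 0], [3, 4, 5, 2, 3, 4, 1, 3, 2, 0], [6, 7, 5, 6, 4, 5, 2, 3, 4, 1, 3, 2, 0], [7, 5, 6, 4, 5, 2, 3, 4, 1, 3, 2, 0], [5, 6, 4, 5, 2, 3, 4, 1, 3, 2, 0], [7, 6, 4, 5, 2, 3, 4, 1, 3, 2, 0], [6, 4, 5, 2, 3, 4, 1, 3, 2, 0], [4, 5, 2, 3, 4, 1, 3, 2, 0], [7, 6, 5, 2, 3, 4, 1, 3, 2, 0], [6, 5, 2, 3, 4, 1, 3, 2, 0], [5, 2, 3, 4, 1, 3, 2, 0], [2, 3, 4, 1, 3, 2, 0], [6, 7, 5, 6, 4,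 5, 3, 4, 1, 3, 2, 0], [7, 5, 6, 4, 5, 3, 4, 1, 3, 2, 0], [5, 6, 4, 5, 3, 4, 1, 3, 2, 0], [7, 6, 4, 5, 3, 4, 1, 3, 2, 0], [6, 4, 5, 3, 4, 1, 3, 2, 0], [4, 5, 3, 4, 1, 3, 2, 0], [7, 6, 5, 3, 4, 1, 3, 2, 0], [6, 5, 3, 4, 1, 3, 2, 0], [5, 3, 4, 1, 3, 2, 0], [3, 4, 1, 3, 2, 0], [7, 6, 5, 4, 1, 3, 2, 0], [6, 5, 4, 1, 3, 2, 0], [5, 4, 1, 3, 2, 0], [4, 1, 3, 2, 0], [1, 3, 2, 0], [7, 6, 5, 4, 3, 2, 0], [6, 5, 4, 3, 2, 0], [5, 4, 3, 2, 0], [4, 3, 2, 0], [3, 2, 0], [2, 0], [0], [6, 7, 5, 6, 4, 5, 3, 4, 1, 3, 0, 2, 0], [7, 5, 6, 4, 5, 3, 4, 1, 3, 0, 2, 0], [5, 6, 4, 5, 3, 4, 1, 3, 0, 2, 0], [7, 6, 4, 5, 3, 4, 1, 3, 0, 2, 0], [6, 4, 5, 3, 4, 1, 3, 0, 2, 0], [4, 5, 3, 4, 1, 3, 0, 2, 0], [7, 6, 5, 3, 4, 1, 3, 0, 2, 0], [6, 5, 3,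 4, 1, 3, 0, 2, 0], [5, 3, 4, 1, 3, 0, 2, 0], [3, 4, 1, 3, 0, 2, 0], [7, 6, 5, 4, 1, 3, 0, 2, 0], [6, 5, 4, 1, 3, 0, 2, 0], [5, 4, 1, 3, 0, 2, 0], [4, 1, 3, 0, 2, 0], [1, 3, 0, 2, 0], [7, 6, 5, 4, 2, 1, 3, 0, 2, 0], [6, 5, 4, 2, 1, 3, 0, 2, 0], [5, 4, 2, 1, 3, 0, 2, 0], [4, 2, 1, 3, 0, 2, 0], [2, 1, 3, 0, 2, 0], [3, 2, 1, 3, 0, 2, 0], [7, 6, 5, 4, 3, 0, 2, 0], [6, 5, 4, 3, 0, 2, 0], [5, 4, 3, 0, 2, 0], [4, 3, 0, 2, 0], [3, 0, 2, 0], [0, 2, 0], [7, 6, 5, 4, 2, 3, 0, 2, 0], [6, 5, 4, 2, 3, 0, 2, 0], [5, 4, 2, 3, 0, 2, 0], [4, 2, 3, 0, 2, 0], [2, 3, 0, 2, 0], [7, 6, 5, 3, 4, 2, 3, 0, 2, 0], [6, 5, 3, 4, 2, 3, 0, 2, 0], [5, 3, 4, 2, 3, 0, 2, 0], [3, 4, 2, 3, 0, 2, 0], [7, 6, 4, 5, 3, 4, 2, 3, 0, 2, 0], [6, 4, 5, 3, 4,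 2, 3, 0, 2, 0], [4, 5, 3, 4, 2, 3, 0, 2, 0], [7, 5, 6, 4, 5, 3, 4, 2, 3, 0, 2, 0], [5, 6, 4, 5, 3, 4, 2, 3, 0, 2, 0], [6, 7, 5, 6, 4, 5, 3, 4, 2, 3, 0, 2, 0], [6, 7, 5, 6, 4, 5, 3, 4, 2, 3, 0, 2], [5, 6, 4, 5, 3, 4, 2, 3, 0, 2], [7, 5, 6, 4, 5, 3, 4, 2, 3, 0, 2], [4, 5, 3, 4, 2, 3, 0, 2], [6, 4, 5, 3, 4, 2, 3, 0, 2], [7, 6, 4, 5, 3, 4, 2, 3, 0, 2], [3, 4, 2, 3, 0, 2], [5, 3, 4, 2, 3, 0, 2], [6, 5, 3, 4, 2, 3, 0, 2], [7, 6, 5, 3, 4, 2, 3, 0, 2], [2, 3, 0, 2], [4, 2, 3, 0, 2], [5, 4, 2, 3, 0, 2], [6, 5, 4, 2, 3, 0, 2], [7, 6, 5, 4, 2, 3, 0, 2], [0, 2], [3, 0, 2], [4, 3, 0, 2], [5, 4, 3, 0, 2], [6, 5, 4, 3, 0, 2], [7, 6, 5, 4, 3, 0, 2], [3, 2, 1, 3, 0, 2], [2, 1, 3, 0, 2], [4, 2, 1, 3, 0, 2], [5, 4, 2, 1, 3, 0, 2],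 [6, 5, 4, 2, 1, 3, 0, 2], [7, 6, 5, 4, 2, 1, 3, 0, 2], [1, 3, 0, 2], [4, 1, 3, 0, 2], [5, 4, 1, 3, 0, 2], [6, 5, 4, 1, 3, 0, 2], [7, 6, 5, 4, 1, 3, 0, 2], [3, 4, 1, 3, 0, 2], [5, 3, 4, 1, 3, 0, 2], [6, 5, 3, 4, 1, 3, 0, 2], [7, 6, 5, 3, 4, 1, 3, 0, 2], [4, 5, 3, 4, 1, 3, 0, 2], [6, 4, 5, 3, 4, 1, 3, 0, 2], [7, 6, 4, 5, 3, 4, 1, 3, 0, 2], [5, 6, 4, 5, 3, 4, 1, 3, 0, 2], [7, 5, 6, 4, 5, 3, 4, 1, 3, 0, 2], [6, 7, 5, 6, 4, 5, 3, 4, 1, 3, 0, 2], [], [2], [3, 2], [4, 3, 2], [5, 4, 3, 2], [6, 5, 4, 3, 2], [7, 6, 5, 4, 3, 2], [1, 3, 2], [4, 1, 3, 2], [5, 4, 1, 3, 2], [6, 5, 4, 1, 3, 2], [7, 6, 5, 4, 1, 3, 2], [3, 4, 1, 3, 2], [5, 3, 4, 1, 3, 2], [6, 5, 3, 4, 1, 3, 2], [7, 6, 5, 3, 4, 1, 3, 2], [4, 5, 3, 4, 1, 3, 2], [6,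 4, 5, 3, 4, 1, 3, 2], [7, 6, 4, 5, 3, 4, 1, 3, 2], [5, 6, 4, 5, 3, 4, 1, 3, 2], [7, 5, 6, 4, 5, 3, 4, 1, 3, 2], [6, 7, 5, 6, 4, 5, 3, 4, 1, 3, 2], [2, 3, 4, 1, 3, 2], [5, 2, 3, 4, 1, 3, 2], [6, 5, 2, 3, 4, 1, 3, 2], [7, 6, 5, 2, 3, 4, 1, 3, 2], [4, 5, 2, 3, 4, 1, 3, 2], [6, 4, 5, 2, 3, 4, 1, 3, 2], [7, 6, 4, 5, 2, 3, 4, 1, 3, 2], [5, 6, 4, 5, 2, 3, 4, 1, 3, 2], [7, 5, 6, 4, 5, 2, 3, 4, 1, 3, 2], [6, 7, 5, 6, 4, 5, 2, 3, 4, 1, 3, 2], [3, 4, 5, 2, 3, 4, 1, 3, 2], [6, 3, 4, 5, 2, 3, 4, 1, 3, 2], [7, 6, 3, 4, 5, 2, 3, 4, 1, 3, 2], [5, 6, 3, 4, 5, 2, 3, 4, 1, 3, 2], [7, 5, 6, 3, 4, 5, 2, 3, 4, 1, 3, 2], [6, 7, 5, 6, 3, 4, 5, 2, 3, 4, 1, 3, 2], [4, 5, 6, 3, 4, 5, 2, 3, 4, 1, 3, 2], [7, 4, 5, 6, 3, 4, 5, 2, 3, 4, 1, 3,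 2], [6, 7, 4, 5, 6, 3, 4, 5, 2, 3, 4, 1, 3, 2], [5, 6, 7, 4, 5, 6, 3, 4, 5, 2, 3, 4, 1, 3, 2], [1, 3, 4, 5, 2, 3, 4, 1, 3, 2], [6, 1, 3, 4, 5, 2, 3, 4, 1, 3, 2], [7, 6, 1, 3, 4, 5, 2, 3, 4, 1, 3, 2], [5, 6, 1, 3, 4, 5, 2, 3, 4, 1, 3, 2], [7, 5, 6, 1, 3, 4, 5, 2, 3, 4, 1, 3, 2], [6, 7, 5, 6, 1, 3, 4, 5, 2, 3, 4, 1, 3, 2], [4, 5, 6, 1, 3, 4, 5, 2, 3, 4, 1, 3, 2], [7, 4, 5, 6, 1, 3, 4, 5, 2, 3, 4, 1, 3, 2], [6, 7, 4, 5, 6, 1, 3, 4, 5, 2, 3, 4, 1, 3, 2], [5, 6, 7, 4, 5, 6, 1, 3, 4, 5, 2, 3, 4, 1, 3, 2], [3, 4, 5, 6, 1, 3, 4, 5, 2, 3, 4, 1, 3, 2], [7, 3, 4, 5, 6, 1, 3, 4, 5, 2, 3, 4, 1, 3, 2], [6, 7, 3, 4, 5, 6, 1, 3, 4, 5, 2, 3, 4, 1, 3, 2], [5, 6, 7, 3, 4, 5, 6, 1, 3, 4, 5, 2, 3, 4, 1, 3, 2], [4, 5, 6, 7, 3, 4, 5, 6,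 1, 3, 4, 5, 2, 3, 4, 1, 3, 2], [2, 3, 4, 5, 6, 1, 3, 4, 5, 2, 3, 4, 1, 3, 2], [7, 2, 3, 4, 5, 6, 1, 3, 4, 5, 2, 3, 4, 1, 3, 2], [6, 7, 2, 3, 4, 5, 6, 1, 3, 4, 5, 2, 3, 4, 1, 3, 2], [5, 6, 7, 2, 3, 4, 5, 6, 1, 3, 4, 5, 2, 3, 4, 1, 3, 2], [4, 5, 6, 7, 2, 3, 4, 5, 6, 1, 3, 4, 5, 2, 3, 4, 1, 3, 2], [3, 4, 5, 6, 7, 2, 3, 4, 5, 6, 1, 3, 4, 5, 2, 3, 4, 1, 3, 2], [1, 3, 4, 5, 6, 7, 2, 3, 4, 5, 6, 1, 3, 4, 5, 2, 3, 4, 1, 3, 2], [0, 2, 3, 4, 5, 6, 1, 3, 4, 5, 2, 3, 4, 1, 3, 2], [7, 0, 2, 3, 4, 5, 6, 1, 3, 4, 5, 2, 3, 4, 1, 3, 2], [6, 7, 0, 2, 3, 4, 5, 6, 1, 3, 4, 5, 2, 3, 4, 1, 3, 2], [5, 6, 7, 0, 2, 3, 4, 5, 6, 1, 3, 4, 5, 2, 3, 4, 1, 3, 2], [4, 5, 6, 7, 0, 2, 3, 4, 5, 6, 1, 3, 4, 5, 2, 3, 4, 1, 3, 2], [3, 4, 5, 6, 7, 0,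 2, 3, 4, 5, 6, 1, 3, 4, 5, 2, 3, 4, 1, 3, 2], [2, 3, 4, 5, 6, 7, 0, 2, 3, 4, 5, 6, 1, 3, 4, 5, 2, 3, 4, 1, 3, 2], [1, 3, 4, 5, 6, 7, 0, 2, 3, 4, 5, 6, 1, 3, 4, 5, 2, 3, 4, 1, 3, 2], [2, 1, 3, 4, 5, 6, 7, 0, 2, 3, 4, 5, 6, 1, 3, 4, 5, 2, 3, 4, 1, 3, 2], [3, 2, 1, 3, 4, 5, 6, 7, 0, 2, 3, 4, 5, 6, 1, 3, 4, 5, 2, 3, 4, 1, 3, 2], [4, 3, 2, 1, 3, 4, 5, 6, 7, 0, 2, 3, 4, 5, 6, 1, 3, 4, 5, 2, 3, 4, 1, 3, 2], [5, 4, 3, 2, 1, 3, 4, 5, 6, 7, 0, 2, 3, 4, 5, 6, 1, 3, 4, 5, 2, 3, 4, 1, 3, 2], [6, 5, 4, 3, 2, 1, 3, 4, 5, 6, 7, 0, 2, 3, 4, 5, 6, 1, 3, 4, 5, 2, 3, 4, 1, 3, 2], [7, 6, 5, 4, 3, 2, 1, 3, 4, 5, 6, 7, 0, 2, 3, 4, 5, 6, 1, 3, 4, 5, 2, 3, 4, 1, 3, 2]]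

set_option maxHeartbeats 0 in
set_option maxRecDepth 100000 in
theorem orbitE8 : orbitCheck chevE8 rtE8 0 toBaseE8 fromBaseE8 := by
  decide +kernel

/-- words from the fundamental roots to the base roots, type G2 -/
def toBaseG2 : List (List ℕ) :=
  [[], []]

/-- words from the base roots to all roots, type G2 -/
def fromBaseG2 : List (List ℕ) :=
  [[1, 0, 1], [0, 1], [0, 1, 0], [1, 0], [0], [1], [], [], [1], [0, 1], [0], [1, 0]]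

/-- commutator certificates for the long roots, type G2 -/
def lcertG2 : List (ℕ × ℕ × ℤ) :=
  [(2, 3, -3), (2, 4, -3), (0, 0, 0), (0, 0, 0), (0, 0, 0), (3, 7, 3), (4, 8, 3), (0, 0, 0), (0, 0, 0), (0, 0, 0), (7, 9, -3), (8, 9, -3)]

set_option maxHeartbeats 0 in
set_option maxRecDepth 100000 in
theorem simpleG2 : simpleCheck chevG2 rtG2 0 1 toBaseG2 := by
  decide +kernel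

set_option maxHeartbeats 0 in
set_option maxRecDepth 100000 in
theorem twoOrbitG2 : twoOrbitCheck chevG2 rtG2 0 1 fromBaseG2 := by
  decide +kernel

set_option maxHeartbeats 0 in
set_option maxRecDepth 100000 in
theorem shortOrbitG2 : shortOrbitCheck chevG2 rtG2 0 fromBaseG2 3 lcertG2 := by
  decide +kernel

/-- words from the fundamental roots to the base roots, type B2 -/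
def toBaseB2 : List (List ℕ) :=
  [[], []]

/-- words from the base roots to all roots, type B2 -/
def fromBaseB2 : List (List ℕ) :=
  [[0, 1], [1, 0], [0], [1], [], [], [1], [0]]

/-- commutator certificates for the long roots, type B2 -/
def lcertB2 : List (ℕ × ℕ × ℤ) :=
  [(1, 2, -2), (0, 0, 0), (0, 0, 0), (1, 5, 2), (2, 6, 2), (0, 0, 0), (0, 0, 0), (5, 6, -2)]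

set_option maxHeartbeats 0 in
set_option maxRecDepth 100000 in
theorem simpleB2 : simpleCheck chevB2 rtB2 0 1 toBaseB2 := by
  decide +kernel

set_option maxHeartbeats 0 in
set_option maxRecDepth 100000 in
theorem twoOrbitB2 : twoOrbitCheck chevB2 rtB2 0 1 fromBaseB2 := by
  decide +kernel

set_option maxHeartbeats 0 in
set_option maxRecDepth 100000 in
theorem shortOrbitB2 : shortOrbitCheck chevB2 rtB2 0 fromBaseB2 2 lcertB2 := by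
  decide +kernel

/-- words from the fundamental roots to the base roots, type F4 -/
def toBaseF4 : List (List ℕ) :=
  [[], [1, 0], [], [3, 2]]

/-- words from the base roots to all roots, type F4 -/
def fromBaseF4 : List (List ℕ) :=
  [[3, 2, 1, 2, 3, 0, 1, 2], [2, 1, 2, 3, 0, 1, 2], [1, 2, 3, 0, 1, 2], [0, 1, 2, 3, 1, 2, 1, 0], [2, 3, 0, 1, 2], [3, 0, 1, 2], [0, 1, 2], [1, 2, 3, 1, 2, 1, 0], [2, 3, 1, 2, 1, 0], [3, 1, 2, 1, 0], [1, 2, 1, 0], [3, 2, 1, 0], [2, 1, 0], [1, 0], [0], [2, 3, 1, 2], [3, 1, 2], [1, 2], [3, 2, 0, 1, 0], [2, 0, 1, 0], [0, 1, 0], [3, 2], [2], [2, 3, 2], [2, 3], [], [3], [0, 1], [2, 0, 1], [3, 2, 0, 1], [1], [3, 1], [2, 3, 1], [], [1], [2, 1], [3, 2, 1], [1, 2, 1], [3, 1, 2, 1], [2, 3, 1,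 2, 1], [1, 2, 3, 1, 2, 1], [0, 1], [3, 0, 1], [2, 3, 0, 1], [0, 1, 2, 3, 1, 2, 1], [1, 2, 3, 0, 1], [2, 1, 2, 3, 0, 1], [3, 2, 1, 2, 3, 0, 1]]

/-- commutator certificates for the long roots, type F4 -/
def lcertF4 : List (ℕ × ℕ × ℤ) :=
  [(3, 18, -2), (3, 19, -2), (3, 20, -2), (0, 0, 0), (3, 27, -2), (3, 28, 2), (3, 29, -2), (0, 0, 0), (0, 0, 0), (0, 0, 0), (0, 0, 0), (0, 0, 0), (0, 0, 0), (0, 0, 0), (0, 0, 0), (7, 34, 2), (7, 35, -2), (7, 36, 2), (0, 0, 0), (0, 0, 0), (0, 0, 0), (8, 37, -2), (8, 38, 2), (9, 37, 2), (10, 38, 2), (9, 39, 2), (10, 39, -2), (0, 0, 0), (0, 0, 0), (0, 0, 0), (11, 40, 2), (12, 40, -2), (13, 40, 2), (0, 0, 0), (0, 0, 0), (0, 0, 0), (0, 0, 0), (0, 0, 0), (0, 0, 0), (0, 0, 0), (0, 0, 0),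 (18, 44, -2), (19, 44, 2), (20, 44, -2), (0, 0, 0), (27, 44, -2), (28, 44, -2), (29, 44, -2)]

set_option maxHeartbeats 0 in
set_option maxRecDepth 100000 in
theorem simpleF4 : simpleCheck chevF4 rtF4 0 2 toBaseF4 := by
  decide +kernel

set_option maxHeartbeats 0 in
set_option maxRecDepth 100000 in
theorem twoOrbitF4 : twoOrbitCheck chevF4 rtF4 0 2 fromBaseF4 := by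
  decide +kernel

set_option maxHeartbeats 0 in
set_option maxRecDepth 100000 in
theorem shortOrbitF4 : shortOrbitCheck chevF4 rtF4 0 fromBaseF4 2 lcertF4 := by
  decide +kernel

end Cfsg.Agent.Lib.Helper6.ChevGenData
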