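import Mathlib
import Cfsg.Agent.Lib.Helper6.ChevWeyl

/-!
# Standard parabolic subgroups (helper6)

`P_J = ⟨B, n_{p_j} : j ∈ J⟩` is generated by `H` and the root subgroups `X_r`, `r ∈ Φ⁺ ∪ Φ_J`: a
negative root of `Φ_J` is obtained from a fundamental root of `J` by reflections in fundamental
roots of `J`, following a certificate table.
-/

set_option autoImplicit false

namespace Cfsg.Agent.Lib.Helper6.ChevParab

open Cfsg.Lie Cfsg.Agent.Lib.Helper6.ChevWeyl

variable {F : Type*} [Field F]

/-- the coefficient of the coroot of `r` at the node `i` -/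
def cor (D : ChevalleyDatum) (r i : ℕ) : ℤ := (D.coroot.getD r #[]).getD i 0

/-- general table facts: every root is positive or negative, negation preserves the support of
the coroot, the fundamental roots are positive with coroot supported at their node, and the
reflection in a fundamental root sends it to its negative -/
def genTab (D : ChevalleyDatum) : Prop :=
  (∀ r ∈ List.range D.nroots, (D.IsPosRoot r ∨ D.IsPosRoot (D.neg r)) ∧ D.neg r < D.nroots ∧
    D.neg (D.neg r) = r ∧ ∀ i ∈ List.range D.rank, cor D (D.neg r) i = 0 ↔ cor D r i = 0) ∧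
  (∀ j ∈ List.range D.rank, D.IsPosRoot (D.simple j) ∧
    D.reflectRoot j (D.simple j) = D.neg (D.simple j) ∧
    ∀ i ∈ List.range D.rank, i ≠ j → cor D (D.simple j) i = 0)

instance (D : ChevalleyDatum) : Decidable (genTab D) := by
  unfold genTab; infer_instance

/-- the certificate of a positive root `s`: a node `j` in the support of `s` such that `s` is
the `j`-th fundamental root or the reflection in it lowers `s` inside the positive roots -/
def levTab (D : ChevalleyDatum) (cert : List ℕ) (s : ℕ) : Prop :=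
  D.IsPosRoot s →
    cert.getD s 0 < D.rank ∧ cor D s (cert.getD s 0) ≠ 0 ∧
      (s = D.simple (cert.getD s 0) ∨
        (D.IsPosRoot (D.reflectRoot (cert.getD s 0) s) ∧ D.reflectRoot (cert.getD s 0) s < s ∧
          D.reflectRoot (cert.getD s 0) (D.neg (D.reflectRoot (cert.getD s 0) s)) = D.neg s ∧
          ∀ i ∈ List.range D.rank, cor D (D.reflectRoot (cert.getD s 0) s) i ≠ 0 → cor D s i ≠ 0))

instance (D : ChevalleyDatum) (cert : List ℕ) (s : ℕ) : Decidable (levTab D cert s) := by
  unfold levTab; infer_instance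

theorem inRootSub_iff (D : ChevalleyDatum) (J : Set ℕ) (r : ℕ) :
    D.InRootSub J r ↔ r < D.nroots ∧ ∀ i, i < D.rank → i ∉ J → cor D r i = 0 := Iff.rfl

theorem mem_J_of_cor_ne {D : ChevalleyDatum} {J : Set ℕ} {r i : ℕ} (h : D.InRootSub J r)
    (hi : i < D.rank) (hc : cor D r i ≠ 0) : i ∈ J := by
  by_contra hn
  exact hc (h.2 i hi hn)

theorem nGL_mem_parabolic {D : ChevalleyDatum} (h : Hyp D F) (J : Set ℕ) (j : ℕ) (hj : j ∈ J)
    (hjr : j < D.rank) : nGL h j ∈ D.parabolicSubgroup F J :=
  Subgroup.mem_sup_right (Subgroup.subset_closure ⟨j, hj, hjr, nGL_val h j⟩)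

theorem xGL_pos_mem_parabolic {D : ChevalleyDatum} (h : Hyp D F) (J : Set ℕ) (r : ℕ)
    (hr : D.IsPosRoot r) (t : F) : xGL h r t ∈ D.parabolicSubgroup F J :=
  Subgroup.mem_sup_left (Subgroup.mem_sup_left (Subgroup.subset_closure ⟨r, t, hr, rfl⟩))

/-- the negatives of the positive roots of `Φ_J` have their root subgroups in `P_J` -/
theorem xGL_neg_mem_parabolic {D : ChevalleyDatum} (h : Hyp D F) (hg : genTab D)
    (cert : List ℕ) (hl : ∀ s, s < D.nroots → levTab D cert s) (J : Set ℕ) :
    ∀ s, D.IsPosRoot s → D.InRootSub J s → ∀ t : F,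
      xGL h (D.neg s) t ∈ D.parabolicSubgroup F J := by
  intro s
  induction s using Nat.strong_induction_on with
  | _ s ih =>
    intro hs hJ t
    obtain ⟨c1, c2, c3⟩ := hl s hs.1 hs
    have hjJ : cert.getD s 0 ∈ J := mem_J_of_cor_ne hJ c1 c2
    have hn := nGL_mem_parabolic h J _ hjJ c1
    rcases c3 with c3 | ⟨d1, d2, d3, d4⟩
    · -- `s` is a fundamental root of `J`
      obtain ⟨_, g2, _⟩ := hg.2 _ (List.mem_range.mpr c1)
      obtain ⟨_, η, hη, h3⟩ := conj_nGL h (cert.getD s 0) s c1 hs.1
      have h4 := h3 ((η : F) * t)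
      have e : (η : F) * ((η : F) * t) = t := by
        rcases hη with rfl | rfl <;> simp
      rw [e] at h4
      have e2 : D.reflectRoot (cert.getD s 0) s = D.neg s := by
        generalize cert.getD s 0 = j at c3 g2
        rw [c3]
        exact g2
      rw [e2] at h4
      rw [← h4]
      exact mul_mem (mul_mem hn (xGL_pos_mem_parabolic h J s hs _)) (inv_mem hn)
    · -- reflect down
      have hJ' : D.InRootSub J (D.reflectRoot (cert.getD s 0) s) := by
        refine ⟨d1.1, ?_⟩
        intro i hi hiJ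
        by_contra hne
        exact d4 i (List.mem_range.mpr hi) hne (hJ.2 i hi hiJ)
      have hneg_lt := (hg.1 _ (List.mem_range.mpr d1.1)).2.1
      obtain ⟨_, η, hη, h3⟩ := conj_nGL h (cert.getD s 0)
        (D.neg (D.reflectRoot (cert.getD s 0) s)) c1 hneg_lt
      have h4 := h3 ((η : F) * t)
      have e : (η : F) * ((η : F) * t) = t := by
        rcases hη with rfl | rfl <;> simp
      rw [e, d3] at h4
      rw [← h4]
      exact mul_mem (mul_mem hn (ih _ d2 d1 hJ' _)) (inv_mem hn)

/-- `P_J = ⟨H, X_r : r ∈ Φ⁺ ∪ Φ_J⟩` -/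
theorem parabolic_eq {D : ChevalleyDatum} (h : Hyp D F) (hg : genTab D) (cert : List ℕ)
    (hl : ∀ s, s < D.nroots → levTab D cert s) (J : Set ℕ) :
    D.parabolicSubgroup F J = D.diagonalSubgroup F ⊔
      Subgroup.closure {g : GL D.Idx F | ∃ (r : ℕ) (t : F),
        (D.IsPosRoot r ∨ D.InRootSub J r) ∧ (g : Matrix D.Idx D.Idx F) = D.x F r t} := by
  apply le_antisymm
  · unfold ChevalleyDatum.parabolicSubgroup ChevalleyDatum.borelSubgroup
    apply sup_le
    · apply sup_le
      · apply le_trans _ le_sup_right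
        unfold ChevalleyDatum.posUnipotent
        apply Subgroup.closure_mono
        rintro g ⟨r, t, hr, hgx⟩
        exact ⟨r, t, Or.inl hr, hgx⟩
      · exact le_sup_left
    · apply le_trans _ le_sup_right
      rw [Subgroup.closure_le]
      rintro g ⟨j, hj, hjr, hgn⟩
      have : g = nGL h j := Units.ext (by rw [hgn, nGL_val])
      rw [this]
      obtain ⟨g1, _, g3⟩ := hg.2 j (List.mem_range.mpr hjr)
      have hnegJ : D.InRootSub J (D.neg (D.simple j)) := by
        obtain ⟨_, q2, _, q4⟩ := hg.1 _ (List.mem_range.mpr g1.1)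
        refine ⟨q2, ?_⟩
        intro i hi hiJ
        have hij : i ≠ j := fun e => hiJ (e ▸ hj)
        exact (q4 i (List.mem_range.mpr hi)).mpr (g3 i (List.mem_range.mpr hi) hij)
      unfold nGL
      have m1 : xGL h (D.simple j) (1 : F) ∈ Subgroup.closure {g : GL D.Idx F | ∃ (r : ℕ) (t : F),
          (D.IsPosRoot r ∨ D.InRootSub J r) ∧ (g : Matrix D.Idx D.Idx F) = D.x F r t} :=
        Subgroup.subset_closure ⟨_, _, Or.inl g1, rfl⟩
      have m2 : xGL h (D.neg (D.simple j)) (-1 : F) ∈ Subgroup.closure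
          {g : GL D.Idx F | ∃ (r : ℕ) (t : F),
          (D.IsPosRoot r ∨ D.InRootSub J r) ∧ (g : Matrix D.Idx D.Idx F) = D.x F r t} :=
        Subgroup.subset_closure ⟨_, _, Or.inr hnegJ, rfl⟩
      exact mul_mem (mul_mem m1 m2) m1
  · apply sup_le
    · unfold ChevalleyDatum.parabolicSubgroup ChevalleyDatum.borelSubgroup
      exact le_trans le_sup_right le_sup_left
    · rw [Subgroup.closure_le]
      rintro g ⟨r, t, hr, hgx⟩
      rw [eq_xGL h r t g hgx]
      rcases hr with hr | hr
      · exact xGL_pos_mem_parabolic h J r hr t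
      · obtain ⟨q1, q2, q3, q4⟩ := hg.1 r (List.mem_range.mpr hr.1)
        rcases q1 with q1 | q1
        · exact xGL_pos_mem_parabolic h J r q1 t
        · have hJn : D.InRootSub J (D.neg r) := by
            refine ⟨q2, ?_⟩
            intro i hi hiJ
            exact (q4 i (List.mem_range.mpr hi)).mpr (hr.2 i hi hiJ)
          have := xGL_neg_mem_parabolic h hg cert hl J (D.neg r) q1 hJn t
          rwa [q3] at this

end Cfsg.Agent.Lib.Helper6.ChevParab
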