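import Mathlib
import Cfsg.Agent.Lib.Helper6.ChevParab
import Cfsg.Agent.Lib.Helper6.ChevCommOrbit

/-!
# The Levi decomposition of the standard parabolic subgroups (helper6)

`U_J` is normalised by `P_J` (commutator formula and a sign table for the coroot coefficients),
`P_J = U_J L_J` (from the description of `P_J` by root subgroups), and `U_J ∩ L_J = 1`
(the grading of the adjoint module by the root coefficients outside `J`).
-/

set_option autoImplicit false
set_option linter.unusedSectionVars false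

namespace Cfsg.Agent.Lib.Helper6.ChevLevi

open Cfsg.Lie Cfsg.Agent.Lib.Helper6.ChevSparse Cfsg.Agent.Lib.Helper6.ChevWeyl
  Cfsg.Agent.Lib.Helper6.ChevParab Cfsg.Agent.Lib.Helper6.ChevCommOrbit

variable {F : Type*} [Field F]

/-! ### Tables -/

/-- the sign table of a positive root `r`: its negative is not positive and has the same
support, and each term of the commutator formula of `(r, s)` has a positive coefficient wherever
`r` has one and `s` has a nonnegative one -/
def sgnTab (D : ChevalleyDatum) (r : ℕ) : Prop :=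
  D.IsPosRoot r → (¬ D.IsPosRoot (D.neg r)) ∧
    (∀ l ∈ List.range D.rank, cor D (D.neg r) l = 0 → cor D r l = 0) ∧
    ∀ s ∈ List.range D.nroots, s ≠ r → s ≠ D.neg r →
      ∀ c ∈ D.commTerms r s, c.1 < D.nroots ∧
        ∀ l ∈ List.range D.rank, 0 < cor D r l → 0 ≤ cor D s l → 0 < cor D c.1 l

instance (D : ChevalleyDatum) (r : ℕ) : Decidable (sgnTab D r) := by
  unfold sgnTab; infer_instance

/-- the sign tables of a list of roots -/
def sgnTabL (D : ChevalleyDatum) (l : List ℕ) : Prop := ∀ r ∈ l, sgnTab D r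

instance (D : ChevalleyDatum) (l : List ℕ) : Decidable (sgnTabL D l) := by
  unfold sgnTabL; infer_instance

/-- every root is positive or has nonpositive coroot coefficients -/
def pnTab (D : ChevalleyDatum) : Prop :=
  ∀ k ∈ List.range D.nroots, D.IsPosRoot k ∨ ∀ l ∈ List.range D.rank, cor D k l ≤ 0

instance (D : ChevalleyDatum) : Decidable (pnTab D) := by
  unfold pnTab; infer_instance

/-- the coefficient at the node `l` of the weight of the basis vector coded by `n`, from a
table `rc` of root coefficients -/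
def wt (D : ChevalleyDatum) (rc : List (List ℤ)) (n l : ℕ) : ℤ :=
  if n < D.rank then 0 else (rc.getD (n - D.rank) []).getD l 0

/-- a column of `x_r`: the diagonal entry is `1`, and every other entry sits at a weight
differing from that of the column by `r`, `2r` or `3r` -/
def gradCol (D : ChevalleyDatum) (rc : List (List ℤ)) (r col : ℕ) : Prop :=
  ((xCol D r pX1 col).filter fun e => decide (e.1 = col)) = [(col, pone)] ∧
    ∀ e ∈ xCol D r pX1 col, e.1 = col ∨ ∃ k ∈ ([1, 2, 3] : List ℤ), ∀ l ∈ List.range D.rank,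
      wt D rc e.1 l = wt D rc col l + k * wt D rc (D.rank + r) l

instance (D : ChevalleyDatum) (rc : List (List ℤ)) (r col : ℕ) :
    Decidable (gradCol D rc r col) := by
  unfold gradCol; infer_instance

/-- all columns of `x_r` -/
def gradTab (D : ChevalleyDatum) (rc : List (List ℤ)) (r : ℕ) : Prop :=
  ∀ col ∈ List.range (D.rank + D.nroots), gradCol D rc r col

instance (D : ChevalleyDatum) (rc : List (List ℤ)) (r : ℕ) : Decidable (gradTab D rc r) := by
  unfold gradTab; infer_instance

/-- the table for a list of roots -/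
def gradTabL (D : ChevalleyDatum) (rc : List (List ℤ)) (l : List ℕ) : Prop :=
  ∀ r ∈ l, gradTab D rc r

instance (D : ChevalleyDatum) (rc : List (List ℤ)) (l : List ℕ) :
    Decidable (gradTabL D rc l) := by
  unfold gradTabL; infer_instance

/-- the root coefficients vanish, resp. are positive, where the coroot coefficients are -/
def rcTab (D : ChevalleyDatum) (rc : List (List ℤ)) : Prop :=
  ∀ r ∈ List.range D.nroots, ∀ l ∈ List.range D.rank,
    (cor D r l = 0 → wt D rc (D.rank + r) l = 0) ∧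
    (0 < cor D r l → 0 < wt D rc (D.rank + r) l)

instance (D : ChevalleyDatum) (rc : List (List ℤ)) : Decidable (rcTab D rc) := by
  unfold rcTab; infer_instance

/-! ### The roots of `U_J` -/

/-- the roots of the unipotent radical -/
def InUJ (D : ChevalleyDatum) (J : Set ℕ) (r : ℕ) : Prop := D.IsPosRoot r ∧ ¬ D.InRootSub J r

theorem getD_nonneg (arr : Array ℤ) (h : ∀ c ∈ arr.toList, 0 ≤ c) (l : ℕ) : 0 ≤ arr.getD l 0 := by
  by_cases hl : l < arr.size
  · have e : arr.getD l 0 = arr[l] := by simp [Array.getD, hl]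
    rw [e]
    exact h _ (by simp)
  · have e : arr.getD l 0 = 0 := by simp [Array.getD, hl]
    rw [e]

theorem cor_nonneg {D : ChevalleyDatum} {r : ℕ} (h : D.IsPosRoot r) (l : ℕ) : 0 ≤ cor D r l :=
  getD_nonneg _ h.2 l

theorem exists_node {D : ChevalleyDatum} {J : Set ℕ} {r : ℕ} (hr : InUJ D J r) :
    ∃ l, l < D.rank ∧ l ∉ J ∧ 0 < cor D r l := by
  have h2 := hr.2
  rw [inRootSub_iff] at h2
  push Not at h2
  obtain ⟨l, hl, hlJ, hne⟩ := h2 hr.1.1
  exact ⟨l, hl, hlJ, lt_of_le_of_ne (cor_nonneg hr.1 l) (Ne.symm hne)⟩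

theorem cor_nonneg_of {D : ChevalleyDatum} {J : Set ℕ} {s : ℕ}
    (hs : D.IsPosRoot s ∨ D.InRootSub J s) {l : ℕ} (hl : l < D.rank) (hlJ : l ∉ J) :
    0 ≤ cor D s l := by
  rcases hs with hs | hs
  · exact cor_nonneg hs l
  · exact le_of_eq (hs.2 l hl hlJ).symm

theorem inUJ_of_cor_pos {D : ChevalleyDatum} (hpn : pnTab D) {J : Set ℕ} {k l : ℕ}
    (hk : k < D.nroots) (hl : l < D.rank) (hlJ : l ∉ J) (hpos : 0 < cor D k l) : InUJ D J k := by
  constructor
  · rcases hpn k (List.mem_range.mpr hk) with h | h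
    · exact h
    · exact absurd hpos (not_lt.mpr (h l (List.mem_range.mpr hl)))
  · intro hin
    have : cor D k l = 0 := hin.2 l hl hlJ
    rw [this] at hpos
    exact absurd hpos (lt_irrefl _)

theorem terms_inUJ {D : ChevalleyDatum} (hpn : pnTab D) {J : Set ℕ} {r : ℕ} (hsg : sgnTab D r)
    (hr : InUJ D J r) {s : ℕ} (hs : s < D.nroots) (hsr : s ≠ r) (hsn : s ≠ D.neg r)
    (hsJ : D.IsPosRoot s ∨ D.InRootSub J s) : ∀ c ∈ D.commTerms r s, InUJ D J c.1 := by
  intro c hc
  obtain ⟨l, hl, hlJ, hpos⟩ := exists_node hr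
  obtain ⟨hlt, hsgn⟩ := (hsg hr.1).2.2 s (List.mem_range.mpr hs) hsr hsn c hc
  exact inUJ_of_cor_pos hpn hlt hl hlJ
    (hsgn l (List.mem_range.mpr hl) hpos (cor_nonneg_of hsJ hl hlJ))

theorem neg_not_allowed {D : ChevalleyDatum} {J : Set ℕ} {r : ℕ} (hsg : sgnTab D r)
    (hr : InUJ D J r) : ¬ (D.IsPosRoot (D.neg r) ∨ D.InRootSub J (D.neg r)) := by
  rintro (h | h)
  · exact (hsg hr.1).1 h
  · obtain ⟨l, hl, hlJ, hpos⟩ := exists_node hr
    have : cor D r l = 0 := (hsg hr.1).2.1 l (List.mem_range.mpr hl) (h.2 l hl hlJ)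
    rw [this] at hpos
    exact absurd hpos (lt_irrefl _)

/-! ### `P_J` normalises `U_J` -/

theorem xGL_mem_UJ {D : ChevalleyDatum} (h : Hyp D F) {J : Set ℕ} {r : ℕ} (hr : InUJ D J r)
    (t : F) : xGL h r t ∈ D.unipotentRadical F J :=
  Subgroup.subset_closure ⟨r, t, hr.1, hr.2, xGL_val h r t⟩

theorem wordGL_mem_UJ {D : ChevalleyDatum} (h : Hyp D F) {J : Set ℕ} (w : List (ℕ × F))
    (hw : ∀ x ∈ w, InUJ D J x.1) : wordGL h w ∈ D.unipotentRadical F J := by
  unfold wordGL
  apply Subgroup.list_prod_mem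
  intro y hy
  obtain ⟨x, hx, rfl⟩ := List.mem_map.mp hy
  exact xGL_mem_UJ h (hw x hx) x.2

theorem xGL_mul_eq {D : ChevalleyDatum} (h : Hyp D F) (r : ℕ) (t u : F) :
    xGL h r t * xGL h r u = xGL h r (t + u) :=
  Units.ext (by rw [Units.val_mul, xGL_val, xGL_val, xGL_val, h.add'])

theorem xGL_inv_eq {D : ChevalleyDatum} (h : Hyp D F) (r : ℕ) (t : F) :
    (xGL h r t)⁻¹ = xGL h r (-t) := by
  rw [inv_eq_iff_mul_eq_one, xGL_mul_eq, add_neg_cancel]
  exact Units.ext (h.zero' r)

/-- the commutator formula for all pairs of distinct non-opposite roots -/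
def AllCommF {D : ChevalleyDatum} (h : Hyp D F) : Prop :=
  ∀ r s, r < D.nroots → s < D.nroots → s ≠ r → s ≠ D.neg r → CommF h r s

theorem conj_mem_UJ {D : ChevalleyDatum} (h : Hyp D F) (hall : AllCommF h) (hpn : pnTab D)
    (hsg : ∀ r, r < D.nroots → sgnTab D r) {J : Set ℕ} {r : ℕ} (hr : InUJ D J r) {s : ℕ}
    (hs : s < D.nroots) (hsJ : D.IsPosRoot s ∨ D.InRootSub J s) (t u : F) :
    xGL h s u * xGL h r t * (xGL h s u)⁻¹ ∈ D.unipotentRadical F J := by
  have hrn := hr.1.1
  by_cases hsr : s = r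
  · subst hsr
    rw [xGL_inv_eq, xGL_mul_eq, xGL_mul_eq]
    exact xGL_mem_UJ h hr _
  by_cases hsn : s = D.neg r
  · subst hsn
    exact absurd hsJ (neg_not_allowed (hsg r hrn) hr)
  have hf := hall r s hrn hs hsr hsn (-t) (-u)
  rw [← xGL_inv_eq, ← xGL_inv_eq] at hf
  have e : xGL h s u * xGL h r t * (xGL h s u)⁻¹
      = wordGL h (D.commWord F r s (-t) (-u)) * xGL h r t := by
    calc xGL h s u * xGL h r t * (xGL h s u)⁻¹
        = xGL h s u * xGL h r t * ((xGL h s u)⁻¹ * (xGL h r t)⁻¹) * xGL h r t := by group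
      _ = xGL h s u * xGL h r t * ((xGL h r t)⁻¹ * (xGL h s u)⁻¹
            * wordGL h (D.commWord F r s (-t) (-u))) * xGL h r t := by rw [hf]
      _ = _ := by group
  rw [e]
  refine mul_mem (wordGL_mem_UJ h _ ?_) (xGL_mem_UJ h hr t)
  intro x hx
  unfold ChevalleyDatum.commWord at hx
  obtain ⟨c, hc, rfl⟩ := List.mem_map.mp hx
  exact terms_inUJ hpn (hsg r hrn) hr hs hsr hsn hsJ c hc

/-- an element conjugating, together with its inverse, the generators of `U_J` into `U_J`
normalises `U_J` -/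
theorem mem_normalizer_of_gens {D : ChevalleyDatum} (h : Hyp D F) (J : Set ℕ) (g : GL D.Idx F)
    (h1 : ∀ r, InUJ D J r → ∀ t : F, g * xGL h r t * g⁻¹ ∈ D.unipotentRadical F J)
    (h2 : ∀ r, InUJ D J r → ∀ t : F, g⁻¹ * xGL h r t * g⁻¹⁻¹ ∈ D.unipotentRadical F J) :
    g ∈ Subgroup.normalizer (D.unipotentRadical F J : Set (GL D.Idx F)) := by
  have key : ∀ (k : GL D.Idx F),
      (∀ r, InUJ D J r → ∀ t : F, k * xGL h r t * k⁻¹ ∈ D.unipotentRadical F J) →
      ∀ x ∈ D.unipotentRadical F J, k * x * k⁻¹ ∈ D.unipotentRadical F J := by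
    intro k hk x hx
    unfold ChevalleyDatum.unipotentRadical at hx
    induction hx using Subgroup.closure_induction with
    | mem y hy =>
      obtain ⟨r, t, hr, hrJ, hy⟩ := hy
      rw [eq_xGL h r t y hy]
      exact hk r ⟨hr, hrJ⟩ t
    | one => simp only [mul_one, mul_inv_cancel]; exact one_mem _
    | mul y z _ _ hy hz =>
      have : k * (y * z) * k⁻¹ = (k * y * k⁻¹) * (k * z * k⁻¹) := by group
      rw [this]; exact mul_mem hy hz
    | inv y _ hy =>
      have : k * y⁻¹ * k⁻¹ = (k * y * k⁻¹)⁻¹ := by group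
      rw [this]; exact inv_mem hy
  rw [Subgroup.mem_normalizer_iff]
  intro x
  constructor
  · exact key g h1 x
  · intro hx
    have := key g⁻¹ h2 _ hx
    have e : g⁻¹ * (g * x * g⁻¹) * g⁻¹⁻¹ = x := by group
    rwa [e] at this

/-- `P_J` (in the form of generation by root subgroups) normalises `U_J` -/
theorem parabolic_le_normalizer {D : ChevalleyDatum} (h : Hyp D F) (hall : AllCommF h)
    (hpn : pnTab D) (hsg : ∀ r, r < D.nroots → sgnTab D r)
    (hH : ∀ g ∈ D.diagonalSubgroup F, ∀ r, r < D.nroots → ∀ t : F,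
      ∃ t' : F, g * xGL h r t * g⁻¹ = xGL h r t') (J : Set ℕ) :
    D.diagonalSubgroup F ⊔ Subgroup.closure {g : GL D.Idx F | ∃ (r : ℕ) (t : F),
        (D.IsPosRoot r ∨ D.InRootSub J r) ∧ (g : Matrix D.Idx D.Idx F) = D.x F r t}
      ≤ Subgroup.normalizer (D.unipotentRadical F J : Set (GL D.Idx F)) := by
  apply sup_le
  · intro g hg
    apply mem_normalizer_of_gens h
    · intro r hr t
      obtain ⟨t', ht'⟩ := hH g hg r hr.1.1 t
      rw [ht']
      exact xGL_mem_UJ h hr t'
    · intro r hr t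
      obtain ⟨t', ht'⟩ := hH g⁻¹ (inv_mem hg) r hr.1.1 t
      rw [ht']
      exact xGL_mem_UJ h hr t'
  · rw [Subgroup.closure_le]
    rintro g ⟨s, u, hsJ, hg⟩
    have hs : s < D.nroots := by
      rcases hsJ with hs | hs
      · exact hs.1
      · exact hs.1
    rw [eq_xGL h s u g hg]
    apply mem_normalizer_of_gens h
    · intro r hr t
      exact conj_mem_UJ h hall hpn hsg hr hs hsJ t u
    · intro r hr t
      have := conj_mem_UJ h hall hpn hsg hr hs hsJ t (-u)
      rwa [← xGL_inv_eq] at this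

/-! ### `P_J = U_J L_J` -/

theorem radical_sup_levi {D : ChevalleyDatum} (J : Set ℕ) :
    D.unipotentRadical F J ⊔ D.leviSubgroup F J
      = D.diagonalSubgroup F ⊔ Subgroup.closure {g : GL D.Idx F | ∃ (r : ℕ) (t : F),
        (D.IsPosRoot r ∨ D.InRootSub J r) ∧ (g : Matrix D.Idx D.Idx F) = D.x F r t} := by
  apply le_antisymm
  · apply sup_le
    · unfold ChevalleyDatum.unipotentRadical
      rw [Subgroup.closure_le]
      rintro g ⟨r, t, hr, _, hg⟩
      exact Subgroup.mem_sup_right (Subgroup.subset_closure ⟨r, t, Or.inl hr, hg⟩)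
    · unfold ChevalleyDatum.leviSubgroup
      apply sup_le le_sup_left
      rw [Subgroup.closure_le]
      rintro g ⟨r, t, hr, hg⟩
      exact Subgroup.mem_sup_right (Subgroup.subset_closure ⟨r, t, Or.inr hr, hg⟩)
  · apply sup_le
    · exact le_trans (le_sup_left : D.diagonalSubgroup F ≤ D.leviSubgroup F J) le_sup_right
    · rw [Subgroup.closure_le]
      rintro g ⟨r, t, hr, hg⟩
      by_cases hJ : D.InRootSub J r
      · exact Subgroup.mem_sup_right
          (Subgroup.mem_sup_right (Subgroup.subset_closure ⟨r, t, hJ, hg⟩))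
      · rcases hr with hr | hr
        · exact Subgroup.mem_sup_left (Subgroup.subset_closure ⟨r, t, hr, hJ, hg⟩)
        · exact absurd hr hJ

/-! ### `U_J ∩ L_J = 1`: the grading -/

section grading

variable {ι : Type*} [Fintype ι] [DecidableEq ι]

/-- the matrix preserves the grading `d` -/
def BlockDiag (d : ι → ℤ) (M : Matrix ι ι F) : Prop := ∀ a b, M a b ≠ 0 → d a = d b

/-- the matrix is unitriangular with respect to the grading `d` -/
def UniTri (d : ι → ℤ) (M : Matrix ι ι F) : Prop :=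
  ∀ a b, d a ≤ d b → M a b = if a = b then 1 else 0

theorem BlockDiag.one (d : ι → ℤ) : BlockDiag d (1 : Matrix ι ι F) := by
  intro a b hab
  by_cases h : a = b
  · rw [h]
  · rw [Matrix.one_apply_ne h] at hab
    exact absurd rfl hab

theorem BlockDiag.mul {d : ι → ℤ} {M N : Matrix ι ι F} (hM : BlockDiag d M)
    (hN : BlockDiag d N) : BlockDiag d (M * N) := by
  intro a b hab
  rw [Matrix.mul_apply] at hab
  obtain ⟨c, _, hc⟩ := Finset.exists_ne_zero_of_sum_ne_zero hab
  have h1 : M a c ≠ 0 := left_ne_zero_of_mul hc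
  have h2 : N c b ≠ 0 := right_ne_zero_of_mul hc
  rw [hM a c h1, hN c b h2]

theorem UniTri.one (d : ι → ℤ) : UniTri d (1 : Matrix ι ι F) := by
  intro a b _
  rw [Matrix.one_apply]

theorem UniTri.mul {d : ι → ℤ} {M N : Matrix ι ι F} (hM : UniTri d M)
    (hN : UniTri d N) : UniTri d (M * N) := by
  intro a b hab
  rw [Matrix.mul_apply]
  have key : ∀ c ∈ Finset.univ, M a c * N c b = if c = a then (if a = b then 1 else 0) else 0 := by
    intro c _
    by_cases hca : c = a
    · subst hca
      rw [if_pos rfl, hM c c le_rfl, if_pos rfl, one_mul, hN c b hab]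
    · rw [if_neg hca]
      by_cases hac : d a ≤ d c
      · rw [hM a c hac, if_neg (fun h => hca h.symm), zero_mul]
      · have hcb : d c ≤ d b := by omega
        have hne : c ≠ b := by
          intro h
          rw [h] at hac
          exact hac hab
        rw [hN c b hcb, if_neg hne, mul_zero]
  rw [Finset.sum_congr rfl key, Finset.sum_ite_eq' Finset.univ a]
  simp

/-- the invertible matrices preserving the grading together with their inverses -/
def blockSub (d : ι → ℤ) : Subgroup (GL ι F) where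
  carrier := {g | BlockDiag d (g : Matrix ι ι F) ∧ BlockDiag d ((g⁻¹ : GL ι F) : Matrix ι ι F)}
  mul_mem' := by
    rintro a b ⟨ha, ha'⟩ ⟨hb, hb'⟩
    refine ⟨?_, ?_⟩
    · rw [Units.val_mul]; exact ha.mul hb
    · rw [mul_inv_rev, Units.val_mul]; exact hb'.mul ha'
  one_mem' := ⟨by rw [Units.val_one]; exact BlockDiag.one d,
    by rw [inv_one, Units.val_one]; exact BlockDiag.one d⟩
  inv_mem' := by
    rintro a ⟨h1, h2⟩
    exact ⟨h2, by rwa [inv_inv]⟩

/-- the invertible matrices unitriangular for the grading together with their inverses -/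
def uniSub (d : ι → ℤ) : Subgroup (GL ι F) where
  carrier := {g | UniTri d (g : Matrix ι ι F) ∧ UniTri d ((g⁻¹ : GL ι F) : Matrix ι ι F)}
  mul_mem' := by
    rintro a b ⟨ha, ha'⟩ ⟨hb, hb'⟩
    refine ⟨?_, ?_⟩
    · rw [Units.val_mul]; exact ha.mul hb
    · rw [mul_inv_rev, Units.val_mul]; exact hb'.mul ha'
  one_mem' := ⟨by rw [Units.val_one]; exact UniTri.one d,
    by rw [inv_one, Units.val_one]; exact UniTri.one d⟩
  inv_mem' := by
    rintro a ⟨h1, h2⟩
    exact ⟨h2, by rwa [inv_inv]⟩

theorem eq_one_of_block_uni {d : ι → ℤ} {g : GL ι F} (h1 : g ∈ blockSub (F := F) d)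
    (h2 : g ∈ uniSub (F := F) d) : g = 1 := by
  apply Units.ext
  rw [Units.val_one]
  ext a b
  by_cases hab : d a ≤ d b
  · rw [h2.1 a b hab, Matrix.one_apply]
  · have hne : a ≠ b := by
      intro h
      rw [h] at hab
      exact hab le_rfl
    rw [Matrix.one_apply_ne hne]
    by_contra hg
    exact hab (le_of_eq (h1.1 a b hg))

end grading

/-! ### The entries of the root elements -/

theorem semN_ne_zero {a : F × F × F} {v : SVec} {n : ℕ} (h : semN a v n ≠ 0) :
    ∃ e ∈ v, e.1 = n := by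
  induction v with
  | nil => exact absurd (semN_nil a n) h
  | cons x v ih =>
    obtain ⟨m, p⟩ := x
    rw [semN_cons] at h
    by_cases hm : m = n
    · exact ⟨(m, p), List.mem_cons_self, hm⟩
    · rw [if_neg hm, zero_add] at h
      obtain ⟨e, he, hen⟩ := ih h
      exact ⟨e, List.mem_cons_of_mem _ he, hen⟩

theorem semN_of_filter {a : F × F × F} {v : SVec} {n : ℕ} {p : Poly}
    (h : (v.filter fun e => decide (e.1 = n)) = [(n, p)]) : semN a v n = pev a p := by
  unfold semN
  have := sum_map_filter (F := F) v (fun e => decide (e.1 = n)) (fun e => pev a e.2)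
  rw [h] at this
  simp only [List.map_cons, List.map_nil, List.sum_cons, List.sum_nil, add_zero,
    decide_eq_true_eq] at this
  rw [this]

theorem x_entry (D : ChevalleyDatum) (r : ℕ) (hr : r < D.nroots) (t : F) (row col : D.Idx) :
    D.x F r t row col = semN ((t, 0, 0) : F × F × F) (xCol D r pX1 (code D col)) (code D row) := by
  have := xMat_eq_sem D ((t, 0, 0) : F × F × F) ⟨r, hr⟩ pX1 row col
  rw [pev_X1] at this
  unfold ChevalleyDatum.x
  rw [dif_pos hr, this]
  rfl

/-! ### The degree -/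

open Classical in
/-- the `J`-degree of the basis vector coded by `n`: the sum of the coefficients of its weight
at the nodes outside `J` -/
noncomputable def deg (D : ChevalleyDatum) (rc : List (List ℤ)) (J : Set ℕ) (n : ℕ) : ℤ :=
  ((List.range D.rank).map fun l => if l ∈ J then 0 else wt D rc n l).sum

open Classical in
theorem sum_lin (J : Set ℕ) (L : List ℕ) (f g h : ℕ → ℤ) (k : ℤ)
    (H : ∀ l ∈ L, f l = g l + k * h l) :
    (L.map fun l => if l ∈ J then 0 else f l).sum
      = (L.map fun l => if l ∈ J then 0 else g l).sum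
        + k * (L.map fun l => if l ∈ J then 0 else h l).sum := by
  induction L with
  | nil => simp
  | cons x L ih =>
    rw [List.map_cons, List.sum_cons, List.map_cons, List.sum_cons, List.map_cons, List.sum_cons,
      ih (fun l hl => H l (List.mem_cons_of_mem _ hl))]
    by_cases hx : x ∈ J
    · rw [if_pos hx, if_pos hx, if_pos hx]; ring
    · rw [if_neg hx, if_neg hx, if_neg hx, H x List.mem_cons_self]; ring

theorem deg_lin (D : ChevalleyDatum) (rc : List (List ℤ)) (J : Set ℕ) (a b c : ℕ) (k : ℤ)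
    (H : ∀ l ∈ List.range D.rank, wt D rc a l = wt D rc b l + k * wt D rc c l) :
    deg D rc J a = deg D rc J b + k * deg D rc J c :=
  sum_lin J _ _ _ _ k H

theorem deg_eq_zero {D : ChevalleyDatum} {rc : List (List ℤ)} (hrc : rcTab D rc) {J : Set ℕ}
    {r : ℕ} (hr : D.InRootSub J r) : deg D rc J (D.rank + r) = 0 := by
  unfold deg
  apply List.sum_eq_zero
  intro x hx
  obtain ⟨l, hl, rfl⟩ := List.mem_map.mp hx
  by_cases hlJ : l ∈ J
  · rw [if_pos hlJ]
  · rw [if_neg hlJ]
    exact (hrc r (List.mem_range.mpr hr.1) l hl).1 (hr.2 l (List.mem_range.mp hl) hlJ)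

open Classical in
theorem deg_pos {D : ChevalleyDatum} {rc : List (List ℤ)} (hrc : rcTab D rc) {J : Set ℕ}
    {r : ℕ} (hr : InUJ D J r) : 0 < deg D rc J (D.rank + r) := by
  obtain ⟨l, hl, hlJ, hpos⟩ := exists_node hr
  have hnn : ∀ x ∈ ((List.range D.rank).map fun l =>
      if l ∈ J then 0 else wt D rc (D.rank + r) l), 0 ≤ x := by
    intro x hx
    obtain ⟨m, hm, rfl⟩ := List.mem_map.mp hx
    by_cases hmJ : m ∈ J
    · rw [if_pos hmJ]
    · rw [if_neg hmJ]
      rcases (cor_nonneg hr.1 m).lt_or_eq with h | h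
      · exact le_of_lt ((hrc r (List.mem_range.mpr hr.1.1) m hm).2 h)
      · exact le_of_eq ((hrc r (List.mem_range.mpr hr.1.1) m hm).1 h.symm).symm
  have hmem : wt D rc (D.rank + r) l ∈ ((List.range D.rank).map fun l =>
      if l ∈ J then 0 else wt D rc (D.rank + r) l) := by
    apply List.mem_map.mpr
    exact ⟨l, List.mem_range.mpr hl, by rw [if_neg hlJ]⟩
  have h1 := List.single_le_sum hnn _ hmem
  have h2 := (hrc r (List.mem_range.mpr hr.1.1) l (List.mem_range.mpr hl)).2 hpos
  unfold deg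
  omega

/-- the nonzero entries of `x_r(t)` off the diagonal raise the degree by a positive multiple of
the degree of `r` -/
theorem x_offdiag {D : ChevalleyDatum} {rc : List (List ℤ)} {r : ℕ} (hg : gradTab D rc r)
    (hr : r < D.nroots) (J : Set ℕ) (t : F) (row col : D.Idx) (hne : D.x F r t row col ≠ 0) :
    row = col ∨ ∃ k : ℤ, 1 ≤ k ∧ deg D rc J (code D row)
      = deg D rc J (code D col) + k * deg D rc J (D.rank + r) := by
  rw [x_entry D r hr] at hne
  obtain ⟨e, he, hen⟩ := semN_ne_zero hne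
  rcases (hg (code D col) (List.mem_range.mpr (code_lt D col))).2 e he with h | ⟨k, hk, h⟩
  · left
    exact code_injective D (hen.symm.trans h)
  · right
    refine ⟨k, ?_, ?_⟩
    · simp only [List.mem_cons, List.not_mem_nil, or_false] at hk
      omega
    · rw [← hen]
      exact deg_lin D rc J _ _ _ k h

theorem x_diag {D : ChevalleyDatum} {rc : List (List ℤ)} {r : ℕ} (hg : gradTab D rc r)
    (hr : r < D.nroots) (t : F) (a : D.Idx) : D.x F r t a a = 1 := by
  rw [x_entry D r hr,
    semN_of_filter (hg (code D a) (List.mem_range.mpr (code_lt D a))).1, pev_one]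

theorem x_blockDiag {D : ChevalleyDatum} {rc : List (List ℤ)} (hrc : rcTab D rc) {r : ℕ}
    (hg : gradTab D rc r) {J : Set ℕ} (hr : D.InRootSub J r) (t : F) :
    BlockDiag (fun a => deg D rc J (code D a)) (D.x F r t) := by
  intro a b hab
  rcases x_offdiag hg hr.1 J t a b hab with h | ⟨k, _, h⟩
  · rw [h]
  · rw [deg_eq_zero hrc hr, mul_zero, add_zero] at h
    exact h

theorem x_uniTri {D : ChevalleyDatum} {rc : List (List ℤ)} (hrc : rcTab D rc) {r : ℕ}
    (hg : gradTab D rc r) {J : Set ℕ} (hr : InUJ D J r) (t : F) :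
    UniTri (fun a => deg D rc J (code D a)) (D.x F r t) := by
  intro a b hab
  by_cases h : a = b
  · subst h
    rw [if_pos rfl, x_diag hg hr.1.1]
  · rw [if_neg h]
    by_contra hne
    rcases x_offdiag hg hr.1.1 J t a b hne with h' | ⟨k, hk, h'⟩
    · exact h h'
    · have hp := deg_pos hrc hr (rc := rc)
      have : 0 < k * deg D rc J (D.rank + r) := by positivity
      simp only at hab
      omega

/-- `U_J ∩ L_J = 1` -/
theorem radical_inf_levi {D : ChevalleyDatum} (h : Hyp D F) (rc : List (List ℤ))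
    (hrc : rcTab D rc) (hg : ∀ r, r < D.nroots → gradTab D rc r)
    (hH : ∀ g ∈ D.diagonalSubgroup F, ∃ d : D.Idx → F,
      (g : Matrix D.Idx D.Idx F) = Matrix.diagonal d) (J : Set ℕ) :
    D.unipotentRadical F J ⊓ D.leviSubgroup F J = ⊥ := by
  have hU : D.unipotentRadical F J ≤ uniSub (F := F) (fun a => deg D rc J (code D a)) := by
    unfold ChevalleyDatum.unipotentRadical
    rw [Subgroup.closure_le]
    rintro g ⟨r, t, hr, hrJ, hgm⟩
    have e := eq_xGL h r t g hgm
    refine ⟨?_, ?_⟩
    · rw [hgm]; exact x_uniTri hrc (hg r hr.1) ⟨hr, hrJ⟩ t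
    · rw [e, xGL_inv_eq, xGL_val]; exact x_uniTri hrc (hg r hr.1) ⟨hr, hrJ⟩ (-t)
  have hdiag : ∀ g ∈ D.diagonalSubgroup F,
      BlockDiag (fun a => deg D rc J (code D a)) (g : Matrix D.Idx D.Idx F) := by
    intro g hgH a b hab
    obtain ⟨d, hd⟩ := hH g hgH
    rw [hd] at hab
    by_cases hab' : a = b
    · rw [hab']
    · rw [Matrix.diagonal_apply_ne _ hab'] at hab
      exact absurd rfl hab
  have hL : D.leviSubgroup F J ≤ blockSub (F := F) (fun a => deg D rc J (code D a)) := by
    unfold ChevalleyDatum.leviSubgroup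
    apply sup_le
    · intro g hgH
      exact ⟨hdiag g hgH, hdiag g⁻¹ (inv_mem hgH)⟩
    · rw [Subgroup.closure_le]
      rintro g ⟨r, t, hr, hgm⟩
      have e := eq_xGL h r t g hgm
      refine ⟨?_, ?_⟩
      · rw [hgm]; exact x_blockDiag hrc (hg r hr.1) hr t
      · rw [e, xGL_inv_eq, xGL_val]; exact x_blockDiag hrc (hg r hr.1) hr (-t)
  rw [eq_bot_iff]
  intro g hgm
  rw [Subgroup.mem_bot]
  exact eq_one_of_block_uni (hL hgm.2) (hU hgm.1)

/-- the Levi decomposition, from the tables and the description of `P_J` by root subgroups -/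
theorem levi_decomposition {D : ChevalleyDatum} (h : Hyp D F) (hall : AllCommF h)
    (hpn : pnTab D) (hsg : ∀ r, r < D.nroots → sgnTab D r) (rc : List (List ℤ))
    (hrc : rcTab D rc) (hg : ∀ r, r < D.nroots → gradTab D rc r)
    (hH1 : ∀ g ∈ D.diagonalSubgroup F, ∀ r, r < D.nroots → ∀ t : F,
      ∃ t' : F, g * xGL h r t * g⁻¹ = xGL h r t')
    (hH2 : ∀ g ∈ D.diagonalSubgroup F, ∃ d : D.Idx → F,
      (g : Matrix D.Idx D.Idx F) = Matrix.diagonal d) (J : Set ℕ)
    (hpar : D.parabolicSubgroup F J = D.diagonalSubgroup F ⊔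
      Subgroup.closure {g : GL D.Idx F | ∃ (r : ℕ) (t : F),
        (D.IsPosRoot r ∨ D.InRootSub J r) ∧ (g : Matrix D.Idx D.Idx F) = D.x F r t}) :
    D.parabolicSubgroup F J ≤ Subgroup.normalizer (D.unipotentRadical F J : Set (GL D.Idx F)) ∧
      D.unipotentRadical F J ⊔ D.leviSubgroup F J = D.parabolicSubgroup F J ∧
      D.unipotentRadical F J ⊓ D.leviSubgroup F J = ⊥ := by
  refine ⟨?_, ?_, ?_⟩
  · rw [hpar]; exact parabolic_le_normalizer h hall hpn hsg hH1 J
  · rw [hpar]; exact radical_sup_levi J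
  · exact radical_inf_levi h rc hrc hg hH2 J

end Cfsg.Agent.Lib.Helper6.ChevLevi
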