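import Mathlib
import Cfsg.Agent.Lib.Helper6.ChevParab
import Cfsg.Prelude.Def_ChevG2
import Cfsg.Prelude.Def_ChevB2
import Cfsg.Prelude.Def_ChevD4
import Cfsg.Prelude.Def_ChevF4
import Cfsg.Prelude.Def_ChevE6
import Cfsg.Prelude.Def_ChevE7
import Cfsg.Prelude.Def_ChevE8

/-!
# Certificates for the parabolic subgroups (helper6)

Generated tables and kernel checks.
-/

set_option autoImplicit false

namespace Cfsg.Agent.Lib.Helper6.ChevParabData

open Cfsg.Lie Cfsg.Agent.Lib.Helper6.ChevParab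

/-- the lowering nodes of the positive roots, type G2 -/
def levG2 : List ℕ :=
  [0, 0, 0, 0, 0, 0, 1, 0, 1, 0, 0, 1]

set_option maxHeartbeats 0 in
set_option maxRecDepth 100000 in
theorem genG2 : genTab chevG2 := by
  decide +kernel

set_option maxHeartbeats 0 in
set_option maxRecDepth 100000 in
theorem levOKG2 : ∀ s ∈ List.range 12, levTab chevG2 levG2 s := by
  decide +kernel

/-- the lowering nodes of the positive roots, type B2 -/
def levB2 : List ℕ :=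
  [0, 0, 0, 0, 1, 0, 1, 0]

set_option maxHeartbeats 0 in
set_option maxRecDepth 100000 in
theorem genB2 : genTab chevB2 := by
  decide +kernel

set_option maxHeartbeats 0 in
set_option maxRecDepth 100000 in
theorem levOKB2 : ∀ s ∈ List.range 8, levTab chevB2 levB2 s := by
  decide +kernel

/-- the lowering nodes of the positive roots, type D4 -/
def levD4 : List ℕ :=
  [0, 0, 0, 0, 0, 0, 0, 0, 0, 0, 0, 0, 3, 2, 1, 1, 1, 2, 0, 0, 0, 0, 0, 1]

set_option maxHeartbeats 0 in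
set_option maxRecDepth 100000 in
theorem genD4 : genTab chevD4 := by
  decide +kernel

set_option maxHeartbeats 0 in
set_option maxRecDepth 100000 in
theorem levOKD4 : ∀ s ∈ List.range 24, levTab chevD4 levD4 s := by
  decide +kernel

/-- the lowering nodes of the positive roots, type F4 -/
def levF4 : List ℕ :=
  [0, 0, 0, 0, 0, 0, 0, 0, 0, 0, 0, 0, 0, 0, 0, 0, 0, 0, 0, 0, 0, 0, 0, 0, 3, 2, 2, 1, 2, 3, 1, 1, 2, 0, 0, 0, 0, 1, 1, 2, 1, 0, 0, 0, 0, 1, 2, 3]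

set_option maxHeartbeats 0 in
set_option maxRecDepth 100000 in
theorem genF4 : genTab chevF4 := by
  decide +kernel

set_option maxHeartbeats 0 in
set_option maxRecDepth 100000 in
theorem levOKF4 : ∀ s ∈ List.range 48, levTab chevF4 levF4 s := by
  decide +kernel

/-- the lowering nodes of the positive roots, type E6 -/
def levE6 : List ℕ :=
  [0, 0, 0, 0, 0, 0, 0, 0, 0, 0, 0, 0, 0, 0, 0, 0, 0, 0, 0, 0, 0, 0, 0, 0, 0, 0, 0, 0, 0, 0, 0, 0, 0, 0, 0, 0, 5, 4, 4, 3, 3, 3, 2, 2, 2, 2, 1, 1, 1, 1, 1, 1, 1, 3, 3, 4, 0, 0, 0, 0, 0, 0, 0, 0, 0, 0, 0, 2, 2, 2, 3, 1]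

set_option maxHeartbeats 0 in
set_option maxRecDepth 100000 in
theorem genE6 : genTab chevE6 := by
  decide +kernel

set_option maxHeartbeats 0 in
set_option maxRecDepth 100000 in
theorem levOKE6 : ∀ s ∈ List.range 72, levTab chevE6 levE6 s := by
  decide +kernel

/-- the lowering nodes of the positive roots, type E7 -/
def levE7 : List ℕ :=
  [0, 0, 0, 0, 0, 0, 0, 0, 0, 0, 0, 0, 0, 0, 0, 0, 0, 0, 0, 0, 0, 0, 0, 0, 0, 0, 0, 0, 0, 0, 0, 0, 0, 0, 0, 0, 0, 0, 0, 0, 0, 0, 0, 0, 0, 0, 0, 0, 0, 0, 0, 0, 0, 0, 0, 0, 0, 0, 0, 0, 0, 0, 0, 6, 5, 5, 4, 4, 4, 3, 3, 3, 3, 2, 2, 2, 2, 2, 1, 1, 1, 1, 1, 1, 1, 1, 1, 3, 3, 3, 4, 4, 5, 0, 0, 0, 0, 0, 0, 0, 0, 0, 0, 0, 0, 0, 0, 0, 0, 2, 2, 2, 2, 2, 2, 3, 3, 3, 4, 1, 1, 1, 1, 3, 2, 0]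

set_option maxHeartbeats 0 in
set_option maxRecDepth 100000 in
theorem genE7 : genTab chevE7 := by
  decide +kernel

set_option maxHeartbeats 0 in
set_option maxRecDepth 100000 in
theorem levOKE7_0 : ∀ s ∈ List.range' 0 60, levTab chevE7 levE7 s := by
  decide +kernel

set_option maxHeartbeats 0 in
set_option maxRecDepth 100000 in
theorem levOKE7_1 : ∀ s ∈ List.range' 60 60, levTab chevE7 levE7 s := by
  decide +kernel

set_option maxHeartbeats 0 in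
set_option maxRecDepth 100000 in
theorem levOKE7_2 : ∀ s ∈ List.range' 120 6, levTab chevE7 levE7 s := by
  decide +kernel

theorem levOKE7 : ∀ s ∈ List.range 126, levTab chevE7 levE7 s := by
  intro s hs
  have hs' : s < 126 := List.mem_range.mp hs
  by_cases h60 : s < 60
  · exact levOKE7_0 s (List.mem_range'_1.mpr ⟨by omega, by omega⟩)
  by_cases h120 : s < 120
  · exact levOKE7_1 s (List.mem_range'_1.mpr ⟨by omega, by omega⟩)
  exact levOKE7_2 s (List.mem_range'_1.mpr ⟨by omega, by omega⟩)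

/-- the lowering nodes of the positive roots, type E8 -/
def levE8 : List ℕ :=
  [0, 0, 0, 0, 0, 0, 0, 0, 0, 0, 0, 0, 0, 0, 0, 0, 0, 0, 0, 0, 0, 0, 0, 0, 0, 0, 0, 0, 0, 0, 0, 0, 0, 0, 0, 0, 0, 0, 0, 0, 0, 0, 0, 0, 0, 0, 0, 0, 0, 0, 0, 0, 0, 0, 0, 0, 0, 0, 0, 0, 0, 0, 0, 0, 0, 0, 0, 0, 0, 0, 0, 0, 0, 0, 0, 0, 0, 0, 0, 0, 0, 0, 0, 0, 0, 0, 0, 0, 0, 0, 0, 0, 0, 0, 0, 0, 0, 0, 0, 0, 0, 0, 0, 0, 0, 0, 0, 0, 0, 0, 0, 0, 0, 0, 0, 0, 0, 0, 0, 0, 7, 6, 6, 5, 5, 5, 4, 4, 4, 4, 3, 3, 3, 3, 3, 2, 2, 2, 2, 2, 2, 1, 1, 1, 1, 1, 1, 1, 1, 1, 1, 1, 3, 3, 3, 3, 4, 4, 4, 5, 5, 6, 0, 0, 0, 0, 0, 0, 0, 0, 0, 0, 0, 0, 0, 0, 0, 0, 0, 0, 0, 0, 0, 0, 2, 2, 2, 2, 2, 2, 2, 2, 2, 2, 3, 3, 3, 3, 3, 3, 4, 4, 4, 5, 1, 1, 1, 1, 1, 1, 1, 1, 1, 1, 3, 3, 3, 3, 4, 2, 2, 2, 2, 2, 3, 1, 0, 0, 0, 0, 0, 0, 2, 0, 1, 3, 4, 5, 6, 7]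

set_option maxHeartbeats 0 in
set_option maxRecDepth 100000 in
theorem genE8 : genTab chevE8 := by
  decide +kernel

set_option maxHeartbeats 0 in
set_option maxRecDepth 100000 in
theorem levOKE8_0 : ∀ s ∈ List.range' 0 60, levTab chevE8 levE8 s := by
  decide +kernel

set_option maxHeartbeats 0 in
set_option maxRecDepth 100000 in
theorem levOKE8_1 : ∀ s ∈ List.range' 60 60, levTab chevE8 levE8 s := by
  decide +kernel

set_option maxHeartbeats 0 in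
set_option maxRecDepth 100000 in
theorem levOKE8_2 : ∀ s ∈ List.range' 120 60, levTab chevE8 levE8 s := by
  decide +kernel

set_option maxHeartbeats 0 in
set_option maxRecDepth 100000 in
theorem levOKE8_3 : ∀ s ∈ List.range' 180 60, levTab chevE8 levE8 s := by
  decide +kernel

theorem levOKE8 : ∀ s ∈ List.range 240, levTab chevE8 levE8 s := by
  intro s hs
  have hs' : s < 240 := List.mem_range.mp hs
  by_cases h60 : s < 60
  · exact levOKE8_0 s (List.mem_range'_1.mpr ⟨by omega, by omega⟩)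
  by_cases h120 : s < 120
  · exact levOKE8_1 s (List.mem_range'_1.mpr ⟨by omega, by omega⟩)
  by_cases h180 : s < 180
  · exact levOKE8_2 s (List.mem_range'_1.mpr ⟨by omega, by omega⟩)
  exact levOKE8_3 s (List.mem_range'_1.mpr ⟨by omega, by omega⟩)

end Cfsg.Agent.Lib.Helper6.ChevParabData
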