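import Mathlib
import Cfsg.Agent.Lib.Helper6.ChevCommOrbit

/-!
# The structure of the unipotent subgroup `U` (helper6)

From the commutator formula: the subgroups `T m` generated by the `X_r`, `r` positive of index at
least `m`, are normalised by all positive root elements, and every element of `T m` is a product
`x_m(t) · g'` with `g' ∈ T (m+1)`; hence every element of `U` is an ordered product over the
positive roots.
-/

set_option autoImplicit false

namespace Cfsg.Agent.Lib.Helper6.ChevUnip

open Cfsg.Lie Cfsg.Agent.Lib.Helper6.ChevWeyl Cfsg.Agent.Lib.Helper6.ChevNorm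
  Cfsg.Agent.Lib.Helper6.ChevCommOrbit

variable {F : Type*} [Field F]

/-- the subgroup generated by the `X_r`, `r` positive of index at least `m` -/
def T (D : ChevalleyDatum) (F : Type*) [Field F] (m : ℕ) : Subgroup (GL D.Idx F) :=
  Subgroup.closure {g : GL D.Idx F | ∃ (r : ℕ) (t : F), D.IsPosRoot r ∧ m ≤ r ∧
    (g : Matrix D.Idx D.Idx F) = D.x F r t}

theorem xGL_mem_T {D : ChevalleyDatum} (h : Hyp D F) (m r : ℕ) (hr : D.IsPosRoot r) (hm : m ≤ r)
    (t : F) : xGL h r t ∈ T D F m :=
  Subgroup.subset_closure ⟨r, t, hr, hm, rfl⟩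

theorem T_mono (D : ChevalleyDatum) {m m' : ℕ} (hm : m ≤ m') : T D F m' ≤ T D F m := by
  unfold T
  apply Subgroup.closure_mono
  rintro g ⟨r, t, hr, hmr, hg⟩
  exact ⟨r, t, hr, le_trans hm hmr, hg⟩

theorem T_zero (D : ChevalleyDatum) : T D F 0 = D.posUnipotent F := by
  unfold T ChevalleyDatum.posUnipotent
  congr 1
  ext g
  constructor
  · rintro ⟨r, t, hr, _, hg⟩; exact ⟨r, t, hr, hg⟩
  · rintro ⟨r, t, hr, hg⟩; exact ⟨r, t, hr, Nat.zero_le _, hg⟩

theorem wordGL_mem_T {D : ChevalleyDatum} (h : Hyp D F) (m : ℕ) (w : List (ℕ × F))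
    (hw : ∀ x ∈ w, D.IsPosRoot x.1 ∧ m ≤ x.1) : wordGL h w ∈ T D F m := by
  unfold wordGL
  apply Subgroup.list_prod_mem
  intro y hy
  obtain ⟨x, hx, rfl⟩ := List.mem_map.mp hy
  exact xGL_mem_T h m x.1 (hw x hx).1 (hw x hx).2 x.2

/-- the table facts about positive roots used here -/
def posTab (D : ChevalleyDatum) (r : ℕ) : Prop :=
  D.IsPosRoot r → (¬ D.IsPosRoot (D.neg r)) ∧
    ∀ s ∈ List.range D.nroots, D.IsPosRoot s → s ≠ r →
      ∀ c ∈ D.commTerms r s, D.IsPosRoot c.1 ∧ s < c.1

instance (D : ChevalleyDatum) (r : ℕ) : Decidable (posTab D r) := by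
  unfold posTab; infer_instance

/-- the table facts for a list of roots -/
def posTabL (D : ChevalleyDatum) (l : List ℕ) : Prop := ∀ r ∈ l, posTab D r

instance (D : ChevalleyDatum) (l : List ℕ) : Decidable (posTabL D l) := by
  unfold posTabL; infer_instance

/-- the commutator formula for all pairs of distinct non-opposite roots -/
def AllComm {D : ChevalleyDatum} (h : Hyp D F) : Prop :=
  ∀ r s, r < D.nroots → s < D.nroots → s ≠ r → s ≠ D.neg r → CommF h r s

theorem xGL_inv_eq {D : ChevalleyDatum} (h : Hyp D F) (r : ℕ) (t : F) :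
    (xGL h r t)⁻¹ = xGL h r (-t) := by
  rw [inv_eq_iff_mul_eq_one]
  apply Units.ext
  rw [Units.val_mul, xGL_val, xGL_val, h.add', add_neg_cancel, h.zero']
  rfl

theorem xGL_mul_eq {D : ChevalleyDatum} (h : Hyp D F) (r : ℕ) (t u : F) :
    xGL h r t * xGL h r u = xGL h r (t + u) :=
  Units.ext (by rw [Units.val_mul, xGL_val, xGL_val, xGL_val, h.add'])

/-- conjugating a generator of `T m` by a positive root element -/
theorem conj_gen_mem_T {D : ChevalleyDatum} (h : Hyp D F) (hc : AllComm h)
    (ht : ∀ r, r < D.nroots → posTab D r) (m r : ℕ) (hr : D.IsPosRoot r) (t : F) (s : ℕ)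
    (hs : D.IsPosRoot s) (hms : m ≤ s) (u : F) :
    xGL h r t * xGL h s u * (xGL h r t)⁻¹ ∈ T D F m := by
  by_cases hsr : s = r
  · subst hsr
    rw [xGL_inv_eq, xGL_mul_eq, xGL_mul_eq]
    exact xGL_mem_T h m s hs hms _
  · obtain ⟨hneg, htab⟩ := ht r hr.1 hr
    have hsn : s ≠ D.neg r := by
      intro e; rw [e] at hs; exact hneg hs
    have e' := hc r s hr.1 hs.1 hsr hsn (-t) u
    have hW : wordGL h (D.commWord F r s (-t) u) ∈ T D F m := by
      apply wordGL_mem_T
      intro x hx
      unfold ChevalleyDatum.commWord at hx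
      obtain ⟨c, hc', rfl⟩ := List.mem_map.mp hx
      obtain ⟨q1, q2⟩ := htab s (List.mem_range.mpr hs.1) hs hsr c hc'
      exact ⟨q1, le_trans hms (le_of_lt q2)⟩
    have hinv := xGL_inv_eq h r t
    have h3 : xGL h r t * xGL h r (-t) = 1 := by
      rw [← hinv]; exact mul_inv_cancel _
    have : xGL h r t * xGL h s u * (xGL h r t)⁻¹
        = xGL h s u * wordGL h (D.commWord F r s (-t) u) := by
      rw [hinv]
      calc xGL h r t * xGL h s u * xGL h r (-t)
          = xGL h r t * (xGL h s u * xGL h r (-t)) := by group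
        _ = xGL h r t * (xGL h r (-t) * xGL h s u
              * wordGL h (D.commWord F r s (-t) u)) := by rw [e']
        _ = (xGL h r t * xGL h r (-t)) * xGL h s u
              * wordGL h (D.commWord F r s (-t) u) := by group
        _ = xGL h s u * wordGL h (D.commWord F r s (-t) u) := by rw [h3, one_mul]
    rw [this]
    exact mul_mem (xGL_mem_T h m s hs hms u) hW

/-- conjugation by a positive root element maps `T m` into itself -/
theorem conj_mem_T {D : ChevalleyDatum} (h : Hyp D F) (hc : AllComm h)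
    (ht : ∀ r, r < D.nroots → posTab D r) (m r : ℕ) (hr : D.IsPosRoot r) (t : F)
    (g : GL D.Idx F) (hg : g ∈ T D F m) : xGL h r t * g * (xGL h r t)⁻¹ ∈ T D F m := by
  unfold T at hg
  induction hg using Subgroup.closure_induction with
  | mem y hy =>
    obtain ⟨s, u, hs, hms, hy⟩ := hy
    rw [eq_xGL h s u y hy]
    exact conj_gen_mem_T h hc ht m r hr t s hs hms u
  | one => simp only [mul_one, mul_inv_cancel]; exact one_mem _
  | mul y z _ _ hy hz =>
    have : xGL h r t * (y * z) * (xGL h r t)⁻¹
        = (xGL h r t * y * (xGL h r t)⁻¹) * (xGL h r t * z * (xGL h r t)⁻¹) := by group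
    rw [this]; exact mul_mem hy hz
  | inv y _ hy =>
    have : xGL h r t * y⁻¹ * (xGL h r t)⁻¹ = (xGL h r t * y * (xGL h r t)⁻¹)⁻¹ := by group
    rw [this]; exact inv_mem hy

/-- every element of `T m` is `x_m(t) · g'` with `g' ∈ T (m+1)` (with `t = 0` if `m` is not a
positive root) -/
theorem exists_factor {D : ChevalleyDatum} (h : Hyp D F) (hc : AllComm h)
    (ht : ∀ r, r < D.nroots → posTab D r) (m : ℕ) (g : GL D.Idx F) (hg : g ∈ T D F m) :
    ∃ (t : F) (g' : GL D.Idx F), g' ∈ T D F (m + 1) ∧ (¬ D.IsPosRoot m → t = 0) ∧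
      g = xGL h m t * g' := by
  have hone : xGL h m (0 : F) = 1 := Units.ext (h.zero' m)
  unfold T at hg
  induction hg using Subgroup.closure_induction'' with
  | mem y hy =>
    obtain ⟨s, u, hs, hms, hy⟩ := hy
    rw [eq_xGL h s u y hy]
    rcases Nat.eq_or_lt_of_le hms with e | e
    · subst e
      exact ⟨u, 1, one_mem _, fun hn => absurd hs hn, (mul_one _).symm⟩
    · exact ⟨0, xGL h s u, xGL_mem_T h _ s hs e u, fun _ => rfl, by rw [hone, one_mul]⟩
  | inv_mem y hy =>
    obtain ⟨s, u, hs, hms, hy⟩ := hy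
    rw [eq_xGL h s u y hy, xGL_inv_eq]
    rcases Nat.eq_or_lt_of_le hms with e | e
    · subst e
      exact ⟨-u, 1, one_mem _, fun hn => absurd hs hn, (mul_one _).symm⟩
    · exact ⟨0, xGL h s (-u), xGL_mem_T h _ s hs e _, fun _ => rfl, by rw [hone, one_mul]⟩
  | one => exact ⟨0, 1, one_mem _, fun _ => rfl, by rw [hone, one_mul]⟩
  | mul y z _ _ hy hz =>
    obtain ⟨t1, a, ha, h1, rfl⟩ := hy
    obtain ⟨t2, b, hb, h2, rfl⟩ := hz
    by_cases hm : D.IsPosRoot m
    · refine ⟨t1 + t2, (xGL h m (-t2) * a * (xGL h m (-t2))⁻¹) * b, ?_, fun hn => absurd hm hn, ?_⟩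
      · exact mul_mem (conj_mem_T h hc ht (m + 1) m hm (-t2) a ha) hb
      · rw [← xGL_mul_eq, xGL_inv_eq, neg_neg]
        have e : xGL h m t2 * xGL h m (-t2) = 1 := by
          rw [xGL_mul_eq, add_neg_cancel]; exact hone
        calc xGL h m t1 * a * (xGL h m t2 * b)
            = xGL h m t1 * (xGL h m t2 * xGL h m (-t2)) * a * (xGL h m t2 * b) := by
              rw [e, mul_one]
          _ = xGL h m t1 * xGL h m t2 * (xGL h m (-t2) * a * xGL h m t2 * b) := by group
    · rw [h1 hm, h2 hm, hone, one_mul, one_mul]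
      exact ⟨0, a * b, mul_mem ha hb, fun _ => rfl, by rw [hone, one_mul]⟩

/-! ### Ordered products -/

/-- the positive roots of index at least `m`, in increasing order -/
def posFrom (D : ChevalleyDatum) (m : ℕ) : List ℕ :=
  (List.range' m (D.nroots - m)).filter fun r => decide (D.IsPosRoot r)

theorem posFrom_zero (D : ChevalleyDatum) : posFrom D 0 = D.posRoots := by
  unfold posFrom ChevalleyDatum.posRoots
  rw [List.range_eq_range', Nat.sub_zero]

theorem posFrom_of_le (D : ChevalleyDatum) (m : ℕ) (hm : D.nroots ≤ m) : posFrom D m = [] := by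
  unfold posFrom
  rw [Nat.sub_eq_zero_of_le hm]
  rfl

theorem posFrom_succ (D : ChevalleyDatum) (m : ℕ) (hm : m < D.nroots) :
    posFrom D m = if D.IsPosRoot m then m :: posFrom D (m + 1) else posFrom D (m + 1) := by
  unfold posFrom
  have e : D.nroots - m = (D.nroots - (m + 1)) + 1 := by omega
  rw [e, List.range'_succ, List.filter_cons]
  by_cases hp : D.IsPosRoot m
  · rw [if_pos hp, if_pos (decide_eq_true hp)]
  · rw [if_neg hp, if_neg (by simpa using hp)]

theorem mem_posFrom {D : ChevalleyDatum} {m r : ℕ} (hr : r ∈ posFrom D m) :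
    D.IsPosRoot r ∧ m ≤ r := by
  unfold posFrom at hr
  rw [List.mem_filter, List.mem_range'_1, decide_eq_true_eq] at hr
  exact ⟨hr.2, hr.1.1⟩

theorem T_of_le (D : ChevalleyDatum) (m : ℕ) (hm : D.nroots ≤ m) : T D F m = ⊥ := by
  unfold T
  rw [Subgroup.closure_eq_bot_iff]
  rintro g ⟨r, t, hr, hmr, _⟩
  exact absurd (lt_of_lt_of_le hr.1 (le_trans hm hmr)) (lt_irrefl _)

/-- every element of `T m` is an ordered product -/
theorem exists_word {D : ChevalleyDatum} (h : Hyp D F) (hc : AllComm h)
    (ht : ∀ r, r < D.nroots → posTab D r) :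
    ∀ (k m : ℕ), m + k = D.nroots → ∀ g ∈ T D F m,
      ∃ t : ℕ → F, g = wordGL h ((posFrom D m).map fun r => (r, t r)) := by
  intro k
  induction k with
  | zero =>
    intro m hm g hg
    rw [T_of_le D m (by omega), Subgroup.mem_bot] at hg
    refine ⟨fun _ => 0, ?_⟩
    rw [posFrom_of_le D m (by omega), hg]
    rfl
  | succ k ih =>
    intro m hm g hg
    obtain ⟨t0, g', hg', h0, rfl⟩ := exists_factor h hc ht m g hg
    obtain ⟨t', rfl⟩ := ih (m + 1) (by omega) g' hg'
    rw [posFrom_succ D m (by omega)]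
    by_cases hp : D.IsPosRoot m
    · rw [if_pos hp]
      refine ⟨Function.update t' m t0, ?_⟩
      rw [List.map_cons, Function.update_self]
      have e : (posFrom D (m + 1)).map (fun r => (r, Function.update t' m t0 r))
          = (posFrom D (m + 1)).map (fun r => (r, t' r)) := by
        apply List.map_congr_left
        intro r hr
        have := (mem_posFrom hr).2
        rw [Function.update_of_ne (by omega)]
      rw [e]
      unfold wordGL
      rw [List.map_cons, List.prod_cons]
    · rw [if_neg hp, h0 hp]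
      refine ⟨t', ?_⟩
      have hone : xGL h m (0 : F) = 1 := Units.ext (h.zero' m)
      rw [hone, one_mul]

/-! ### Uniqueness: the coefficient of the first factor -/

open Cfsg.Agent.Lib.Helper6.ChevSparse

theorem semN_eq_zero_of_forall_ne (a : F × F × F) (v : SVec) (n : ℕ) (hv : ∀ x ∈ v, x.1 ≠ n) :
    semN a v n = 0 := by
  unfold semN
  apply List.sum_eq_zero
  intro y hy
  obtain ⟨x, hx, rfl⟩ := List.mem_map.mp hy
  rw [if_neg (hv x hx)]

/-- the columns of coded index at least `lo` have no entries in rows of coded index below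
`lo` -/
def WS (D : ChevalleyDatum) (lo : ℕ) (g : Matrix D.Idx D.Idx F) : Prop :=
  ∀ row col : D.Idx, lo ≤ code D col → code D row < lo → g row col = 0

theorem WS_one (D : ChevalleyDatum) (lo : ℕ) : WS D lo (1 : Matrix D.Idx D.Idx F) := by
  intro row col h1 h2
  apply Matrix.one_apply_ne
  intro e
  rw [e] at h2
  omega

theorem WS_mul (D : ChevalleyDatum) (lo : ℕ) (g g' : Matrix D.Idx D.Idx F) (hg : WS D lo g)
    (hg' : WS D lo g') : WS D lo (g * g') := by
  intro row col h1 h2
  rw [Matrix.mul_apply]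
  apply Finset.sum_eq_zero
  intro k _
  by_cases hk : code D k < lo
  · rw [hg' k col h1 hk, mul_zero]
  · rw [hg row k (by omega) h2, zero_mul]

/-- upper triangularity of `x_s` for a positive root `s`, apart from the column of `e_{-s}` -/
def triTab (D : ChevalleyDatum) (s : ℕ) : Prop :=
  D.IsPosRoot s →
    ∀ c ∈ List.range' D.rank D.nroots, c ≠ D.rank + D.neg s → ∀ e ∈ xCol D s pX1 c, c ≤ e.1

instance (D : ChevalleyDatum) (s : ℕ) : Decidable (triTab D s) := by
  unfold triTab; infer_instance

/-- the table facts for a list of roots -/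
def triTabL (D : ChevalleyDatum) (l : List ℕ) : Prop := ∀ s ∈ l, triTab D s

instance (D : ChevalleyDatum) (l : List ℕ) : Decidable (triTabL D l) := by
  unfold triTabL; infer_instance

/-- negation reverses the order of the root indices, and is not the identity -/
def negTab (D : ChevalleyDatum) : Prop :=
  ∀ r ∈ List.range D.nroots, D.neg r = D.nroots - 1 - r ∧ D.neg r ≠ r

instance (D : ChevalleyDatum) : Decidable (negTab D) := by
  unfold negTab; infer_instance

theorem WS_x (D : ChevalleyDatum) (hn : negTab D) (s : ℕ) (hs : D.IsPosRoot s)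
    (htri : triTab D s) (m : ℕ) (hm : m < D.nroots) (hms : m < s) (u : F) :
    WS D (D.rank + D.neg m) (D.x F s u) := by
  intro row col h1 h2
  have hx := xMat_eq_sem D ((u, (0 : F), (0 : F)) : F × F × F) ⟨s, hs.1⟩ pX1 row col
  rw [pev_X1] at hx
  unfold ChevalleyDatum.x
  rw [dif_pos hs.1]
  simp only at hx
  rw [hx]
  apply semN_eq_zero_of_forall_ne
  intro e he
  have hcl := code_lt D col
  have hneg_s := (hn s (List.mem_range.mpr hs.1)).1
  have hneg_m := (hn m (List.mem_range.mpr hm)).1
  have hc1 : code D col ∈ List.range' D.rank D.nroots := by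
    rw [List.mem_range'_1]; omega
  have hc2 : code D col ≠ D.rank + D.neg s := by
    have := hs.1
    omega
  have := htri hs (code D col) hc1 hc2 e he
  omega

theorem WS_of_mem_T {D : ChevalleyDatum} (h : Hyp D F) (hn : negTab D)
    (htri : ∀ s, s < D.nroots → triTab D s) (m : ℕ) (hm : m < D.nroots) (g : GL D.Idx F)
    (hg : g ∈ T D F (m + 1)) : WS D (D.rank + D.neg m) (g : Matrix D.Idx D.Idx F) := by
  unfold T at hg
  induction hg using Subgroup.closure_induction'' with
  | mem y hy =>
    obtain ⟨s, u, hs, hms, hy⟩ := hy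
    rw [hy]
    exact WS_x D hn s hs (htri s hs.1) m hm (by omega) u
  | inv_mem y hy =>
    obtain ⟨s, u, hs, hms, hy⟩ := hy
    have : ((y⁻¹ : GL D.Idx F) : Matrix D.Idx D.Idx F) = D.x F s (-u) := by
      rw [eq_xGL h s u y hy, xGL_inv_eq, xGL_val]
    rw [this]
    exact WS_x D hn s hs (htri s hs.1) m hm (by omega) (-u)
  | one => exact WS_one D _
  | mul y z _ _ hy hz =>
    rw [Units.val_mul]
    exact WS_mul D _ _ _ hy hz

/-- Bezout certificates for the coroot coefficients of the positive roots -/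
def bezTab (D : ChevalleyDatum) (bez : List (List ℤ)) (r : ℕ) : Prop :=
  D.IsPosRoot r →
    ((List.range D.rank).map fun i =>
      (bez.getD r []).getD i 0 * (D.coroot.getD r #[]).getD i 0).sum = 1

instance (D : ChevalleyDatum) (bez : List (List ℤ)) (r : ℕ) : Decidable (bezTab D bez r) := by
  unfold bezTab; infer_instance

theorem cast_sum_mul_eq_zero (b m : ℕ → ℤ) (c : F) (l : List ℕ)
    (hl : ∀ i ∈ l, ((m i : ℤ) : F) * c = 0) :
    (((l.map fun i => b i * m i).sum : ℤ) : F) * c = 0 := by
  induction l with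
  | nil => simp
  | cons i l ih =>
    rw [List.map_cons, List.sum_cons, Int.cast_add, Int.cast_mul, add_mul, mul_assoc,
      hl i List.mem_cons_self, mul_zero, zero_add]
    exact ih (fun j hj => hl j (List.mem_cons_of_mem _ hj))

/-- the entries of `x_m(c)` in the column of `e_{-m}` and the Cartan rows -/
theorem x_entry_cartan (D : ChevalleyDatum) (hn : negTab D) (m : ℕ) (hm : m < D.nroots) (c : F)
    (i : Fin D.rank) (hnm : D.neg m < D.nroots) :
    D.x F m c (Sum.inl i) (Sum.inr ⟨D.neg m, hnm⟩)
      = (((D.coroot.getD m #[]).getD i.val 0 : ℤ) : F) * c := by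
  have hx := xMat_eq_sem D ((c, (0 : F), (0 : F)) : F × F × F) ⟨m, hm⟩ pX1 (Sum.inl i)
    (Sum.inr ⟨D.neg m, hnm⟩)
  rw [pev_X1] at hx
  unfold ChevalleyDatum.x
  rw [dif_pos hm]
  simp only at hx
  rw [hx, code_inr, sem_inl]
  have hne := (hn m (List.mem_range.mpr hm)).2
  unfold xCol
  rw [if_neg (by omega), if_neg (by simp only [Nat.add_sub_cancel_left]; exact hne),
    if_pos (by simp only [Nat.add_sub_cancel_left]; rfl), semN_append, semN_range, if_pos i.isLt,
    pev_smul, pev_X1]
  have : semN ((c, (0 : F), (0 : F)) : F × F × F)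
      [(D.rank + D.neg m, pone), (D.rank + m, pneg (pmul pX1 pX1))] i.val = 0 := by
    apply semN_eq_zero_of_forall_ne
    intro x hx
    have := i.isLt
    simp only [List.mem_cons, List.not_mem_nil, or_false] at hx
    rcases hx with rfl | rfl <;> simp only <;> omega
  rw [this, add_zero]

/-- `X_m ∩ T (m+1) = 1` -/
theorem coeff_zero_of_mem_T {D : ChevalleyDatum} (h : Hyp D F) (hn : negTab D)
    (htri : ∀ s, s < D.nroots → triTab D s) (bez : List (List ℤ))
    (hb : ∀ r, r < D.nroots → bezTab D bez r) (m : ℕ) (hm : D.IsPosRoot m) (c : F)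
    (hc : xGL h m c ∈ T D F (m + 1)) : c = 0 := by
  have hws := WS_of_mem_T h hn htri m hm.1 _ hc
  rw [xGL_val] at hws
  have hneg := (hn m (List.mem_range.mpr hm.1)).1
  have hnm : D.neg m < D.nroots := by have := hm.1; omega
  have hz : ∀ i ∈ List.range D.rank, (((D.coroot.getD m #[]).getD i 0 : ℤ) : F) * c = 0 := by
    intro i hi
    have hi' := List.mem_range.mp hi
    rw [← x_entry_cartan D hn m hm.1 c ⟨i, hi'⟩ hnm]
    apply hws
    · rw [code_inr]
    · rw [code_inl]; simp only; omega
  have h1 := cast_sum_mul_eq_zero (fun i => (bez.getD m []).getD i 0)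
    (fun i => (D.coroot.getD m #[]).getD i 0) c (List.range D.rank) hz
  rw [hb m hm.1 hm] at h1
  simpa using h1

/-- uniqueness of the coefficients of an ordered product -/
theorem word_unique {D : ChevalleyDatum} (h : Hyp D F) (hn : negTab D)
    (htri : ∀ s, s < D.nroots → triTab D s) (bez : List (List ℤ))
    (hb : ∀ r, r < D.nroots → bezTab D bez r) :
    ∀ (k m : ℕ), m + k = D.nroots → ∀ t t' : ℕ → F,
      wordGL h ((posFrom D m).map fun r => (r, t r))
        = wordGL h ((posFrom D m).map fun r => (r, t' r)) →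
      ∀ r ∈ posFrom D m, t r = t' r := by
  intro k
  induction k with
  | zero =>
    intro m hm t t' _ r hr
    rw [posFrom_of_le D m (by omega)] at hr
    exact absurd hr List.not_mem_nil
  | succ k ih =>
    intro m hm t t' he r hr
    rw [posFrom_succ D m (by omega)] at he hr
    by_cases hp : D.IsPosRoot m
    · rw [if_pos hp] at he hr
      have hW : ∀ t : ℕ → F, wordGL h ((posFrom D (m + 1)).map fun r => (r, t r))
          ∈ T D F (m + 1) := by
        intro t
        apply wordGL_mem_T
        intro x hx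
        obtain ⟨r, hr, rfl⟩ := List.mem_map.mp hx
        exact mem_posFrom hr
      have e1 : ∀ t : ℕ → F, wordGL h ((m :: posFrom D (m + 1)).map fun r => (r, t r))
          = xGL h m (t m) * wordGL h ((posFrom D (m + 1)).map fun r => (r, t r)) := by
        intro t
        unfold wordGL
        rw [List.map_cons, List.map_cons, List.prod_cons]
      rw [e1 t, e1 t'] at he
      have h2 : xGL h m (-(t' m) + t m)
          = wordGL h ((posFrom D (m + 1)).map fun r => (r, t' r))
            * (wordGL h ((posFrom D (m + 1)).map fun r => (r, t r)))⁻¹ := by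
        rw [← xGL_mul_eq, ← xGL_inv_eq, eq_mul_inv_iff_mul_eq, mul_assoc, he, ← mul_assoc,
          inv_mul_cancel, one_mul]
      have h3 : -(t' m) + t m = 0 :=
        coeff_zero_of_mem_T h hn htri bez hb m hp _
          (by rw [h2]; exact mul_mem (hW t') (inv_mem (hW t)))
      have h4 : t m = t' m := by
        have := eq_neg_of_add_eq_zero_right h3
        rw [neg_neg] at this
        exact this
      rw [h4] at he
      have he' := mul_left_cancel he
      rcases List.mem_cons.mp hr with rfl | hr'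
      · exact h4
      · exact ih (m + 1) (by omega) t t' he' r hr'
    · rw [if_neg hp] at he hr
      exact ih (m + 1) (by omega) t t' he r hr

/-! ### The final statements -/

/-- all table facts used for the structure of `U` -/
structure UTabs (D : ChevalleyDatum) (bez : List (List ℤ)) : Prop where
  pos : ∀ r, r < D.nroots → posTab D r
  tri : ∀ s, s < D.nroots → triTab D s
  neg : negTab D
  bez : ∀ r, r < D.nroots → bezTab D bez r

/-- the ordered product of a coefficient family -/
def prodU {D : ChevalleyDatum} (h : Hyp D F) (t : ℕ → F) : GL D.Idx F :=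
  wordGL h (D.posRoots.map fun r => (r, t r))

theorem prodU_mem {D : ChevalleyDatum} (h : Hyp D F) (t : ℕ → F) :
    prodU h t ∈ D.posUnipotent F := by
  rw [← T_zero]
  apply wordGL_mem_T
  intro x hx
  obtain ⟨r, hr, rfl⟩ := List.mem_map.mp hx
  exact ⟨mem_posRoots.mp hr, Nat.zero_le _⟩

theorem prodU_val {D : ChevalleyDatum} (h : Hyp D F) (t : ℕ → F) :
    ((prodU h t : GL D.Idx F) : Matrix D.Idx D.Idx F)
      = D.wordMat F (D.posRoots.map fun r => (r, t r)) :=
  wordGL_val h _

theorem prodU_surj {D : ChevalleyDatum} (h : Hyp D F) (hc : AllComm h) (bez : List (List ℤ))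
    (tabs : UTabs D bez) (g : GL D.Idx F) (hg : g ∈ D.posUnipotent F) :
    ∃ t : ℕ → F, (∀ r, ¬ D.IsPosRoot r → t r = 0) ∧ g = prodU h t := by
  rw [← T_zero] at hg
  obtain ⟨t, ht⟩ := exists_word h hc tabs.pos D.nroots 0 (by omega) g hg
  rw [posFrom_zero] at ht
  refine ⟨fun r => if D.IsPosRoot r then t r else 0, fun r hr => if_neg hr, ?_⟩
  rw [ht]
  unfold prodU
  congr 1
  apply List.map_congr_left
  intro r hr
  simp only [if_pos (mem_posRoots.mp hr)]

theorem prodU_inj {D : ChevalleyDatum} (h : Hyp D F) (bez : List (List ℤ))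
    (tabs : UTabs D bez) (t t' : ℕ → F) (ht : ∀ r, ¬ D.IsPosRoot r → t r = 0)
    (ht' : ∀ r, ¬ D.IsPosRoot r → t' r = 0) (he : prodU h t = prodU h t') : t = t' := by
  funext r
  by_cases hr : D.IsPosRoot r
  · unfold prodU at he
    rw [← posFrom_zero] at he
    have := word_unique h tabs.neg tabs.tri bez tabs.bez D.nroots 0 (by omega) t t' he r
    apply this
    rw [posFrom_zero]
    exact mem_posRoots.mpr hr
  · rw [ht r hr, ht' r hr]

/-- unique expression of the elements of `U` as ordered products -/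
theorem unique_product {D : ChevalleyDatum} (h : Hyp D F) (hc : AllComm h) (bez : List (List ℤ))
    (tabs : UTabs D bez) :
    (∀ g : GL D.Idx F, g ∈ D.posUnipotent F →
      ∃! t : ℕ → F, (∀ r, ¬ D.IsPosRoot r → t r = 0) ∧
        (g : Matrix D.Idx D.Idx F) = D.wordMat F (D.posRoots.map fun r => (r, t r))) ∧
    (∀ t : ℕ → F, ∃ g : GL D.Idx F, g ∈ D.posUnipotent F ∧
      (g : Matrix D.Idx D.Idx F) = D.wordMat F (D.posRoots.map fun r => (r, t r))) := by
  constructor
  · intro g hg
    obtain ⟨t, ht, rfl⟩ := prodU_surj h hc bez tabs g hg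
    refine ⟨t, ⟨ht, prodU_val h t⟩, ?_⟩
    rintro t' ⟨ht', he⟩
    apply prodU_inj h bez tabs t' t ht' ht
    apply Units.ext
    rw [prodU_val, ← he]
  · intro t
    exact ⟨prodU h t, prodU_mem h t, prodU_val h t⟩

/-- the order of `U` over a finite field -/
theorem card_posUnipotent [Fintype F] {D : ChevalleyDatum} (h : Hyp D F) (hc : AllComm h)
    (bez : List (List ℤ)) (tabs : UTabs D bez) (hlen : D.posRoots.length = D.nroots / 2) :
    Nat.card (D.posUnipotent F) = Fintype.card F ^ (D.nroots / 2) := by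
  classical
  let P : Finset ℕ := D.posRoots.toFinset
  have hP : ∀ r, r ∈ P ↔ D.IsPosRoot r := by
    intro r
    rw [List.mem_toFinset]
    exact mem_posRoots
  have hcard : P.card = D.nroots / 2 := by
    rw [List.toFinset_card_of_nodup, hlen]
    unfold ChevalleyDatum.posRoots
    exact List.Nodup.filter _ List.nodup_range
  let ext : (↥P → F) → ℕ → F := fun f r => if hr : r ∈ P then f ⟨r, hr⟩ else 0
  have hext : ∀ f r, ¬ D.IsPosRoot r → ext f r = 0 := by
    intro f r hr
    exact dif_neg (fun hh => hr ((hP r).mp hh))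
  let Ψ : (↥P → F) → ↥(D.posUnipotent F) := fun f => ⟨prodU h (ext f), prodU_mem h _⟩
  have hinj : Function.Injective Ψ := by
    intro f f' he
    have he' : prodU h (ext f) = prodU h (ext f') := congrArg Subtype.val he
    have := prodU_inj h bez tabs _ _ (hext f) (hext f') he'
    funext x
    have hx := congrFun this x.val
    simp only [ext, dif_pos x.2] at hx
    exact hx
  have hsurj : Function.Surjective Ψ := by
    rintro ⟨g, hg⟩
    obtain ⟨t, ht, rfl⟩ := prodU_surj h hc bez tabs g hg
    refine ⟨fun x => t x.val, ?_⟩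
    apply Subtype.ext
    show prodU h (ext fun x => t x.val) = prodU h t
    congr 1
    funext r
    by_cases hr : r ∈ P
    · simp only [ext, dif_pos hr]
    · simp only [ext, dif_neg hr]
      exact (ht r (fun hh => hr ((hP r).mpr hh))).symm
  rw [← Nat.card_congr (Equiv.ofBijective Ψ ⟨hinj, hsurj⟩), Nat.card_eq_fintype_card,
    Fintype.card_fun, Fintype.card_coe, hcard]

end Cfsg.Agent.Lib.Helper6.ChevUnip
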