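import Mathlib
import Cfsg.Prelude.Def_OddOrderLocal
import Cfsg.Agent.Lib.Helper13.Hall2
import Cfsg.Agent.Lib.Helper13.CoprimeSylow
import Cfsg.Agent.Lib.Helper2.SchurZassenhaus
import Cfsg.Agent.Lib.Helper9.Fitting

/-!
Coprime action and Hall subgroups of a solvable group (helper6): existence, conjugacy and
dominance of `A`-invariant Hall `π`-subgroups, for `Cfsg.IsPiHallOf`.
Built on helper13's Hall theorems and Glauberman's lemma.
-/

set_option autoImplicit false

namespace Cfsg.Agent.Lib.Helper6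

open Cfsg.Agent.Lib.Helper13
open scoped Pointwise

universe u

section basic

variable {X : Type u} [Group X]

theorem isPiHallOf_iff {π : Set ℕ} {H G : Subgroup X} :
    Cfsg.IsPiHallOf π H G ↔ H ≤ G ∧ PiNum π (Nat.card H) ∧ PiNum πᶜ (H.relIndex G) := by
  constructor
  · rintro ⟨h1, h2, h3⟩
    exact ⟨h1, h2, fun p hp hd hpi => h3 p hp hpi hd⟩
  · rintro ⟨h1, h2, h3⟩
    exact ⟨h1, h2, fun p hp hpi hd => h3 p hp hd hpi⟩

theorem card_mul_relIndex_of_le {H G : Subgroup X} (h : H ≤ G) :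
    Nat.card H * H.relIndex G = Nat.card G := by
  have := Subgroup.card_mul_index (H.subgroupOf G)
  rwa [card_subgroupOf_of_le h] at this

theorem piNum_eq_of_mul_eq {π : Set ℕ} {a1 b1 a2 b2 : ℕ} (ha1 : PiNum π a1) (hb1 : PiNum πᶜ b1)
    (ha2 : PiNum π a2) (hb2 : PiNum πᶜ b2) (h : a1 * b1 = a2 * b2) : a1 = a2 := by
  apply Nat.dvd_antisymm
  · exact (coprime_of_piNum ha1 hb2).dvd_of_dvd_mul_right (h ▸ dvd_mul_right a1 b1)
  · exact (coprime_of_piNum ha2 hb1).dvd_of_dvd_mul_right (h ▸ dvd_mul_right a2 b2)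

theorem piNum_eq_of_mul_eq' {π : Set ℕ} {a1 b1 a2 b2 : ℕ} (ha1 : PiNum π a1) (hb1 : PiNum πᶜ b1)
    (ha2 : PiNum π a2) (hb2 : PiNum πᶜ b2) (h : a1 * b1 = a2 * b2) : b1 = b2 := by
  have h' : b1 * a1 = b2 * a2 := by rw [mul_comm, h, mul_comm]
  have ha1' : PiNum πᶜᶜ a1 := by rwa [compl_compl]
  have ha2' : PiNum πᶜᶜ a2 := by rwa [compl_compl]
  exact piNum_eq_of_mul_eq hb1 ha1' hb2 ha2' h'

theorem hall_card_eq {π : Set ℕ} {G H1 H2 : Subgroup X} (h1 : Cfsg.IsPiHallOf π H1 G)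
    (h2 : Cfsg.IsPiHallOf π H2 G) : Nat.card H1 = Nat.card H2 := by
  obtain ⟨hle1, hp1, hq1⟩ := isPiHallOf_iff.mp h1
  obtain ⟨hle2, hp2, hq2⟩ := isPiHallOf_iff.mp h2
  apply piNum_eq_of_mul_eq hp1 hq1 hp2 hq2
  rw [card_mul_relIndex_of_le hle1, card_mul_relIndex_of_le hle2]

theorem relIndex_cj [Finite X] {x : X} {H G : Subgroup X} (hx : x ∈ Subgroup.normalizer (G : Set X))
    (hle : H ≤ G) : (MulAut.conj x • H).relIndex G = H.relIndex G := by
  have hle' : MulAut.conj x • H ≤ G := cj_le_of_mem_normalizer hx hle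
  have e1 := card_mul_relIndex_of_le hle'
  have e2 := card_mul_relIndex_of_le hle
  rw [card_cj, ← e2] at e1
  exact Nat.eq_of_mul_eq_mul_left Nat.card_pos e1

theorem isPiHallOf_cj [Finite X] {π : Set ℕ} {x : X} {H G : Subgroup X}
    (hx : x ∈ Subgroup.normalizer (G : Set X)) (h : Cfsg.IsPiHallOf π H G) :
    Cfsg.IsPiHallOf π (MulAut.conj x • H) G := by
  obtain ⟨hle, hp, hq⟩ := isPiHallOf_iff.mp h
  refine isPiHallOf_iff.mpr ⟨cj_le_of_mem_normalizer hx hle, ?_, ?_⟩
  · rw [card_cj]; exact hp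
  · rw [relIndex_cj hx hle]; exact hq

theorem hall_exists' [Finite X] (π : Set ℕ) (G : Subgroup X) (hsolv : Group.IsSolvable G) :
    ∃ H : Subgroup X, Cfsg.IsPiHallOf π H G := by
  haveI := hsolv
  obtain ⟨H', h1, h2⟩ := hall_exists π ↥G
  refine ⟨H'.map G.subtype, isPiHallOf_iff.mpr ⟨Subgroup.map_subtype_le _, ?_, ?_⟩⟩
  · rw [Subgroup.card_map_of_injective G.subtype_injective]; exact h1
  · have : (H'.map G.subtype).relIndex G = H'.index := by
      show ((H'.map G.subtype).comap G.subtype).index = _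
      rw [Subgroup.comap_map_eq_self_of_injective G.subtype_injective]
    rw [this]; exact h2

theorem hall_trans [Finite X] {π : Set ℕ} {G H1 H2 : Subgroup X} (hsolv : Group.IsSolvable G)
    (h1 : Cfsg.IsPiHallOf π H1 G) (h2 : Cfsg.IsPiHallOf π H2 G) :
    ∃ g ∈ G, MulAut.conj g • H1 = H2 := by
  haveI := hsolv
  obtain ⟨hle1, hp1, hq1⟩ := isPiHallOf_iff.mp h1
  obtain ⟨hle2, hp2, hq2⟩ := isPiHallOf_iff.mp h2
  have hcard : Nat.card H2 = Nat.card H1 := (hall_card_eq h1 h2).symm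
  have hH : (Nat.card (H1.subgroupOf G)).Coprime (H1.subgroupOf G).index := by
    rw [card_subgroupOf_of_le hle1]; exact coprime_of_piNum hp1 hq1
  obtain ⟨g, hg⟩ := hall_conj (H1.subgroupOf G) (H2.subgroupOf G) hH
    (by rw [card_subgroupOf_of_le hle2, card_subgroupOf_of_le hle1, hcard])
  refine ⟨g, g.2, ?_⟩
  have := congrArg (Subgroup.map G.subtype) hg
  rw [map_cj, Subgroup.map_subgroupOf_eq_of_le hle1, Subgroup.map_subgroupOf_eq_of_le hle2] at this
  exact this

/-- **Coprime action, Hall subgroups (a)**: there is an `A`-invariant Hall `π`-subgroup. -/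
theorem hall_a [Finite X] (A G : Subgroup X) (hAG : A ≤ Subgroup.normalizer (G : Set X))
    (hcop : (Nat.card A).Coprime (Nat.card G)) (hsolv : Group.IsSolvable G) (π : Set ℕ) :
    ∃ H : Subgroup X, Cfsg.IsPiHallOf π H G ∧ A ≤ Subgroup.normalizer (H : Set X) := by
  let _ : MulAction X (Subgroup X) := MulAction.compHom (Subgroup X) (MulAut.conj : X →* MulAut X)
  have hsmul : ∀ (g : X) (P : Subgroup X), g • P = MulAut.conj g • P := fun _ _ => rfl
  obtain ⟨H, hH, hfix⟩ := glauberman_exists A G hAG hcop (Or.inr hsolv)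
    {H : Subgroup X | Cfsg.IsPiHallOf π H G} (hall_exists' π G hsolv)
    (fun x hx y hy => by
      obtain ⟨g, hg, h⟩ := hall_trans hsolv hx hy
      exact ⟨g, hg, by rw [hsmul]; exact h⟩)
    (fun k hk x hx => by rw [hsmul]; exact isPiHallOf_cj (Subgroup.le_normalizer hk) hx)
    (fun a ha x hx => by rw [hsmul]; exact isPiHallOf_cj (hAG ha) hx)
  refine ⟨H, hH, fun a ha => ?_⟩
  rw [← cj_eq_self_iff_mem_normalizer]
  exact hfix a ha

/-- **Coprime action, Hall subgroups (b)**: two `A`-invariant Hall `π`-subgroups are conjugate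
under `C_G(A)`. -/
theorem hall_b [Finite X] (A G : Subgroup X) (hAG : A ≤ Subgroup.normalizer (G : Set X))
    (hcop : (Nat.card A).Coprime (Nat.card G)) (hsolv : Group.IsSolvable G) (π : Set ℕ)
    (H1 H2 : Subgroup X) (h1 : Cfsg.IsPiHallOf π H1 G) (hA1 : A ≤ Subgroup.normalizer (H1 : Set X))
    (h2 : Cfsg.IsPiHallOf π H2 G) (hA2 : A ≤ Subgroup.normalizer (H2 : Set X)) :
    ∃ c ∈ G ⊓ Subgroup.centralizer (A : Set X), MulAut.conj c • H1 = H2 := by
  let _ : MulAction X (Subgroup X) := MulAction.compHom (Subgroup X) (MulAut.conj : X →* MulAut X)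
  have hsmul : ∀ (g : X) (P : Subgroup X), g • P = MulAut.conj g • P := fun _ _ => rfl
  obtain ⟨g, hg, h⟩ := hall_trans hsolv h1 h2
  obtain ⟨c, hc, hc'⟩ := glauberman_conj A G hAG hcop (Or.inr hsolv) H1 H2
    (fun a ha => by rw [hsmul]; exact cj_eq_self_iff_mem_normalizer.mpr (hA1 ha))
    (fun a ha => by rw [hsmul]; exact cj_eq_self_iff_mem_normalizer.mpr (hA2 ha))
    ⟨g, hg, by rw [hsmul]; exact h⟩
  exact ⟨c, hc, hc'⟩

theorem card_comap_mk' (N : Subgroup X) [N.Normal] (S : Subgroup (X ⧸ N)) :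
    Nat.card (S.comap (QuotientGroup.mk' N)) = Nat.card N * Nat.card S :=
  QuotientGroup.card_preimage_mk N S

theorem card_sup_dvd_mul'' (H K : Subgroup X) [K.Normal] :
    Nat.card (H ⊔ K : Subgroup X) ∣ Nat.card H * Nat.card K := by
  have h1 : (⊥ : Subgroup X).relIndex K * K.relIndex (H ⊔ K) = (⊥ : Subgroup X).relIndex (H ⊔ K) :=
    Subgroup.relIndex_mul_relIndex _ _ _ bot_le le_sup_right
  rw [Subgroup.relIndex_bot_left, Subgroup.relIndex_bot_left, Subgroup.relIndex_sup_right] at h1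
  rw [← h1, mul_comm]
  exact Nat.mul_dvd_mul_right (Subgroup.relIndex_dvd_card _ _) _

/-- `|HK : H|` divides `|K|` for `K` normal. -/
theorem relIndex_sup_dvd_card [Finite X] (H K : Subgroup X) [K.Normal] :
    H.relIndex (H ⊔ K) ∣ Nat.card K := by
  have h1 := card_sup_dvd_mul'' H K
  rw [← card_mul_relIndex_of_le (le_sup_left : H ≤ H ⊔ K)] at h1
  exact Nat.dvd_of_mul_dvd_mul_left Nat.card_pos h1

theorem le_normalizer_sup' {A U N : Subgroup X} (hU : A ≤ Subgroup.normalizer (U : Set X))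
    (hN : A ≤ Subgroup.normalizer (N : Set X)) :
    A ≤ Subgroup.normalizer ((U ⊔ N : Subgroup X) : Set X) :=
  (le_inf hU hN).trans (Subgroup.normalizer_inf_normalizer_le_normalizer_sup U N)

end basic

/-- **Coprime action, Hall subgroups (c)**, for `G` normal in the ambient group. -/
theorem hall_c_aux (π : Set ℕ) (n : ℕ) : ∀ (X : Type u) [Group X] [Finite X] (A G : Subgroup X)
    [G.Normal], (Nat.card A).Coprime (Nat.card G) → Group.IsSolvable G → Nat.card G = n →
    ∀ U : Subgroup X, U ≤ G → A ≤ Subgroup.normalizer (U : Set X) → PiNum π (Nat.card U) →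
    ∃ H : Subgroup X, Cfsg.IsPiHallOf π H G ∧ A ≤ Subgroup.normalizer (H : Set X) ∧ U ≤ H := by
  induction n using Nat.strong_induction_on with
  | _ n ih =>
  intro X _ _ A G hGn hcop hsolv hn U hUG hAU hUπ
  haveI := hsolv
  have hAG : A ≤ Subgroup.normalizer (G : Set X) := by
    rw [Subgroup.normalizer_eq_top]; exact le_top
  rcases subsingleton_or_nontrivial ↥G with hsub | hnt
  · refine ⟨G, isPiHallOf_iff.mpr ⟨le_rfl, ?_, ?_⟩, hAG, hUG⟩
    · rw [Nat.card_unique]; exact piNum_one π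
    · rw [Subgroup.relIndex_self]; exact piNum_one _
  obtain ⟨p, M0, hp, hM0n, hM0ne, hM0p⟩ := exists_normal_pgroup ↥G
  haveI : Fact p.Prime := ⟨hp⟩
  -- N = O_p(G) inside X
  haveI hchar : (Cfsg.pCore p ↥G).Characteristic := Cfsg.Agent.Lib.Helper9.pCore_characteristic p ↥G
  obtain ⟨N, hNdef⟩ : ∃ N : Subgroup X, N = (Cfsg.pCore p ↥G).map G.subtype := ⟨_, rfl⟩
  haveI hNn : N.Normal := by rw [hNdef]; infer_instance
  have hNG : N ≤ G := hNdef ▸ Subgroup.map_subtype_le _
  have hNp : IsPGroup p N := by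
    rw [hNdef]
    exact IsPGroup.map (Sylow.sSup_of_normal _ (fun _ hH => hH.2) (fun _ hH => hH.1)) _
  have hNne : N ≠ ⊥ := by
    intro h
    rw [hNdef, Subgroup.map_eq_bot_iff_of_injective _ G.subtype_injective] at h
    apply hM0ne
    rw [← le_bot_iff, ← h]
    exact le_sSup ⟨hM0n, hM0p⟩
  have hNcard : 1 < Nat.card N := N.one_lt_card_iff_ne_bot.mpr hNne
  obtain ⟨k, hk⟩ := IsPGroup.iff_card.mp hNp
  -- the quotient
  obtain ⟨q, hq⟩ : ∃ q : X →* X ⧸ N, q = QuotientGroup.mk' N := ⟨_, rfl⟩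
  have hqs : Function.Surjective q := hq ▸ QuotientGroup.mk'_surjective N
  have hqk : q.ker = N := hq ▸ QuotientGroup.ker_mk' N
  have hcomapG : (G.map q).comap q = G := by
    rw [Subgroup.comap_map_eq, hqk, sup_eq_left.mpr hNG]
  have hcardG : Nat.card G = Nat.card N * Nat.card (G.map q) := by
    conv_lhs => rw [← hcomapG]
    rw [hq]; exact card_comap_mk' N _
  have hlt : Nat.card (G.map q) < n := by
    rw [← hn, hcardG]
    have : 0 < Nat.card (G.map q) := Nat.card_pos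
    nlinarith
  haveI hGbarn : (G.map q).Normal := Subgroup.Normal.map hGn q hqs
  have hcop' : (Nat.card (A.map q)).Coprime (Nat.card (G.map q)) :=
    Nat.Coprime.of_dvd (Subgroup.card_map_dvd A q) (Subgroup.card_map_dvd G q) hcop
  have hUbar : PiNum π (Nat.card (U.map q)) := hUπ.of_dvd (Subgroup.card_map_dvd U q)
  obtain ⟨Hbar, hHbar, hAHbar, hUHbar⟩ := ih _ hlt (X ⧸ N) (A.map q) (G.map q) hcop'
    (isSolvable_map q hsolv) rfl (U.map q) (Subgroup.map_mono hUG)
    ((Subgroup.map_mono hAU).trans (Subgroup.le_normalizer_map q)) hUbar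
  obtain ⟨hHbarle, hHbarp, hHbarq⟩ := isPiHallOf_iff.mp hHbar
  -- preimage
  obtain ⟨K, hK⟩ : ∃ K : Subgroup X, K = Hbar.comap q := ⟨_, rfl⟩
  have hNK : N ≤ K := by
    intro x hx
    rw [hK, Subgroup.mem_comap]
    have h1 : q x = 1 := by rw [← MonoidHom.mem_ker, hqk]; exact hx
    rw [h1]; exact Hbar.one_mem
  have hKG : K ≤ G := by
    rw [hK, ← hcomapG]; exact Subgroup.comap_mono hHbarle
  have hKcard : Nat.card K = Nat.card N * Nat.card Hbar := by
    rw [hK, hq]; exact card_comap_mk' N _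
  have hKrel : K.relIndex G = Hbar.relIndex (G.map q) := by
    rw [hK]; exact Subgroup.relIndex_comap Hbar q G
  have hAK : A ≤ Subgroup.normalizer (K : Set X) := by
    intro a ha
    rw [hK]
    apply Subgroup.le_normalizer_comap q
    rw [Subgroup.mem_comap]
    exact hAHbar (Subgroup.mem_map_of_mem q ha)
  have hUK : U ≤ K := by
    rw [hK]
    exact (Subgroup.le_comap_map q U).trans (Subgroup.comap_mono hUHbar)
  by_cases hpπ : p ∈ π
  · refine ⟨K, isPiHallOf_iff.mpr ⟨hKG, ?_, ?_⟩, hAK, hUK⟩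
    · rw [hKcard]; exact (piNum_card_pgroup hNp hpπ).mul hHbarp
    · rw [hKrel]; exact hHbarq
  · -- `N` is a normal `π'`-subgroup of `K` with `π`-quotient
    have hpπ' : p ∈ πᶜ := hpπ
    have hNπ' : PiNum πᶜ (Nat.card N) := piNum_card_pgroup hNp hpπ'
    have hKsolv : Group.IsSolvable K := isSolvable_of_le hKG hsolv
    have hcopK : (Nat.card A).Coprime (Nat.card K) :=
      Nat.Coprime.of_dvd_right (Subgroup.card_dvd_of_le hKG) hcop
    obtain ⟨H0, hH0, hAH0⟩ := hall_a A K hAK hcopK hKsolv π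
    obtain ⟨hH0le, hH0p, hH0q⟩ := isPiHallOf_iff.mp hH0
    -- K = N ⊔ H0
    have hKsup : K = N ⊔ H0 := by
      apply le_antisymm _ (sup_le hNK hH0le)
      rw [← Subgroup.relIndex_eq_one]
      have d1 : (N ⊔ H0).relIndex K ∣ H0.relIndex K := Subgroup.relIndex_dvd_of_le_left K le_sup_right
      have d2 : (N ⊔ H0).relIndex K ∣ N.relIndex K := Subgroup.relIndex_dvd_of_le_left K le_sup_left
      have hNrel : N.relIndex K = Nat.card Hbar := by
        have e1 := card_mul_relIndex_of_le hNK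
        rw [hKcard] at e1
        exact Nat.eq_of_mul_eq_mul_left Nat.card_pos e1
      rw [hNrel] at d2
      have hc : (Nat.card Hbar).Coprime (H0.relIndex K) := coprime_of_piNum hHbarp hH0q
      exact Nat.eq_one_of_dvd_coprimes hc d2 d1
    -- L = U ⊔ N, D = L ⊓ H0
    obtain ⟨L, hL⟩ : ∃ L : Subgroup X, L = U ⊔ N := ⟨_, rfl⟩
    have hNL : N ≤ L := hL ▸ le_sup_right
    have hUL : U ≤ L := hL ▸ le_sup_left
    have hLK : L ≤ K := hL ▸ sup_le hUK hNK
    have hAN : A ≤ Subgroup.normalizer (N : Set X) := by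
      rw [Subgroup.normalizer_eq_top]; exact le_top
    have hAL : A ≤ Subgroup.normalizer (L : Set X) := hL ▸ le_normalizer_sup' hAU hAN
    obtain ⟨D, hD⟩ : ∃ D : Subgroup X, D = H0 ⊓ L := ⟨_, rfl⟩
    have hDL : D ≤ L := hD ▸ inf_le_right
    have hDH0 : D ≤ H0 := hD ▸ inf_le_left
    have hAD : A ≤ Subgroup.normalizer (D : Set X) := hD ▸ le_normalizer_inf hAH0 hAL
    have hLsup : L = N ⊔ D := by
      have h1 := Cfsg.Agent.Lib.Helper2.sup_inf_eq_of_le_of_normal_left N H0 L hNL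
      rw [← hKsup, inf_eq_right.mpr hLK, ← hD] at h1
      exact h1
    have hLsolv : Group.IsSolvable L := isSolvable_of_le (hLK.trans hKG) hsolv
    have hcopL : (Nat.card A).Coprime (Nat.card L) :=
      Nat.Coprime.of_dvd_right (Subgroup.card_dvd_of_le (hLK.trans hKG)) hcop
    have hUhall : Cfsg.IsPiHallOf π U L := by
      refine isPiHallOf_iff.mpr ⟨hUL, hUπ, ?_⟩
      rw [hL]
      exact hNπ'.of_dvd (relIndex_sup_dvd_card U N)
    have hDhall : Cfsg.IsPiHallOf π D L := by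
      refine isPiHallOf_iff.mpr ⟨hDL, hH0p.of_dvd (Subgroup.card_dvd_of_le hDH0), ?_⟩
      rw [hLsup, sup_comm]
      exact hNπ'.of_dvd (relIndex_sup_dvd_card D N)
    obtain ⟨c, hc, hcDU⟩ := hall_b A L hAL hcopL hLsolv π D U hDhall hAD hUhall hAU
    have hcK : c ∈ K := hLK hc.1
    have hcA : c ∈ Subgroup.centralizer (A : Set X) := hc.2
    have hcKn : c ∈ Subgroup.normalizer (K : Set X) := Subgroup.le_normalizer hcK
    refine ⟨MulAut.conj c • H0, ?_, ?_, ?_⟩
    · have h1 : Cfsg.IsPiHallOf π (MulAut.conj c • H0) K := isPiHallOf_cj hcKn hH0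
      obtain ⟨h1le, h1p, h1q⟩ := isPiHallOf_iff.mp h1
      refine isPiHallOf_iff.mpr ⟨h1le.trans hKG, h1p, ?_⟩
      rw [← Subgroup.relIndex_mul_relIndex _ _ _ h1le hKG]
      refine h1q.mul ?_
      rw [hKrel]; exact hHbarq
    · intro a ha
      rw [← cj_eq_self_iff_mem_normalizer, ← cj_mul]
      have hca : a * c = c * a := ((Subgroup.mem_centralizer_iff.mp hcA) a ha)
      rw [hca, cj_mul]
      congr 1
      exact cj_eq_self_iff_mem_normalizer.mpr (hAH0 ha)
    · rw [← hcDU]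
      exact cj_le_cj hDH0

/-- **Coprime action, Hall subgroups (c)**: every `A`-invariant `π`-subgroup lies in an
`A`-invariant Hall `π`-subgroup. -/
theorem hall_c {X : Type u} [Group X] [Finite X] (A G : Subgroup X)
    (hAG : A ≤ Subgroup.normalizer (G : Set X))
    (hcop : (Nat.card A).Coprime (Nat.card G)) (hsolv : Group.IsSolvable G) (π : Set ℕ)
    (U : Subgroup X) (hUG : U ≤ G) (hAU : A ≤ Subgroup.normalizer (U : Set X))
    (hUπ : PiNum π (Nat.card U)) :
    ∃ H : Subgroup X, Cfsg.IsPiHallOf π H G ∧ A ≤ Subgroup.normalizer (H : Set X) ∧ U ≤ H := by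
  obtain ⟨Y, hY⟩ : ∃ Y : Subgroup X, Y = Subgroup.normalizer (G : Set X) := ⟨_, rfl⟩
  have hGY : G ≤ Y := hY ▸ Subgroup.le_normalizer
  have hAY : A ≤ Y := hY ▸ hAG
  have hUY : U ≤ Y := hUG.trans hGY
  haveI hGn : (G.subgroupOf Y).Normal := by rw [hY]; exact Subgroup.normal_in_normalizer
  have hcop' : (Nat.card (A.subgroupOf Y)).Coprime (Nat.card (G.subgroupOf Y)) := by
    rw [card_subgroupOf_of_le hAY, card_subgroupOf_of_le hGY]; exact hcop
  have hnorm' : A.subgroupOf Y ≤ Subgroup.normalizer ((U.subgroupOf Y : Subgroup Y) : Set Y) := by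
    rw [← Subgroup.subgroupOf_normalizer_eq hUY]
    intro a ha
    rw [Subgroup.mem_subgroupOf] at ha ⊢
    exact hAU ha
  obtain ⟨H', hH', hAH', hUH'⟩ := hall_c_aux π _ ↥Y (A.subgroupOf Y) (G.subgroupOf Y) hcop'
    (isSolvable_subgroupOf Y hsolv) rfl (U.subgroupOf Y)
    (by intro x hx; rw [Subgroup.mem_subgroupOf] at hx ⊢; exact hUG hx) hnorm'
    (by rw [card_subgroupOf_of_le hUY]; exact hUπ)
  obtain ⟨hle', hp', hq'⟩ := isPiHallOf_iff.mp hH'
  refine ⟨H'.map Y.subtype, isPiHallOf_iff.mpr ⟨?_, ?_, ?_⟩, ?_, ?_⟩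
  · have := Subgroup.map_mono (f := Y.subtype) hle'
    rwa [Subgroup.map_subgroupOf_eq_of_le hGY] at this
  · rw [Subgroup.card_map_of_injective Y.subtype_injective]; exact hp'
  · have : (H'.map Y.subtype).relIndex G = H'.relIndex (G.subgroupOf Y) := by
      conv_lhs => rw [← Subgroup.map_subgroupOf_eq_of_le hGY]
      exact Subgroup.relIndex_map_map_of_injective _ _ Y.subtype_injective
    rw [this]; exact hq'
  · intro a ha
    have h1 : (⟨a, hAY ha⟩ : Y) ∈ Subgroup.normalizer ((H' : Subgroup Y) : Set Y) :=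
      hAH' (by rw [Subgroup.mem_subgroupOf]; exact ha)
    have h2 := Subgroup.le_normalizer_map Y.subtype (Subgroup.mem_map_of_mem Y.subtype h1)
    exact h2
  · have := Subgroup.map_mono (f := Y.subtype) hUH'
    rwa [Subgroup.map_subgroupOf_eq_of_le hUY] at this

end Cfsg.Agent.Lib.Helper6
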