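import Mathlib
import Cfsg.Prelude

/-!
# An explicit model of a Sylow 2-subgroup of `SU_3(2^n)` (helper6)

For a field `F` of characteristic two with an involutory ring endomorphism `σ`, the pairs `(a, b)`
with `b + σ b = a σ a` form a group under `(a, b)(a', b') = (a + a', b + b' + σ a * a')`, which embeds
in `SL_3(F)` by `(a, b) ↦ 1 + [[b, b, σ a], [b, b, σ a], [a, a, 0]]`, preserving the identity
Hermitian form `Σ u_i σ(v_i)`.
-/

set_option autoImplicit false

namespace Cfsg.Agent.Lib.Helper6.SU3Par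

/-- characteristic two field with an involutory endomorphism -/
structure Cfg (F : Type*) [Field F] where
  σ : F →+* F
  invol : ∀ x, σ (σ x) = x
  two : (2 : F) = 0

variable {F : Type*} [Field F]

/-- the parameter group -/
@[ext] structure Par (c : Cfg F) where
  a : F
  b : F
  h : b + c.σ b = a * c.σ a

namespace Par

variable {c : Cfg F}

instance : Mul (Par c) := ⟨fun p p' => ⟨p.a + p'.a, p.b + p'.b + c.σ p.a * p'.a, by
  simp only [map_add, map_mul, c.invol]; linear_combination p.h + p'.h⟩⟩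

instance : One (Par c) := ⟨⟨0, 0, by simp⟩⟩

instance : Inv (Par c) := ⟨fun p => ⟨p.a, c.σ p.b, by
  rw [c.invol]; linear_combination p.h⟩⟩

@[simp] theorem mul_a (p p' : Par c) : (p * p').a = p.a + p'.a := rfl
@[simp] theorem mul_b (p p' : Par c) : (p * p').b = p.b + p'.b + c.σ p.a * p'.a := rfl
@[simp] theorem one_a : (1 : Par c).a = 0 := rfl
@[simp] theorem one_b : (1 : Par c).b = 0 := rfl
@[simp] theorem inv_a (p : Par c) : (p⁻¹).a = p.a := rfl
@[simp] theorem inv_b (p : Par c) : (p⁻¹).b = c.σ p.b := rfl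

instance : Group (Par c) where
  mul_assoc := by
    intro x y z
    ext
    · simp only [mul_a]; ring
    · simp only [mul_a, mul_b, map_add]; ring
  one_mul := by
    intro x
    ext
    · simp
    · simp
  mul_one := by
    intro x
    ext
    · simp
    · simp
  inv_mul_cancel := by
    intro x
    ext
    · simp only [mul_a, inv_a, one_a]; linear_combination x.a * c.two
    · simp only [mul_b, inv_a, inv_b, one_b]
      linear_combination x.h + (x.a * c.σ x.a) * c.two

theorem neg_eq (c : Cfg F) (x : F) : -x = x := by linear_combination (-x) * c.two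

theorem add_self (c : Cfg F) (x : F) : x + x = 0 := by linear_combination x * c.two

/-- the matrix of a parameter -/
def mat (p : Par c) : Matrix (Fin 3) (Fin 3) F :=
  !![1 + p.b, p.b, c.σ p.a; p.b, 1 + p.b, c.σ p.a; p.a, p.a, 1]

theorem det_mat (p : Par c) : (mat p).det = 1 := by
  rw [Matrix.det_fin_three]
  simp only [mat, Matrix.of_apply, Matrix.cons_val', Matrix.cons_val_zero, Matrix.cons_val_one,
    Matrix.cons_val_two, Matrix.empty_val', Matrix.cons_val_fin_one, Matrix.head_cons,
    Matrix.tail_cons, Matrix.head_fin_const]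
  linear_combination (p.b - p.a * c.σ p.a) * c.two

theorem mat_one : mat (1 : Par c) = 1 := by
  ext i j
  fin_cases i <;> fin_cases j <;> simp [mat]

theorem mat_mul (p p' : Par c) : mat (p * p') = mat p * mat p' := by
  ext i j
  fin_cases i <;> fin_cases j <;>
    simp [mat, Matrix.mul_apply, Fin.sum_univ_three] <;>
    first
      | linear_combination (-(p.b * p'.b)) * c.two
      | linear_combination (-(p.b * c.σ p'.a)) * c.two
      | linear_combination (-(p.a * p'.b)) * c.two
      | linear_combination (-(p.a * c.σ p'.a)) * c.two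
      | linear_combination (p.b * p'.b) * c.two
      | linear_combination (p.b * c.σ p'.a) * c.two
      | linear_combination (p.a * p'.b) * c.two
      | linear_combination (p.a * c.σ p'.a) * c.two

/-- the embedding in `SL_3` -/
def toSL : Par c →* Matrix.SpecialLinearGroup (Fin 3) F where
  toFun := fun p => ⟨mat p, det_mat p⟩
  map_one' := by
    apply Subtype.ext
    exact mat_one
  map_mul' := by
    intro p p'
    apply Subtype.ext
    exact mat_mul p p'

theorem toSL_injective : Function.Injective (toSL (c := c)) := by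
  intro p p' h
  have h1 : mat p = mat p' := congrArg Subtype.val h
  have ha : p.a = p'.a := by
    have := congrFun (congrFun h1 2) 0
    simpa [mat] using this
  have hb : p.b = p'.b := by
    have := congrFun (congrFun h1 0) 1
    simpa [mat] using this
  exact Par.ext ha hb

/-! ### Algebraic structure of the parameter group -/

theorem mul_self_a (p : Par c) : (p * p).a = 0 := by
  rw [mul_a]; exact add_self c _

theorem mul_self_b (p : Par c) : (p * p).b = p.a * c.σ p.a := by
  rw [mul_b, add_self c, zero_add, mul_comm]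

theorem eq_one_iff (p : Par c) : p = 1 ↔ p.a = 0 ∧ p.b = 0 :=
  ⟨fun h => by rw [h]; exact ⟨rfl, rfl⟩, fun h => Par.ext h.1 h.2⟩

theorem mul_self_eq_one_iff (p : Par c) : p * p = 1 ↔ p.a = 0 := by
  rw [eq_one_iff, mul_self_b]
  constructor
  · rintro ⟨-, h⟩
    rcases mul_eq_zero.mp h with h | h
    · exact h
    · have := congrArg c.σ h
      rw [c.invol, map_zero] at this
      exact this
  · intro h
    exact ⟨mul_self_a p, by rw [h, zero_mul]⟩

theorem commute_iff (p p' : Par c) : p * p' = p' * p ↔ c.σ p.a * p'.a = c.σ p'.a * p.a := by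
  constructor
  · intro h
    have := congrArg Par.b h
    simp only [mul_b] at this
    linear_combination this
  · intro h
    ext
    · simp only [mul_a]; ring
    · simp only [mul_b]; linear_combination h

/-- existence of parameters with a given first coordinate -/
theorem exists_par (htr : ∀ y, c.σ y = y → ∃ x, x + c.σ x = y) (a : F) : ∃ p : Par c, p.a = a := by
  have h1 : c.σ (a * c.σ a) = a * c.σ a := by rw [map_mul, c.invol, mul_comm]
  obtain ⟨b, hb⟩ := htr _ h1
  exact ⟨⟨a, b, hb⟩, rfl⟩

theorem mem_center_iff (htr : ∀ y, c.σ y = y → ∃ x, x + c.σ x = y) (hnf : ∃ t, c.σ t ≠ t)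
    (p : Par c) : p ∈ Subgroup.center (Par c) ↔ p.a = 0 := by
  rw [Subgroup.mem_center_iff]
  constructor
  · intro h
    by_contra ha
    obtain ⟨t, ht⟩ := hnf
    obtain ⟨p', hp'⟩ := exists_par htr (t * p.a)
    have h1 := (commute_iff p' p).mp (h p')
    rw [hp', map_mul] at h1
    apply ht
    have h2 : c.σ p.a ≠ 0 := by
      intro h0
      have := congrArg c.σ h0
      rw [c.invol, map_zero] at this
      exact ha this
    have h3 : (c.σ t - t) * (c.σ p.a * p.a) = 0 := by linear_combination h1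
    rcases mul_eq_zero.mp h3 with h4 | h4
    · exact sub_eq_zero.mp h4
    · exact absurd h4 (mul_ne_zero h2 ha)
  · intro ha g
    rw [commute_iff, ha, map_zero, zero_mul, mul_zero]

/-- the commutator `p⁻¹ p'⁻¹ p p'` -/
theorem comm_a (p p' : Par c) : (p⁻¹ * p'⁻¹ * p * p').a = 0 := by
  simp only [mul_a, inv_a]
  linear_combination (p.a + p'.a) * c.two

theorem comm_b (p p' : Par c) :
    (p⁻¹ * p'⁻¹ * p * p').b = c.σ p.a * p'.a + c.σ p'.a * p.a := by
  simp only [mul_a, mul_b, inv_a, inv_b, map_add]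
  linear_combination p.h + p'.h + (c.σ p.a * p'.a + c.σ p'.a * p'.a + p.a * c.σ p.a) * c.two

/-- every central element is a commutator -/
theorem exists_comm (htr : ∀ y, c.σ y = y → ∃ x, x + c.σ x = y) (p : Par c) (hp : p.a = 0) :
    ∃ x y : Par c, p = x⁻¹ * y⁻¹ * x * y := by
  have hb : c.σ p.b = p.b := by
    have := p.h
    rw [hp, zero_mul] at this
    have h2 := neg_eq c (c.σ p.b)
    linear_combination (-1 : F) * this + h2 - (2 : F) * h2 + (c.σ p.b) * c.two - (c.σ p.b) * c.two
  obtain ⟨x, hx⟩ := exists_par htr 1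
  obtain ⟨t, ht⟩ := htr p.b hb
  obtain ⟨y, hy⟩ := exists_par htr t
  refine ⟨x, y, ?_⟩
  ext
  · rw [comm_a, hp]
  · rw [comm_b, hx, hy, map_one, one_mul, mul_one, ht]

/-! ### The torus action -/

/-- units fixed by `σ` -/
def fixUnits (c : Cfg F) : Subgroup Fˣ where
  carrier := {u | c.σ (u : F) = u}
  one_mem' := by simp
  mul_mem' := by
    intro u v hu hv
    simp only [Set.mem_setOf_eq, Units.val_mul, map_mul] at *
    rw [hu, hv]
  inv_mem' := by
    intro u hu
    simp only [Set.mem_setOf_eq, Units.val_inv_eq_inv_val, map_inv₀] at *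
    rw [hu]

/-- scaling by a fixed element -/
def scale (l : F) (hl : c.σ l = l) (p : Par c) : Par c :=
  ⟨l * p.a, l ^ 2 * p.b, by
    rw [map_mul, map_pow, hl, map_mul, hl]; linear_combination (l ^ 2) * p.h⟩

@[simp] theorem scale_a (l : F) (hl : c.σ l = l) (p : Par c) : (scale l hl p).a = l * p.a := rfl
@[simp] theorem scale_b (l : F) (hl : c.σ l = l) (p : Par c) : (scale l hl p).b = l ^ 2 * p.b := rfl

theorem scale_mul (l : F) (hl : c.σ l = l) (p p' : Par c) :
    scale l hl (p * p') = scale l hl p * scale l hl p' := by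
  ext
  · simp only [scale_a, mul_a]; ring
  · simp only [scale_b, mul_b, scale_a, map_mul, hl]; ring

/-- the automorphism attached to a fixed unit -/
def kappaAut (u : fixUnits c) : MulAut (Par c) where
  toFun := scale (u.1 : F) u.2
  invFun := scale ((u⁻¹).1 : F) (u⁻¹).2
  left_inv := by
    intro p
    have h : (((u⁻¹ : fixUnits c) : Fˣ) : F) * ((u : Fˣ) : F) = 1 := by
      rw [← Units.val_mul]; simp
    apply Par.ext
    · change (((u⁻¹ : fixUnits c) : Fˣ) : F) * (((u : Fˣ) : F) * p.a) = p.a
      rw [← mul_assoc, h, one_mul]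
    · change (((u⁻¹ : fixUnits c) : Fˣ) : F) ^ 2 * ((((u : Fˣ) : F)) ^ 2 * p.b) = p.b
      rw [← mul_assoc, ← mul_pow, h, one_pow, one_mul]
  right_inv := by
    intro p
    have h : ((u : Fˣ) : F) * (((u⁻¹ : fixUnits c) : Fˣ) : F) = 1 := by
      rw [← Units.val_mul]; simp
    apply Par.ext
    · change ((u : Fˣ) : F) * ((((u⁻¹ : fixUnits c) : Fˣ) : F) * p.a) = p.a
      rw [← mul_assoc, h, one_mul]
    · change ((u : Fˣ) : F) ^ 2 * (((((u⁻¹ : fixUnits c) : Fˣ) : F)) ^ 2 * p.b) = p.b
      rw [← mul_assoc, ← mul_pow, h, one_pow, one_mul]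
  map_mul' := scale_mul _ _

theorem kappaAut_apply (u : fixUnits c) (p : Par c) :
    kappaAut u p = scale (u.1 : F) u.2 p := rfl

/-- the torus action as a homomorphism -/
def kappa : fixUnits c →* MulAut (Par c) where
  toFun := kappaAut
  map_one' := by
    ext p
    · change ((1 : Fˣ) : F) * p.a = p.a
      simp
    · change ((1 : Fˣ) : F) ^ 2 * p.b = p.b
      simp
  map_mul' := by
    intro u v
    ext p
    · change (((u : Fˣ) * (v : Fˣ) : Fˣ) : F) * p.a = ((u : Fˣ) : F) * (((v : Fˣ) : F) * p.a)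
      rw [Units.val_mul]; ring
    · change (((u : Fˣ) * (v : Fˣ) : Fˣ) : F) ^ 2 * p.b
        = ((u : Fˣ) : F) ^ 2 * (((v : Fˣ) : F) ^ 2 * p.b)
      rw [Units.val_mul]; ring

theorem kappa_apply (u : fixUnits c) (p : Par c) : kappa u p = scale (u.1 : F) u.2 p := rfl

/-- squaring is injective in characteristic two -/
theorem sq_inj (c : Cfg F) {x y : F} (h : x ^ 2 = y ^ 2) : x = y := by
  have h1 : (x - y) ^ 2 = 0 := by linear_combination h + (y ^ 2 - x * y) * c.two
  have := pow_eq_zero_iff (two_ne_zero) |>.mp h1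
  exact sub_eq_zero.mp this

/-- regularity of the torus on the involutions -/
theorem kappa_regular (hsq : ∀ y : F, ∃ x, x ^ 2 = y) (x y : Par c) (hx1 : x ≠ 1)
    (hx2 : x * x = 1) (hy1 : y ≠ 1) (hy2 : y * y = 1) :
    ∃! k : (kappa (c := c)).range, (k : MulAut (Par c)) x = y := by
  have hxa := (mul_self_eq_one_iff x).mp hx2
  have hya := (mul_self_eq_one_iff y).mp hy2
  have hxb : x.b ≠ 0 := fun h => hx1 ((eq_one_iff x).mpr ⟨hxa, h⟩)
  have hyb : y.b ≠ 0 := fun h => hy1 ((eq_one_iff y).mpr ⟨hya, h⟩)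
  have fixb : ∀ p : Par c, p.a = 0 → c.σ p.b = p.b := by
    intro p hp
    have := p.h
    rw [hp, zero_mul] at this
    linear_combination this - p.b * c.two
  obtain ⟨l, hl⟩ := hsq (y.b / x.b)
  have hl0 : l ≠ 0 := by
    intro h
    rw [h] at hl
    have : y.b / x.b ≠ 0 := div_ne_zero hyb hxb
    exact this (by rw [← hl]; ring)
  have hlfix : c.σ l = l := by
    apply sq_inj c
    rw [← map_pow, hl, map_div₀, fixb x hxa, fixb y hya]
  let u : fixUnits c := ⟨Units.mk0 l hl0, hlfix⟩
  refine ⟨⟨kappa u, ⟨u, rfl⟩⟩, ?_, ?_⟩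
  · change kappa u x = y
    rw [kappa_apply]
    apply Par.ext
    · change l * x.a = y.a
      rw [hxa, hya, mul_zero]
    · change l ^ 2 * x.b = y.b
      rw [hl]; field_simp
  · rintro ⟨k, v, rfl⟩ hk
    apply Subtype.ext
    change kappa v = kappa u
    have hk' : kappa v x = y := hk
    rw [kappa_apply] at hk'
    have h1 : ((v : Fˣ) : F) ^ 2 * x.b = y.b := congrArg Par.b hk'
    have h2 : ((v : Fˣ) : F) ^ 2 = l ^ 2 := by
      rw [hl]; field_simp; exact h1
    have h3 : ((v : Fˣ) : F) = l := sq_inj c h2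
    have : v = u := by
      apply Subtype.ext
      apply Units.ext
      exact h3
    rw [this]

/-! ### Finite fields -/

section finite

variable [Fintype F] (c) (q : ℕ)

theorem card_fix_le (hq : 2 ≤ q) (hσ : ∀ x, c.σ x = x ^ q) :
    Nat.card {x : F // c.σ x = x} ≤ q := by
  classical
  have hne : (Polynomial.X ^ q - Polynomial.X : Polynomial F) ≠ 0 :=
    FiniteField.X_pow_card_sub_X_ne_zero F (by omega)
  have hdeg : (Polynomial.X ^ q - Polynomial.X : Polynomial F).natDegree = q :=
    FiniteField.X_pow_card_sub_X_natDegree_eq F (by omega)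
  rw [Nat.card_eq_fintype_card, Fintype.card_subtype]
  have hsub : (Finset.univ.filter fun x : F => c.σ x = x) ⊆
      (Polynomial.X ^ q - Polynomial.X : Polynomial F).roots.toFinset := by
    intro x hx
    rw [Finset.mem_filter] at hx
    rw [Multiset.mem_toFinset, Polynomial.mem_roots hne, Polynomial.IsRoot.def]
    simp only [Polynomial.eval_sub, Polynomial.eval_pow, Polynomial.eval_X]
    rw [← hσ, hx.2, sub_self]
  calc (Finset.univ.filter fun x : F => c.σ x = x).card
      ≤ (Polynomial.X ^ q - Polynomial.X : Polynomial F).roots.toFinset.card :=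
        Finset.card_le_card hsub
    _ ≤ Multiset.card (Polynomial.X ^ q - Polynomial.X : Polynomial F).roots :=
        Multiset.toFinset_card_le _
    _ ≤ q := by
        have := Polynomial.card_roots' (Polynomial.X ^ q - Polynomial.X : Polynomial F)
        rw [hdeg] at this
        exact this

/-- the trace map `x ↦ x + σ x` -/
def tr : F →+ F := AddMonoidHom.id F + c.σ.toAddMonoidHom

theorem tr_apply (x : F) : tr c x = x + c.σ x := rfl

theorem mem_ker_tr (x : F) : x ∈ (tr c).ker ↔ c.σ x = x := by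
  rw [AddMonoidHom.mem_ker, tr_apply]
  constructor
  · intro h; linear_combination h - x * c.two
  · intro h; rw [h]; exact add_self c x

theorem tr_fixed (x : F) : c.σ (tr c x) = tr c x := by
  rw [tr_apply, map_add, c.invol, add_comm]

theorem card_ker_range (hq : 2 ≤ q) (hF : Fintype.card F = q ^ 2) (hσ : ∀ x, c.σ x = x ^ q) :
    Nat.card (tr c).ker = q ∧ Nat.card (tr c).range = q := by
  have h1 : Nat.card (tr c).ker * Nat.card (tr c).range = q ^ 2 := by
    rw [← AddSubgroup.index_ker, AddSubgroup.card_mul_index, Nat.card_eq_fintype_card, hF]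
  have h2 : Nat.card (tr c).ker ≤ q := by
    refine le_trans (le_of_eq ?_) (card_fix_le c q hq hσ)
    apply Nat.card_congr
    exact Equiv.subtypeEquivRight (fun x => mem_ker_tr c x)
  have h3 : Nat.card (tr c).range ≤ q := by
    refine le_trans ?_ (card_fix_le c q hq hσ)
    apply Nat.card_le_card_of_injective
      (fun y : (tr c).range => (⟨y.1, by
        obtain ⟨x, hx⟩ := y.2
        rw [← hx]; exact tr_fixed c x⟩ : {x : F // c.σ x = x}))
    intro y y' h
    have h' : (y : F) = (y' : F) := by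
      have := congrArg (fun z : {x : F // c.σ x = x} => (z : F)) h
      simpa using this
    exact Subtype.ext h'
  have h4 : 0 < q := by omega
  constructor
  · by_contra hne
    have : Nat.card (tr c).ker < q := lt_of_le_of_ne h2 hne
    have : Nat.card (tr c).ker * Nat.card (tr c).range < q * q :=
      Nat.mul_lt_mul_of_lt_of_le this h3 h4
    rw [h1] at this
    nlinarith
  · by_contra hne
    have : Nat.card (tr c).range < q := lt_of_le_of_ne h3 hne
    have : Nat.card (tr c).ker * Nat.card (tr c).range < q * q :=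
      Nat.mul_lt_mul_of_le_of_lt h2 this h4
    rw [h1] at this
    nlinarith

theorem card_fix (hq : 2 ≤ q) (hF : Fintype.card F = q ^ 2) (hσ : ∀ x, c.σ x = x ^ q) :
    Nat.card {x : F // c.σ x = x} = q := by
  rw [← (card_ker_range c q hq hF hσ).1]
  apply Nat.card_congr
  exact (Equiv.subtypeEquivRight (fun x => mem_ker_tr c x)).symm

/-- the trace is onto the fixed field -/
theorem tr_surj (hq : 2 ≤ q) (hF : Fintype.card F = q ^ 2) (hσ : ∀ x, c.σ x = x ^ q) :
    ∀ y, c.σ y = y → ∃ x, x + c.σ x = y := by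
  classical
  have hle : (tr c).range ≤ (tr c).ker := by
    rintro _ ⟨x, rfl⟩
    rw [mem_ker_tr]; exact tr_fixed c x
  have heq : (tr c).range = (tr c).ker := by
    apply AddSubgroup.eq_of_le_of_card_ge hle
    rw [(card_ker_range c q hq hF hσ).1, (card_ker_range c q hq hF hσ).2]
  intro y hy
  have : y ∈ (tr c).range := by rw [heq, mem_ker_tr]; exact hy
  obtain ⟨x, hx⟩ := this
  exact ⟨x, hx⟩

theorem exists_not_fixed (hq : 2 ≤ q) (hF : Fintype.card F = q ^ 2) (hσ : ∀ x, c.σ x = x ^ q) :
    ∃ t, c.σ t ≠ t := by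
  by_contra h
  push Not at h
  have h1 := card_fix c q hq hF hσ
  have h2 : Nat.card {x : F // c.σ x = x} = Nat.card F :=
    Nat.card_congr (Equiv.subtypeUnivEquiv h)
  rw [h1, Nat.card_eq_fintype_card, hF] at h2
  nlinarith

include c in
theorem exists_sqrt (y : F) : ∃ x : F, x ^ 2 = y := by
  have hinj : Function.Injective (fun x : F => x ^ 2) := fun x y h => sq_inj c h
  exact (Finite.injective_iff_surjective.mp hinj) y

theorem exists_fixed_ne (hq : 3 ≤ q) (hF : Fintype.card F = q ^ 2) (hσ : ∀ x, c.σ x = x ^ q) :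
    ∃ t, c.σ t = t ∧ t ≠ 0 ∧ t ≠ 1 := by
  classical
  by_contra h
  push Not at h
  have h1 := card_fix c q (by omega) hF hσ
  have h2 : Nat.card {x : F // c.σ x = x} ≤ 2 := by
    rw [Nat.card_eq_fintype_card, Fintype.card_subtype]
    have : (Finset.univ.filter fun x : F => c.σ x = x) ⊆ {0, 1} := by
      intro x hx
      rw [Finset.mem_filter] at hx
      by_cases hx0 : x = 0
      · simp [hx0]
      · simp [h x hx.2 hx0]
    exact le_trans (Finset.card_le_card this) Finset.card_le_two
  omega

end finite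

/-! ### The parameter group over a finite field -/

section finite2

variable [Fintype F] (c) (q : ℕ)

instance : Finite (Par c) :=
  Finite.of_injective (fun p : Par c => (p.a, p.b)) (by
    intro p p' h
    have h1 := congrArg Prod.fst h
    have h2 := congrArg Prod.snd h
    exact Par.ext h1 h2)

/-- projection to the first coordinate -/
def proj : Par c →* Multiplicative F where
  toFun p := Multiplicative.ofAdd p.a
  map_one' := rfl
  map_mul' _ _ := rfl

variable {c q} in
theorem center_iff (hq : 2 ≤ q) (hF : Fintype.card F = q ^ 2) (hσ : ∀ x, c.σ x = x ^ q)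
    (p : Par c) : p ∈ Subgroup.center (Par c) ↔ p.a = 0 :=
  mem_center_iff (tr_surj c q hq hF hσ) (exists_not_fixed c q hq hF hσ) p

theorem ker_proj (hq : 2 ≤ q) (hF : Fintype.card F = q ^ 2) (hσ : ∀ x, c.σ x = x ^ q) :
    (proj c).ker = Subgroup.center (Par c) := by
  ext p
  rw [center_iff hq hF hσ, MonoidHom.mem_ker]
  exact Iff.rfl

theorem card_center (hq : 2 ≤ q) (hF : Fintype.card F = q ^ 2) (hσ : ∀ x, c.σ x = x ^ q) :
    Nat.card (Subgroup.center (Par c)) = q := by
  rw [← card_fix c q hq hF hσ]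
  apply Nat.card_congr
  refine ⟨fun p => ⟨p.1.b, ?_⟩, fun x => ⟨⟨0, x.1, ?_⟩, ?_⟩, ?_, ?_⟩
  · have h0 := (center_iff hq hF hσ p.1).mp p.2
    have := p.1.h
    rw [h0, zero_mul] at this
    linear_combination this - p.1.b * c.two
  · rw [x.2, zero_mul]; exact add_self c _
  · rw [center_iff hq hF hσ]
  · intro p
    apply Subtype.ext
    apply Par.ext
    · exact ((center_iff hq hF hσ p.1).mp p.2).symm
    · rfl
  · intro x
    rfl

theorem card_par (hq : 2 ≤ q) (hF : Fintype.card F = q ^ 2) (hσ : ∀ x, c.σ x = x ^ q) :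
    Nat.card (Par c) = q ^ 3 := by
  have h1 := (proj c).ker.card_mul_index
  rw [Subgroup.index_ker, ker_proj c q hq hF hσ, card_center c q hq hF hσ] at h1
  have hsurj : Function.Surjective (proj c) := by
    intro y
    obtain ⟨p, hp⟩ := exists_par (tr_surj c q hq hF hσ) (Multiplicative.toAdd y)
    exact ⟨p, by change Multiplicative.ofAdd p.a = y; rw [hp]; rfl⟩
  rw [MonoidHom.range_eq_top.mpr hsurj, Subgroup.card_top, Nat.card_eq_fintype_card,
    Fintype.card_multiplicative, hF] at h1
  rw [← h1]; ring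

theorem sq_mem_center (hq : 2 ≤ q) (hF : Fintype.card F = q ^ 2) (hσ : ∀ x, c.σ x = x ^ q)
    (p : Par c) : p * p ∈ Subgroup.center (Par c) := by
  rw [center_iff hq hF hσ]; exact mul_self_a p

theorem comm_mem_center (hq : 2 ≤ q) (hF : Fintype.card F = q ^ 2) (hσ : ∀ x, c.σ x = x ^ q)
    (p p' : Par c) : p⁻¹ * p'⁻¹ * p * p' ∈ Subgroup.center (Par c) := by
  rw [center_iff hq hF hσ]; exact comm_a p p'

theorem center_is_comm (hq : 2 ≤ q) (hF : Fintype.card F = q ^ 2) (hσ : ∀ x, c.σ x = x ^ q)
    (z : Par c) (hz : z ∈ Subgroup.center (Par c)) : ∃ x y : Par c, z = x⁻¹ * y⁻¹ * x * y :=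
  exists_comm (tr_surj c q hq hF hσ) z ((center_iff hq hF hσ z).mp hz)

theorem isSuzuki (n : ℕ) (hn : 2 ≤ n) (hF : Fintype.card F = (2 ^ n) ^ 2)
    (hσ : ∀ x, c.σ x = x ^ (2 ^ n)) : Cfsg.IsSuzukiTwoGroup (Par c) := by
  have hq4 : 4 ≤ 2 ^ n := by
    calc 4 = 2 ^ 2 := by norm_num
      _ ≤ 2 ^ n := Nat.pow_le_pow_right (by norm_num) hn
  have hq : 2 ≤ 2 ^ n := by omega
  refine ⟨inferInstance, ?_, ?_, ?_, (kappa (c := c)).range, ?_, ?_⟩
  · apply IsPGroup.of_card (n := n * 3)
    rw [card_par c _ hq hF hσ, pow_mul]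
  · -- nonabelian
    obtain ⟨p, hp⟩ := exists_par (tr_surj c _ hq hF hσ) 1
    have hnc : p ∉ Subgroup.center (Par c) := by
      rw [center_iff hq hF hσ, hp]; exact one_ne_zero
    rw [Subgroup.mem_center_iff] at hnc
    push Not at hnc
    obtain ⟨g, hg⟩ := hnc
    exact ⟨g, p, hg⟩
  · -- two involutions
    obtain ⟨t, ht, ht0, ht1⟩ := exists_fixed_ne c _ (by omega) hF hσ
    refine ⟨⟨0, 1, ?_⟩, ⟨0, t, ?_⟩, ?_, ?_, ?_, ?_, ?_⟩
    · rw [map_one, zero_mul]; exact add_self c _
    · rw [ht, zero_mul]; exact add_self c _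
    · intro h
      exact ht1 (congrArg Par.b h).symm
    · intro h
      exact one_ne_zero (congrArg Par.b h)
    · rw [mul_self_eq_one_iff]
    · intro h
      exact ht0 (congrArg Par.b h)
    · rw [mul_self_eq_one_iff]
  · haveI : IsCyclic (fixUnits c) := Subgroup.isCyclic _
    exact isCyclic_of_surjective (kappa (c := c)).rangeRestrict
      (MonoidHom.rangeRestrict_surjective _)
  · exact kappa_regular (exists_sqrt c)

end finite2

/-! ### Membership in `SU_3` -/

theorem toSL_mem_SU (q : ℕ) (hσ : ∀ x, c.σ x = x ^ q) (p : Par c) :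
    toSL p ∈ Cfsg.SU 3 F q := by
  intro u v
  have hm : Cfsg.slToMat 3 F (toSL p) = mat p := rfl
  rw [hm]
  unfold Cfsg.hermForm
  simp only [Fin.sum_univ_three, ← hσ]
  have e0 : ∀ w : Fin 3 → F, (mat p).mulVec w 0 = (1 + p.b) * w 0 + p.b * w 1 + c.σ p.a * w 2 := by
    intro w
    simp [mat, Matrix.mulVec, dotProduct, Fin.sum_univ_three]
  have e1 : ∀ w : Fin 3 → F, (mat p).mulVec w 1 = p.b * w 0 + (1 + p.b) * w 1 + c.σ p.a * w 2 := by
    intro w
    simp [mat, Matrix.mulVec, dotProduct, Fin.sum_univ_three]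
  have e2 : ∀ w : Fin 3 → F, (mat p).mulVec w 2 = p.a * w 0 + p.a * w 1 + w 2 := by
    intro w
    simp [mat, Matrix.mulVec, dotProduct, Fin.sum_univ_three]
  rw [e0, e1, e2, e0, e1, e2]
  simp only [map_add, map_mul, map_one, c.invol]
  linear_combination ((u 0 + u 1) * (c.σ (v 0) + c.σ (v 1))) * p.h +
    ((u 0 + u 1) * (c.σ (v 0) + c.σ (v 1)) * p.a * c.σ p.a + (u 0 + u 1) * p.a * c.σ (v 2) +
      c.σ p.a * u 2 * (c.σ (v 0) + c.σ (v 1)) +
      (p.b * (u 0 + u 1) + c.σ p.a * u 2) *
        (c.σ p.b * (c.σ (v 0) + c.σ (v 1)) + p.a * c.σ (v 2))) * c.two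

/-- the embedding into `SU_3` -/
def toSU (q : ℕ) (hσ : ∀ x, c.σ x = x ^ q) : Par c →* Cfsg.SU 3 F q :=
  (toSL (c := c)).codRestrict (Cfsg.SU 3 F q) (toSL_mem_SU q hσ)

theorem toSU_injective (q : ℕ) (hσ : ∀ x, c.σ x = x ^ q) :
    Function.Injective (toSU (c := c) q hσ) := by
  intro p p' h
  apply toSL_injective
  exact congrArg Subtype.val h

end Par

end Cfsg.Agent.Lib.Helper6.SU3Par
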