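import Mathlib
import Cfsg.Prelude

/-!
# Transport of the Suzuki 2-group property along isomorphisms (helper6)
-/

set_option autoImplicit false

namespace Cfsg.Agent.Lib.Helper6.SuzTransport

variable {G H : Type*} [Group G] [Group H]

theorem mem_center_congr (e : G ≃* H) (z : G) :
    z ∈ Subgroup.center G ↔ e z ∈ Subgroup.center H := by
  rw [Subgroup.mem_center_iff, Subgroup.mem_center_iff]
  constructor
  · intro h g
    obtain ⟨k, rfl⟩ := e.surjective g
    rw [← map_mul, ← map_mul, h k]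
  · intro h g
    apply e.injective
    rw [map_mul, map_mul]
    exact h (e g)

theorem card_center_congr (e : G ≃* H) :
    Nat.card (Subgroup.center G) = Nat.card (Subgroup.center H) := by
  apply Nat.card_congr
  refine ⟨fun z => ⟨e z.1, (mem_center_congr e z.1).mp z.2⟩,
    fun z => ⟨e.symm z.1, (mem_center_congr e _).mpr (by rw [e.apply_symm_apply]; exact z.2)⟩,
    ?_, ?_⟩
  · intro z; apply Subtype.ext; exact e.symm_apply_apply z.1
  · intro z; apply Subtype.ext; exact e.apply_symm_apply z.1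

theorem isSuzuki_congr (e : G ≃* H) (h : Cfsg.IsSuzukiTwoGroup G) : Cfsg.IsSuzukiTwoGroup H := by
  obtain ⟨hfin, hpg, ⟨x0, y0, hxy0⟩, ⟨x1, y1, hne, hx1, hx2, hy1, hy2⟩, K, hKc, hreg⟩ := h
  have einv : ∀ {x : H}, x ≠ 1 → x * x = 1 → e.symm x ≠ 1 ∧ e.symm x * e.symm x = 1 := by
    intro x h1 h2
    refine ⟨fun h => h1 ?_, by rw [← map_mul, h2, map_one]⟩
    have := congrArg e h
    rwa [e.apply_symm_apply, map_one] at this
  refine ⟨Finite.of_equiv G e.toEquiv, hpg.of_equiv e, ⟨e x0, e y0, ?_⟩,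
    ⟨e x1, e y1, ?_, ?_, ?_, ?_, ?_⟩, K.map (MulAut.congr e).toMonoidHom, ?_, ?_⟩
  · intro h
    apply hxy0
    apply e.injective
    rw [map_mul, map_mul]; exact h
  · intro h; exact hne (e.injective h)
  · intro h; apply hx1; apply e.injective; rw [h, map_one]
  · rw [← map_mul, hx2, map_one]
  · intro h; apply hy1; apply e.injective; rw [h, map_one]
  · rw [← map_mul, hy2, map_one]
  · haveI := hKc
    exact isCyclic_of_surjective ((MulAut.congr e).toMonoidHom.subgroupMap K)
      (MonoidHom.subgroupMap_surjective _ _)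
  · intro x y hx1' hx2' hy1' hy2'
    obtain ⟨hxa, hxb⟩ := einv hx1' hx2'
    obtain ⟨hya, hyb⟩ := einv hy1' hy2'
    obtain ⟨k, hk, hkuniq⟩ := hreg _ _ hxa hxb hya hyb
    refine ⟨⟨MulAut.congr e k.1, Subgroup.mem_map_of_mem _ k.2⟩, ?_, ?_⟩
    · change e (k.1 (e.symm x)) = y
      rw [hk, e.apply_symm_apply]
    · rintro ⟨k', hk'⟩ hk'2
      obtain ⟨k2, hk2, rfl⟩ := Subgroup.mem_map.mp hk'
      apply Subtype.ext
      change MulAut.congr e k2 = MulAut.congr e k.1
      have h1 : e (k2 (e.symm x)) = y := hk'2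
      have h2 : k2 (e.symm x) = e.symm y := by
        apply e.injective; rw [h1, e.apply_symm_apply]
      have := hkuniq ⟨k2, hk2⟩ h2
      rw [← this]

/-- the package of properties of a Sylow 2-subgroup of `SU_3(q)` -/
structure Pack (G : Type*) [Group G] (q : ℕ) : Prop where
  card : Nat.card G = q ^ 3
  cardZ : Nat.card (Subgroup.center G) = q
  suz : Cfsg.IsSuzukiTwoGroup G
  sq : ∀ x : G, x * x ∈ Subgroup.center G
  comm : ∀ x y : G, x⁻¹ * y⁻¹ * x * y ∈ Subgroup.center G
  zcomm : ∀ z ∈ Subgroup.center G, ∃ x y : G, z = x⁻¹ * y⁻¹ * x * y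

theorem Pack.congr {q : ℕ} (e : G ≃* H) (h : Pack G q) : Pack H q := by
  refine ⟨?_, ?_, isSuzuki_congr e h.suz, ?_, ?_, ?_⟩
  · rw [← h.card]; exact (Nat.card_congr e.toEquiv).symm
  · rw [← h.cardZ]; exact (card_center_congr e).symm
  · intro x
    have := (mem_center_congr e _).mp (h.sq (e.symm x))
    rwa [map_mul, e.apply_symm_apply] at this
  · intro x y
    have := (mem_center_congr e _).mp (h.comm (e.symm x) (e.symm y))
    simpa [map_mul, map_inv] using this
  · intro z hz
    have hz' : e.symm z ∈ Subgroup.center G := by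
      rw [mem_center_congr e, e.apply_symm_apply]; exact hz
    obtain ⟨x, y, hxy⟩ := h.zcomm _ hz'
    refine ⟨e x, e y, ?_⟩
    have := congrArg e hxy
    simpa [map_mul, map_inv] using this

end Cfsg.Agent.Lib.Helper6.SuzTransport
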