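import Mathlib
import Cfsg.Agent.Lib.Helper6.SU3Par
import Cfsg.Agent.Lib.Helper6.SuzTransport
import Cfsg.Agent.Lib.Helper27.UOrder2
import Cfsg.Agent.Lib.Helper27.UCenter2
import Cfsg.Agent.S0283

/-!
# Sylow 2-subgroups of `SU_3(2^n)` and `PSU_3(2^n)` (helper6)
-/

set_option autoImplicit false

namespace Cfsg.Agent.Lib.Helper6.SU3Sylow

open Cfsg.Agent.Lib.Helper6.SU3Par Cfsg.Agent.Lib.Helper6.SuzTransport

variable {F : Type*} [Field F] [Fintype F]

theorem charP_two (n : ℕ) (hn : 1 ≤ n) (hF : Fintype.card F = (2 ^ n) ^ 2) : CharP F 2 := by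
  obtain ⟨p, hp⟩ := CharP.exists F
  haveI := hp
  obtain ⟨m, hpp, hm⟩ := FiniteField.card F p
  have h1 : p ∣ (2 ^ n) ^ 2 := by
    rw [← hF, hm]
    exact dvd_pow_self p m.ne_zero
  have h2 : p ∣ 2 := hpp.dvd_of_dvd_pow (hpp.dvd_of_dvd_pow h1)
  have h3 : p = 2 := (Nat.prime_dvd_prime_iff_eq hpp Nat.prime_two).mp h2
  rw [← h3]; exact hp

/-- the configuration attached to a field of order `(2^n)^2` -/
noncomputable def cfgOf (n : ℕ) (hn : 1 ≤ n) (hF : Fintype.card F = (2 ^ n) ^ 2) : Cfg F :=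
  haveI := charP_two n hn hF
  haveI : ExpChar F 2 := ExpChar.prime Nat.prime_two
  { σ := iterateFrobenius F 2 n
    invol := fun x => by
      rw [iterateFrobenius_def, iterateFrobenius_def, ← pow_mul, ← pow_two, ← hF,
        FiniteField.pow_card]
    two := CharTwo.two_eq_zero }

theorem cfgOf_σ (n : ℕ) (hn : 1 ≤ n) (hF : Fintype.card F = (2 ^ n) ^ 2) (x : F) :
    (cfgOf n hn hF).σ x = x ^ (2 ^ n) := rfl

theorem two_le_pow (n : ℕ) (hn : 1 ≤ n) : 2 ≤ 2 ^ n := by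
  calc 2 = 2 ^ 1 := by norm_num
    _ ≤ 2 ^ n := Nat.pow_le_pow_right (by norm_num) hn

/-- the parameter group has all the required properties -/
theorem pack_par (n : ℕ) (hn : 2 ≤ n) (hF : Fintype.card F = (2 ^ n) ^ 2) :
    Pack (Par (cfgOf n (by omega) hF)) (2 ^ n) := by
  have hq := two_le_pow n (by omega)
  have hσ := cfgOf_σ n (by omega) hF
  exact ⟨Par.card_par _ _ hq hF hσ, Par.card_center _ _ hq hF hσ, Par.isSuzuki _ n hn hF hσ,
    Par.sq_mem_center _ _ hq hF hσ, Par.comm_mem_center _ _ hq hF hσ,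
    Par.center_is_comm _ _ hq hF hσ⟩

open Cfsg.Agent.Lib.Helper27.Unitary in
theorem card_SU3 (q : ℕ) (hF : Fintype.card F = q ^ 2) :
    Nat.card (Cfsg.SU 3 F q) = q ^ 3 * ((q ^ 2 - 1) * (q ^ 3 + 1)) := by
  have h1 := card_SU_mul (n := 3) hF (by norm_num)
  have h2 := card_GU hF 3
  rw [h2] at h1
  have h3 : (∏ i ∈ Finset.range 3, (if Even i then q ^ (i + 1) + 1 else q ^ (i + 1) - 1))
      = (q + 1) * ((q ^ 2 - 1) * (q ^ 3 + 1)) := by
    rw [Finset.prod_range_succ, Finset.prod_range_succ, Finset.prod_range_succ,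
      Finset.prod_range_zero]
    have e0 : Even 0 := by decide
    have e1 : ¬ Even 1 := by decide
    have e2 : Even 2 := by decide
    rw [if_pos e0, if_neg e1, if_pos e2]
    ring
  rw [h3] at h1
  have h4 : (q + 1) * Nat.card (Cfsg.SU 3 F q)
      = (q + 1) * (q ^ 3 * ((q ^ 2 - 1) * (q ^ 3 + 1))) := by
    rw [h1]
    have : 3 * (3 - 1) / 2 = 3 := by norm_num
    rw [this]; ring
  exact Nat.eq_of_mul_eq_mul_left (by omega) h4

theorem odd_cofactor (n : ℕ) (hn : 1 ≤ n) : Odd (((2 ^ n) ^ 2 - 1) * ((2 ^ n) ^ 3 + 1)) := by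
  have he : Even (2 ^ n) := (Nat.even_pow' (by omega)).mpr (by decide)
  have h2 : 2 ≤ 2 ^ n := two_le_pow n hn
  have h1 : Odd ((2 ^ n) ^ 2 - 1) := by
    have : Even ((2 ^ n) ^ 2) := (Nat.even_pow' (by norm_num)).mpr he
    have hpos : 1 ≤ (2 ^ n) ^ 2 := Nat.one_le_pow _ _ (by omega)
    exact Nat.Even.sub_odd hpos this odd_one
  have h3 : Odd ((2 ^ n) ^ 3 + 1) := by
    have : Even ((2 ^ n) ^ 3) := (Nat.even_pow' (by norm_num)).mpr he
    exact this.add_one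
  exact h1.mul h3

/-- every Sylow 2-subgroup of `SU_3(2^n)` is isomorphic to the parameter group -/
theorem sylow_SU_equiv (n : ℕ) (hn : 2 ≤ n) (hF : Fintype.card F = (2 ^ n) ^ 2)
    (P : Sylow 2 (Cfsg.SU 3 F (2 ^ n))) :
    Nonempty (Par (cfgOf n (by omega) hF) ≃* (P : Subgroup (Cfsg.SU 3 F (2 ^ n)))) := by
  haveI : Fact (Nat.Prime 2) := ⟨Nat.prime_two⟩
  have hq := two_le_pow n (by omega)
  have hσ := cfgOf_σ n (by omega) hF
  let f := Par.toSU (c := cfgOf n (by omega) hF) (2 ^ n) hσ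
  have hinj : Function.Injective f := Par.toSU_injective _ hσ
  haveI : Finite (Cfsg.SU 3 F (2 ^ n)) := Finite.of_injective Subtype.val Subtype.val_injective
  have hU : Nat.card f.range = (2 ^ n) ^ 3 := by
    rw [← Nat.card_congr (MonoidHom.ofInjective hinj).toEquiv]
    exact Par.card_par _ _ hq hF hσ
  have hUp : IsPGroup 2 f.range := IsPGroup.of_card (n := n * 3) (by rw [hU, pow_mul])
  obtain ⟨P', hP'⟩ := hUp.exists_le_sylow
  have hP'card : Nat.card (P' : Subgroup (Cfsg.SU 3 F (2 ^ n))) = (2 ^ n) ^ 3 := by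
    obtain ⟨k, hk⟩ := IsPGroup.iff_card.mp P'.isPGroup'
    have hdvd : Nat.card (P' : Subgroup (Cfsg.SU 3 F (2 ^ n))) ∣ Nat.card (Cfsg.SU 3 F (2 ^ n)) :=
      Subgroup.card_subgroup_dvd_card _
    rw [card_SU3 _ hF, hk] at hdvd
    have hcop : Nat.Coprime (2 ^ k) (((2 ^ n) ^ 2 - 1) * ((2 ^ n) ^ 3 + 1)) :=
      Nat.Coprime.pow_left k (Nat.coprime_two_left.mpr (odd_cofactor n (by omega)))
    have h1 : 2 ^ k ∣ (2 ^ n) ^ 3 := (Nat.Coprime.dvd_mul_right hcop).mp hdvd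
    have hle : Nat.card f.range ≤ Nat.card (P' : Subgroup (Cfsg.SU 3 F (2 ^ n))) :=
      Subgroup.card_le_of_le hP'
    rw [hU, hk] at hle
    rw [hk]
    exact Nat.le_antisymm (Nat.le_of_dvd (by positivity) h1) hle
  have hUP' : f.range = (P' : Subgroup (Cfsg.SU 3 F (2 ^ n))) :=
    Subgroup.eq_of_le_of_card_ge hP' (by rw [hU, hP'card])
  exact ⟨(MonoidHom.ofInjective hinj).trans
    ((MulEquiv.subgroupCongr hUP').trans (Sylow.equiv P' P))⟩

open Cfsg.Agent.Lib.Helper27.Unitary in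
theorem card_center_SU3 (q : ℕ) (hF : Fintype.card F = q ^ 2) :
    Nat.card (Subgroup.center (Cfsg.SU 3 F q)) = Nat.gcd 3 (q + 1) := by
  rw [card_center_congr (Cfsg.Agent.S0283.suEquiv 3 F q)]
  exact card_center_Gs hF (by norm_num)

theorem odd_card_center_SU3 (q : ℕ) (hF : Fintype.card F = q ^ 2) :
    Odd (Nat.card (Subgroup.center (Cfsg.SU 3 F q))) := by
  rw [card_center_SU3 q hF]
  have h : Nat.gcd 3 (q + 1) ∣ 3 := Nat.gcd_dvd_left 3 (q + 1)
  have h2 : Nat.gcd 3 (q + 1) = 1 ∨ Nat.gcd 3 (q + 1) = 3 :=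
    (Nat.dvd_prime Nat.prime_three).mp h
  rcases h2 with h2 | h2 <;> rw [h2] <;> decide

/-- every Sylow 2-subgroup of `PSU_3(q)` is isomorphic to one of `SU_3(q)` -/
theorem sylow_PSU_equiv (q : ℕ) (hF : Fintype.card F = q ^ 2) (S : Sylow 2 (Cfsg.PSU 3 F q)) :
    ∃ P : Sylow 2 (Cfsg.SU 3 F q), Nonempty ((P : Subgroup (Cfsg.SU 3 F q)) ≃*
      (S : Subgroup (Cfsg.PSU 3 F q))) := by
  haveI : Fact (Nat.Prime 2) := ⟨Nat.prime_two⟩
  haveI : Finite (Cfsg.SU 3 F q) := Finite.of_injective Subtype.val Subtype.val_injective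
  have hπ : Function.Surjective (QuotientGroup.mk' (Subgroup.center (Cfsg.SU 3 F q))) :=
    QuotientGroup.mk'_surjective _
  obtain ⟨P, hP⟩ := Sylow.mapSurjective_surjective hπ 2 S
  refine ⟨P, ?_⟩
  let f : (P : Subgroup (Cfsg.SU 3 F q)) →* Cfsg.PSU 3 F q :=
    (QuotientGroup.mk' (Subgroup.center (Cfsg.SU 3 F q))).comp (P : Subgroup (Cfsg.SU 3 F q)).subtype
  have hinj : Function.Injective f := by
    rw [injective_iff_map_eq_one]
    intro x hx
    have hxc : (x : Cfsg.SU 3 F q) ∈ Subgroup.center (Cfsg.SU 3 F q) :=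
      (QuotientGroup.eq_one_iff _).mp hx
    have h1 : orderOf (x : Cfsg.SU 3 F q) ∣ Nat.card (Subgroup.center (Cfsg.SU 3 F q)) := by
      have := orderOf_dvd_natCard (⟨(x : Cfsg.SU 3 F q), hxc⟩ : Subgroup.center (Cfsg.SU 3 F q))
      rwa [Subgroup.orderOf_mk] at this
    have h2 : orderOf (x : Cfsg.SU 3 F q) ∣ Nat.card (P : Subgroup (Cfsg.SU 3 F q)) := by
      have := orderOf_dvd_natCard x
      rwa [← Subgroup.orderOf_coe] at this
    obtain ⟨k, hk⟩ := IsPGroup.iff_card.mp P.isPGroup'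
    rw [hk] at h2
    have hcop : Nat.Coprime (2 ^ k) (Nat.card (Subgroup.center (Cfsg.SU 3 F q))) :=
      Nat.Coprime.pow_left k (Nat.coprime_two_left.mpr (odd_card_center_SU3 q hF))
    have h3 : orderOf (x : Cfsg.SU 3 F q) = 1 :=
      Nat.eq_one_of_dvd_coprimes hcop h2 h1
    have h4 : (x : Cfsg.SU 3 F q) = 1 := orderOf_eq_one_iff.mp h3
    exact Subtype.ext h4
  have hrange : f.range = (S : Subgroup (Cfsg.PSU 3 F q)) := by
    rw [MonoidHom.range_comp, Subgroup.range_subtype, ← hP]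
    rfl
  exact ⟨(MonoidHom.ofInjective hinj).trans (MulEquiv.subgroupCongr hrange)⟩

/-- all the structural properties of a Sylow 2-subgroup of `PSU_3(2^n)` -/
theorem pack_sylow_PSU (n : ℕ) (hn : 2 ≤ n) (hF : Fintype.card F = (2 ^ n) ^ 2)
    (S : Sylow 2 (Cfsg.PSU 3 F (2 ^ n))) :
    Pack (S : Subgroup (Cfsg.PSU 3 F (2 ^ n))) (2 ^ n) := by
  obtain ⟨P, ⟨e2⟩⟩ := sylow_PSU_equiv (2 ^ n) hF S
  obtain ⟨e1⟩ := sylow_SU_equiv n hn hF P
  exact (pack_par n hn hF).congr (e1.trans e2)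

/-- all the structural properties of a Sylow 2-subgroup of `SU_3(2^n)` -/
theorem pack_sylow_SU (n : ℕ) (hn : 2 ≤ n) (hF : Fintype.card F = (2 ^ n) ^ 2)
    (P : Sylow 2 (Cfsg.SU 3 F (2 ^ n))) :
    Pack (P : Subgroup (Cfsg.SU 3 F (2 ^ n))) (2 ^ n) := by
  obtain ⟨e1⟩ := sylow_SU_equiv n hn hF P
  exact (pack_par n hn hF).congr e1

end Cfsg.Agent.Lib.Helper6.SU3Sylow
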