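import Mathlib
import Cfsg.Agent.Lib.Helper13.Coprime
import Cfsg.Agent.Lib.Helper13.CoprimeSylow
import Cfsg.Agent.Lib.Helper1.CoprimeAction
import Cfsg.Agent.S0055

set_option autoImplicit false

namespace Cfsg.Agent.Lib.Helper6

universe u

open Cfsg.Agent.Lib.Helper13
open scoped commutatorElement

section
variable {Γ : Type u} [Group Γ]

/-- The commutator subgroup of a Z-group `N ≤ Γ` is cyclic (as a subgroup of `Γ`). -/
theorem isCyclic_commutator_self [Finite Γ] (N : Subgroup Γ) [IsZGroup ↥N] : IsCyclic ↥⁅N, N⁆ := by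
  have h := IsZGroup.isCyclic_commutator ↥N
  let f := Subgroup.equivMapOfInjective (commutator ↥N) _ N.subtype_injective
  rw [Subgroup.map_subtype_commutator] at f
  exact isCyclic_of_surjective f f.surjective

/-- A group normalizing a cyclic subgroup `D` has its commutator subgroup centralizing `D`. -/
theorem commutator_le_centralizer_of_isCyclic (D M : Subgroup Γ) [hD : IsCyclic ↥D]
    (hM : M ≤ Subgroup.normalizer (D : Set Γ)) : ⁅M, M⁆ ≤ Subgroup.centralizer (D : Set Γ) := by
  let _ := (hD.mulAutMulEquiv _).toMonoidHom.commGroupOfInjective (hD.mulAutMulEquiv _).injective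
  let ρ : ↥M →* MulAut ↥D := D.normalizerMonoidHom.comp (Subgroup.inclusion hM)
  have hρ : ∀ (m : ↥M) (d : ↥D), ((ρ m d : ↥D) : Γ) = m * d * (m : Γ)⁻¹ := fun _ _ => rfl
  have h := Abelianization.commutator_subset_ker ρ
  rw [Subgroup.commutator_le]
  intro x hx y hy
  have hmem : ⁅(⟨x, hx⟩ : ↥M), ⟨y, hy⟩⁆ ∈ commutator ↥M :=
    Subgroup.commutator_mem_commutator (Subgroup.mem_top _) (Subgroup.mem_top _)
  have h1 := MonoidHom.mem_ker.mp (h hmem)
  rw [Subgroup.mem_centralizer_iff]
  intro d hd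
  have h2 := congrArg (fun f => ((f ⟨d, hd⟩ : ↥D) : Γ)) h1
  simp only [hρ, MulAut.one_apply] at h2
  have h3 : ((⁅(⟨x, hx⟩ : ↥M), ⟨y, hy⟩⁆ : ↥M) : Γ) = ⁅x, y⁆ := by
    simp [commutatorElement_def]
  rw [h3] at h2
  calc d * ⁅x, y⁆ = (⁅x, y⁆ * d * ⁅x, y⁆⁻¹) * ⁅x, y⁆ := by rw [h2]
    _ = ⁅x, y⁆ * d := by group

/-- In a Z-group `N`, the centralizer in `N` of the commutator subgroup is cyclic. -/
theorem isCyclic_inf_centralizer_commutator [Finite Γ] (N : Subgroup Γ) [IsZGroup ↥N] :
    IsCyclic ↥(N ⊓ Subgroup.centralizer ((⁅N, N⁆ : Subgroup Γ) : Set Γ)) := by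
  set D : Subgroup Γ := ⁅N, N⁆ with hD
  set Cn : Subgroup Γ := N ⊓ Subgroup.centralizer (D : Set Γ) with hCn
  let f : ↥Cn →* Abelianization ↥N := Abelianization.of.comp (Subgroup.inclusion inf_le_left)
  have hker : f.ker ≤ Subgroup.center ↥Cn := by
    intro c hc
    rw [MonoidHom.mem_ker] at hc
    have h1 : Subgroup.inclusion (inf_le_left : Cn ≤ N) c ∈ commutator ↥N := by
      rw [← Abelianization.ker_of]; exact hc
    have h2 : (c : Γ) ∈ D := by
      rw [hD, ← Subgroup.map_subtype_commutator]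
      exact ⟨_, h1, rfl⟩
    rw [Subgroup.mem_center_iff]
    intro x
    apply Subtype.ext
    have h3 : (c : Γ) * x = x * c := Subgroup.mem_centralizer_iff.mp x.2.2 c h2
    simpa using h3.symm
  haveI : IsCyclic (Abelianization ↥N) := inferInstance
  letI : CommGroup ↥Cn := commGroupOfCyclicCenterQuotient f hker
  haveI : IsZGroup ↥Cn :=
    IsZGroup.of_injective (f := Subgroup.inclusion (inf_le_left : Cn ≤ N))
      (Subgroup.inclusion_injective _)
  infer_instance

end

/-- **Coprime action on a Z-group** (internal form): `[N,A]` is cyclic, `[N,A] ∩ C_N(A) = 1`,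
`[N,A] C_N(A) = N`, and the orders of `C_N(A)` and `[N,A]` are coprime. -/
theorem zgroup_coprime {Γ : Type u} [Group Γ] [Finite Γ] (A N : Subgroup Γ) [IsZGroup ↥N]
    (hAN : A ≤ Subgroup.normalizer (N : Set Γ)) (hcop : (Nat.card A).Coprime (Nat.card N)) :
    IsCyclic ↥⁅N, A⁆ ∧ ⁅N, A⁆ ⊓ (N ⊓ Subgroup.centralizer (A : Set Γ)) = ⊥ ∧
    ⁅N, A⁆ ⊔ (N ⊓ Subgroup.centralizer (A : Set Γ)) = N ∧
    Nat.card N = Nat.card ↥⁅N, A⁆ * Nat.card ↥(N ⊓ Subgroup.centralizer (A : Set Γ)) ∧
    (Nat.card ↥(N ⊓ Subgroup.centralizer (A : Set Γ))).Coprime (Nat.card ↥⁅N, A⁆) := by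
  set K : Subgroup Γ := ⁅N, A⁆ with hK
  set C : Subgroup Γ := N ⊓ Subgroup.centralizer (A : Set Γ) with hC
  have hsolvN : Group.IsSolvable ↥N := inferInstance
  have hKN : K ≤ N := commutator_le_of_le_normalizer N A hAN
  have hnormK : N ⊔ A ≤ Subgroup.normalizer (K : Set Γ) := le_normalizer_commutator N A
  -- `K` is cyclic
  haveI hD : IsCyclic ↥⁅N, N⁆ := isCyclic_commutator_self N
  have hMD : N ⊔ A ≤ Subgroup.normalizer ((⁅N, N⁆ : Subgroup Γ) : Set Γ) := by
    apply sup_le
    · exact le_sup_left.trans (le_normalizer_commutator N N)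
    · intro a ha
      exact Cfsg.Agent.Lib.Helper1.mem_normalizer_commutator N N a (hAN ha) (hAN ha)
  have hKcent : K ≤ Subgroup.centralizer ((⁅N, N⁆ : Subgroup Γ) : Set Γ) :=
    (Subgroup.commutator_mono le_sup_left le_sup_right).trans
      (commutator_le_centralizer_of_isCyclic ⁅N, N⁆ (N ⊔ A) hMD)
  have hKCn : K ≤ N ⊓ Subgroup.centralizer ((⁅N, N⁆ : Subgroup Γ) : Set Γ) := le_inf hKN hKcent
  haveI hCn := isCyclic_inf_centralizer_commutator N
  have hKcyc : IsCyclic ↥K := by
    haveI : IsCyclic ↥(K.subgroupOf (N ⊓ Subgroup.centralizer ((⁅N, N⁆ : Subgroup Γ) : Set Γ))) :=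
      Subgroup.isCyclic _
    exact isCyclic_of_surjective (Subgroup.subgroupOfEquivOfLe hKCn)
      (Subgroup.subgroupOfEquivOfLe hKCn).surjective
  have hsup : K ⊔ C = N := coprime_commutator_sup_centralizer A N hAN hcop (Or.inr hsolvN)
  have hinf : K ⊓ C = ⊥ := by
    have hstable : ⁅K, A⁆ = K := coprime_commutator_stable A N hAN hcop (Or.inr hsolvN)
    haveI : IsMulCommutative ↥K := IsCyclic.isMulCommutative
    have hAK : A ≤ Subgroup.normalizer (K : Set Γ) := le_sup_right.trans hnormK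
    have hcopK : (Nat.card A).Coprime (Nat.card K) :=
      Nat.Coprime.coprime_dvd_right (Subgroup.card_dvd_of_le hKN) hcop
    have h55 := (Cfsg.Agent.S0055.result A K hAK hcopK).1
    rw [hstable] at h55
    rw [eq_bot_iff]
    intro x hx
    have hx' : x ∈ (K ⊓ Subgroup.centralizer (A : Set Γ)) ⊓ K := ⟨⟨hx.1, hx.2.2⟩, hx.1⟩
    rw [h55] at hx'
    exact hx'
  have hcard : Nat.card N = Nat.card K * Nat.card C := by
    have hcompl := isComplement'_subgroupOf_of_le_normalizer hKN (inf_le_left : C ≤ N)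
      (le_sup_left.trans hnormK) hinf hsup
    have h := hcompl.card_mul_card
    rw [card_subgroupOf_of_le hKN, card_subgroupOf_of_le (inf_le_left : C ≤ N)] at h
    exact h.symm
  refine ⟨hKcyc, hinf, hsup, hcard, ?_⟩
  by_contra hnot
  obtain ⟨p, hp, hpC, hpK⟩ := Nat.Prime.not_coprime_iff_dvd.mp hnot
  haveI : Fact p.Prime := ⟨hp⟩
  obtain ⟨P, hAP⟩ := exists_invariant_sylow A N hAN hcop (Or.inr hsolvN) p
  set P' : Subgroup Γ := (P : Subgroup ↥N).map N.subtype with hP'
  have hP'N : P' ≤ N := Subgroup.map_subtype_le _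
  have hP'card : Nat.card P' = p ^ (Nat.card N).factorization p := by
    rw [hP', Subgroup.card_map_of_injective N.subtype_injective, P.card_eq_multiplicity]
  haveI : IsCyclic ↥P' := by
    haveI : IsCyclic ↥(P : Subgroup ↥N) := inferInstance
    exact isCyclic_of_surjective ((P : Subgroup ↥N).equivMapOfInjective _ N.subtype_injective)
      (MulEquiv.surjective _)
  have hP'p : IsPGroup p P' := P.2.map _
  have hcopP : (Nat.card P').Coprime (Nat.card A) :=
    (Nat.Coprime.coprime_dvd_right (Subgroup.card_dvd_of_le hP'N) hcop).symm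
  have hNpos : Nat.card N ≠ 0 := Nat.card_pos.ne'
  rcases hP'p.commutator_eq_bot_or_commutator_eq_self hAP hcopP with h | h
  · have hP'C : P' ≤ C := by
      refine le_inf hP'N ?_
      rw [Subgroup.commutator_eq_bot_iff_le_centralizer] at h
      rw [Subgroup.le_centralizer_iff]
      exact h
    have hdvd : p ^ ((Nat.card N).factorization p + 1) ∣ Nat.card N := by
      rw [pow_succ, ← hP'card, hcard, mul_comm (Nat.card P') p]
      exact Nat.mul_dvd_mul hpK (Subgroup.card_dvd_of_le hP'C)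
    exact Nat.pow_succ_factorization_not_dvd hNpos hp hdvd
  · have hP'K : P' ≤ K := by
      rw [← h, Subgroup.commutator_comm]
      exact Subgroup.commutator_mono hP'N le_rfl
    have hdvd : p ^ ((Nat.card N).factorization p + 1) ∣ Nat.card N := by
      rw [pow_succ, ← hP'card, hcard]
      exact Nat.mul_dvd_mul (Subgroup.card_dvd_of_le hP'K) hpC
    exact Nat.pow_succ_factorization_not_dvd hNpos hp hdvd

end Cfsg.Agent.Lib.Helper6
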